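import Groth.Agent.Hensel.SmoothLift
import Groth.Agent.Hensel.StrictSchemes
import Mathlib.AlgebraicGeometry.Morphisms.Smooth

set_option autoImplicit false
set_option linter.style.haveILetI false

/-!
# Sections of smooth morphisms over henselian local rings
-/

universe u

open IsLocalRing CategoryTheory CategoryTheory.Limits AlgebraicGeometry

namespace Groth.Agent.HensEt88

noncomputable section

theorem exists_section_smooth (A : Type u) [CommRing A] [HenselianLocalRing A]
    {X : Scheme.{u}} (f : X ⟶ Spec (CommRingCat.of A)) [Smooth f]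
    (u₀ : Spec (CommRingCat.of (ResidueField A)) ⟶ X)
    (h₀ : u₀ ≫ f = Spec.map (CommRingCat.ofHom (residue A))) :
    ∃ u : Spec (CommRingCat.of A) ⟶ X, u ≫ f = 𝟙 _ ∧
      Spec.map (CommRingCat.ofHom (residue A)) ≫ u = u₀ := by
  let pt : Spec (CommRingCat.of (ResidueField A)) := closedPoint (ResidueField A)
  obtain ⟨S, j, hj, ⟨y, hy⟩, -⟩ := Scheme.exists_affine_mem_range_and_range_subset
    (x := u₀.base pt) (U := (⊤ : X.Opens)) (by simp)
  obtain ⟨φR, hφR⟩ := Spec.map_surjective (j ≫ f)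
  algebraize [φR.hom]
  have : Algebra.Smooth A S := by
    have h : Smooth (Spec.map φR) := by rw [hφR]; infer_instance
    exact (HasRingHomProperty.Spec_iff (P := @Smooth)).mp h
  haveI : Subsingleton (Spec (CommRingCat.of (ResidueField A))) :=
    inferInstanceAs (Subsingleton (PrimeSpectrum (ResidueField A)))
  have hsub : Set.range u₀.base ⊆ Set.range j.base := by
    rintro _ ⟨p, rfl⟩
    rw [Subsingleton.elim p pt]
    exact ⟨y, hy⟩
  obtain ⟨ψ₀, hψ₀⟩ := Spec.map_surjective (IsOpenImmersion.lift j u₀ hsub)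
  have hfac : Spec.map ψ₀ ≫ j = u₀ := by rw [hψ₀, IsOpenImmersion.lift_fac]
  have hcomp : φR ≫ ψ₀ = CommRingCat.ofHom (residue A) := Spec.map_injective (by
    rw [Spec.map_comp, hφR, ← Category.assoc, hfac, h₀])
  let σ : S →ₐ[A] A ⧸ maximalIdeal A :=
    AlgHom.mk (ψ₀.hom : S →+* A ⧸ maximalIdeal A) (fun a => congr($(congrArg CommRingCat.Hom.hom hcomp) a))
  obtain ⟨τ, hτ⟩ := Hensel.exists_smooth_lift (maximalIdeal A) σ
  refine ⟨Spec.map (CommRingCat.ofHom τ.toRingHom) ≫ j, ?_, ?_⟩
  · rw [Category.assoc, ← hφR, ← Spec.map_comp, ← Spec.map_id]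
    congr 1
    ext r
    exact τ.commutes r
  · rw [← Category.assoc, ← Spec.map_comp]
    conv_rhs => rw [← hfac]
    congr 2
    ext s
    exact congr($hτ s)

end

end Groth.Agent.HensEt88
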