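import Groth.Agent.AnLocal.Henselian
import Groth.Agent.Hensel.Henselization

set_option autoImplicit false
set_option linter.style.haveILetI false

/-!
# Quotients of strict henselizations
-/

universe u

open IsLocalRing

namespace Groth.Agent.HensEt88

noncomputable section

/-- A quotient of a strict henselization is the strict henselization of the quotient. -/
theorem isStrictHenselization_of_surjective (A T B U : Type u) [CommRing A] [IsLocalRing A] [CommRing T]
    [IsLocalRing T] [Algebra A T] [IsLocalHom (algebraMap A T)] [hT : Hensel.IsStrictHenselization A T]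
    [CommRing B] [IsLocalRing B] [CommRing U] [IsLocalRing U] [Algebra B U] [IsLocalHom (algebraMap B U)]
    (πA : A →+* B) (πT : T →+* U) (hA : Function.Surjective πA) (hπT : Function.Surjective πT)
    (hcomm : πT.comp (algebraMap A T) = (algebraMap B U).comp πA)
    (hker : RingHom.ker πT = (RingHom.ker πA).map (algebraMap A T)) :
    Hensel.IsStrictHenselization B U := by
  haveI := hT.henselian
  haveI : IsLocalHom πA := hA.isLocalHom πA
  haveI : IsLocalHom πT := hπT.isLocalHom πT
  have hbA : Function.Bijective (ResidueField.map πA) := ⟨RingHom.injective _, fun y => by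
    obtain ⟨b, rfl⟩ := residue_surjective y
    obtain ⟨a, rfl⟩ := hA b
    exact ⟨residue A a, rfl⟩⟩
  have hbT : Function.Bijective (ResidueField.map πT) := ⟨RingHom.injective _, fun y => by
    obtain ⟨b, rfl⟩ := residue_surjective y
    obtain ⟨a, rfl⟩ := hπT b
    exact ⟨residue T a, rfl⟩⟩
  have hres : (ResidueField.map πT).comp (ResidueField.map (algebraMap A T)) =
      (ResidueField.map (algebraMap B U)).comp (ResidueField.map πA) := RingHom.ext fun x => by
    obtain ⟨x, rfl⟩ := residue_surjective x
    exact congrArg (residue U) congr($hcomm x)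
  refine ⟨AnLocal.henselianLocalRing_of_surjective' πT hπT, ?_, fun T' _ _ f _ τ hτ => ?_⟩
  · haveI := hT.isSepClosure.sep_closed
    haveI := hT.isSepClosure.separable
    refine ⟨Hensel.isSepClosed_of_ringEquiv (RingEquiv.ofBijective _ hbT), ?_⟩
    exact Algebra.IsSeparable.of_equiv_equiv (RingEquiv.ofBijective _ hbA) (RingEquiv.ofBijective _ hbT)
      hres.symm
  · haveI : IsLocalHom (f.comp πA) := RingHom.isLocalHom_comp _ _
    obtain ⟨g, ⟨hg1, hg2⟩, huniq⟩ := hT.universal T' (f.comp πA) (τ.comp (ResidueField.map πT)) (by
      rw [RingHom.comp_assoc, hres, ← RingHom.comp_assoc, hτ]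
      exact RingHom.ext fun x => by
        obtain ⟨x, rfl⟩ := residue_surjective x
        rfl)
    have hgker : RingHom.ker πT ≤ RingHom.ker g := by
      rw [hker, Ideal.map_le_iff_le_comap]
      intro a ha
      show g (algebraMap A T a) = 0
      rw [show g (algebraMap A T a) = f (πA a) from congr($hg1 a), RingHom.mem_ker.mp ha, map_zero]
    let g' : U →+* T' := πT.liftOfSurjective hπT ⟨g, hgker⟩
    have hg' : ∀ t, g' (πT t) = g t := fun t => RingHom.liftOfRightInverse_comp_apply _ _ _ _ t
    refine ⟨g', ⟨RingHom.ext fun b => ?_, fun x => ?_⟩, fun h hh => ?_⟩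
    · obtain ⟨a, rfl⟩ := hA b
      show g' (algebraMap B U (πA a)) = f (πA a)
      rw [← show πT (algebraMap A T a) = algebraMap B U (πA a) from congr($hcomm a), hg']
      exact congr($hg1 a)
    · obtain ⟨t, rfl⟩ := hπT x
      rw [hg', hg2]; rfl
    · have : h.comp πT = g := huniq _ ⟨by rw [RingHom.comp_assoc, hcomm, ← RingHom.comp_assoc, hh.1],
        fun t => (hh.2 (πT t)).trans rfl⟩
      refine RingHom.ext fun x => ?_
      obtain ⟨t, rfl⟩ := hπT x
      rw [hg']; exact congr($this t)

end

end Groth.Agent.HensEt88
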