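import Groth.Agent.S2730
import Groth.Agent.S2750
import Groth.Agent.CplFib6.PSRegular
import Groth.Agent.FlatLoc6.GeomComp
import Groth.Agent.Hensel.TensorHenzFinite
import Groth.Agent.UnibEtale.Basic

set_option autoImplicit false
set_option linter.style.haveILetI false

/-!
# Smooth algebras over strictly henselian domains
-/

universe u

open IsLocalRing TensorProduct

namespace Groth.Agent.HensEt88

noncomputable section

theorem isGeomUnibranch_of_strictlyHenselian (R : Type u) [CommRing R] [IsDomain R] [HenselianLocalRing R]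
    [IsSepClosed (ResidueField R)] : CAlg2.IsGeomUnibranch R := by
  haveI : IsLocalHom (algebraMap R R) := ⟨fun _ h => h⟩
  haveI := Hensel.isStrictHenselization_self R ‹_› ‹_›
  exact ((S2750.result R R).mpr ‹_›).2

/-- Localizations of smooth algebras over a strictly henselian domain at primes over the closed point. -/
theorem domain_geomUnibranch_smooth (R R' : Type u) [CommRing R] [IsDomain R] [IsNoetherianRing R]
    [HenselianLocalRing R] [IsSepClosed (ResidueField R)] [CommRing R'] [Algebra R R'] [Algebra.Smooth R R']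
    (p : Ideal R') [p.IsPrime] (hp : (maximalIdeal R).map (algebraMap R R') ≤ p) :
    IsDomain (Localization.AtPrime p) ∧ CAlg2.IsGeomUnibranch (Localization.AtPrime p) := by
  haveI : IsNoetherianRing R' := Algebra.FiniteType.isNoetherianRing R R'
  have hn : EGA4.IsNormalHom R R' :=
    FlatLoc6.isNormalHom_of_isRegularHom R R' (CplFib6.isRegularHom_of_smooth R R')
  let e : R ⊗[R] R' ≃ₐ[R] R' := Algebra.TensorProduct.lid R R'
  let q : Ideal (R ⊗[R] R') := p.comap e.toRingEquiv.toRingHom
  haveI : q.IsPrime := Ideal.IsPrime.comap _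
  have hq : q.comap (algebraMap R (R ⊗[R] R')) = maximalIdeal R := by
    refine ((maximalIdeal.isMaximal R).eq_of_le (Ideal.IsPrime.comap _).ne_top fun a ha => ?_).symm
    show e (algebraMap R (R ⊗[R] R') a) ∈ p
    rw [e.commutes]
    exact hp (Ideal.mem_map_of_mem _ ha)
  obtain ⟨hu, hd⟩ := S2730.result R R' hn R (isGeomUnibranch_of_strictlyHenselian R) q hq
  let ε : Localization.AtPrime q ≃+* Localization.AtPrime p :=
    IsLocalization.ringEquivOfRingEquiv (M := q.primeCompl) (T := p.primeCompl) _ _ e.toRingEquiv (by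
      ext x
      exact ⟨fun ⟨y, hy, hxy⟩ => hxy ▸ hy, fun hx => ⟨e.symm x, fun h => hx (by simpa [q] using h), e.apply_symm_apply x⟩⟩)
  exact ⟨haveI := hd inferInstance; ε.symm.toMulEquiv.isDomain _, UnibEtale.isGeomUnibranch_of_ringEquiv ε hu⟩

end

end Groth.Agent.HensEt88
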