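import Groth.Agent.HensEt88.SolutionModel
import Groth.Agent.EGA41Lib.FieldFS
import Groth.Agent.CoeffField.Smooth

/-!
# Abhyankar's lemma for extensions of discrete valuation rings
-/

set_option autoImplicit false
set_option linter.style.haveILetI false

namespace Groth.Agent.HensEt88

universe u

open IsLocalRing TensorProduct Polynomial

/-- Adjoining a root of a unit, of exponent a unit, preserves reducedness. -/
theorem isReduced_adjoinRoot_unit {S : Type u} [CommRing S] [IsReduced S] {e : ℕ} (he : IsUnit (e : S)) (he0 : e ≠ 0)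
    {c : S} (hc : IsUnit c) : IsReduced (AdjoinRoot (X ^ e - C c : S[X])) := by
  classical
  rcases subsingleton_or_nontrivial S with hS | hS
  · haveI : Subsingleton (AdjoinRoot (X ^ e - C c : S[X])) := (AdjoinRoot.mk_surjective).subsingleton
    exact isReduced_iff_pow_one_lt 2 one_lt_two |>.mpr fun z _ => Subsingleton.elim _ _
  set f := (X ^ e - C c : S[X]) with hf
  have hm : f.Monic := monic_X_pow_sub_C c he0
  refine isReduced_iff_pow_one_lt 2 one_lt_two |>.mpr fun z hz => ?_
  obtain ⟨P, rfl⟩ := AdjoinRoot.mk_surjective z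
  have h0 : AdjoinRoot.mk f P = AdjoinRoot.mk f (P %ₘ f) := by
    conv_lhs => rw [← modByMonic_add_div P f, map_add, map_mul, AdjoinRoot.mk_self, zero_mul, add_zero]
  rw [h0] at hz ⊢
  rw [← map_pow, AdjoinRoot.mk_eq_zero] at hz
  suffices h : P %ₘ f = 0 by rw [h, map_zero]
  ext n
  rw [coeff_zero]
  refine IsReduced.eq_zero _ (mem_nilradical.mp ?_)
  rw [nilradical_eq_sInf, Ideal.mem_sInf]
  intro p hp
  haveI : p.IsPrime := hp
  let F := FractionRing (S ⧸ p)
  let φ : S →+* F := (algebraMap (S ⧸ p) F).comp (Ideal.Quotient.mk p)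
  have hfF : f.map φ = X ^ e - C (φ c) := by simp [hf]
  have hsep : (f.map φ).Separable := by
    rw [hfF]
    refine separable_X_pow_sub_C _ ?_ (hc.map φ).ne_zero
    rw [← map_natCast φ]; exact (he.map φ).ne_zero
  have h1 : f.map φ ∣ ((P %ₘ f).map φ) ^ 2 := by rw [← Polynomial.map_pow]; exact Polynomial.map_dvd φ hz
  have h2 := hsep.squarefree.isRadical 2 _ h1
  have h3 : (P %ₘ f).map φ = 0 := by
    refine eq_zero_of_dvd_of_degree_lt h2 ?_
    calc ((P %ₘ f).map φ).degree ≤ (P %ₘ f).degree := degree_map_le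
      _ < f.degree := degree_modByMonic_lt P hm
      _ = (f.map φ).degree := (hm.degree_map φ).symm
  have h4 := congrArg (fun Q => Q.coeff n) h3
  simp only [coeff_map, coeff_zero] at h4
  rw [RingHom.comp_apply, IsFractionRing.to_map_eq_zero_iff, Ideal.Quotient.eq_zero_iff_mem] at h4
  exact h4

theorem isGeometricallyReduced_of_charZero (k l : Type u) [Field k] [Field l] [Algebra k l] [CharZero k] :
    Algebra.IsGeometricallyReduced k l := by
  haveI := CoeffField.formallySmooth_of_perfectField k l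
  exact EGA41Lib.FieldFS.isGeometricallyReduced_of_formallySmooth k l

/-- A valuation subring of a finite extension dominating a DVR is a DVR. -/
theorem isDiscreteValuationRing_of_dominates_finite {A K K₁ : Type u} [CommRing A] [IsDomain A]
    [IsDiscreteValuationRing A] [Field K] [Algebra A K] [IsFractionRing A K] [Field K₁] [Algebra K K₁]
    [FiniteDimensional K K₁] {U : ValuationSubring K₁}
    (hU : EtRam.Dominates A ((algebraMap K K₁).comp (algebraMap A K)) U) : IsDiscreteValuationRing U := by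
  letI : Algebra A K₁ := ((algebraMap K K₁).comp (algebraMap A K)).toAlgebra
  haveI : IsScalarTower A K K₁ := .of_algebraMap_eq' rfl
  let R : Subalgebra A K₁ := { U.toSubring with algebraMap_mem' := hU.1 }
  haveI : IsNoetherianRing R := isNoetherianRing_of_finite_extension A K K₁ R fun y => by
    rcases U.mem_or_inv_mem y with h | h
    · exact ⟨y, h, 1, one_mem U, one_ne_zero, (mul_one y).symm⟩
    · by_cases hy : y = 0
      · exact ⟨0, zero_mem U, 1, one_mem U, one_ne_zero, by rw [hy, zero_mul]⟩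
      · exact ⟨1, one_mem U, y⁻¹, h, inv_ne_zero hy, (mul_inv_cancel₀ hy).symm⟩
  haveI : IsNoetherianRing U := ‹IsNoetherianRing R›
  haveI : IsPrincipalIdealRing U := ((IsBezout.TFAE (R := U)).out 0 1).mp ‹IsNoetherianRing U›
  refine { not_a_field' := fun hbot => ?_ }
  haveI := Dominates.isLocalHom hU
  obtain ⟨π, hπ⟩ := IsDiscreteValuationRing.exists_irreducible A
  have h1 : ((algebraMap K K₁).comp (algebraMap A K)).codRestrict U hU.1 π ∈ maximalIdeal U :=
    map_nonunit _ π hπ.not_isUnit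
  rw [hbot, Ideal.mem_bot] at h1
  exact hπ.ne_zero (IsFractionRing.injective A K ((algebraMap K K₁).injective (by
    rw [map_zero, map_zero]; exact congrArg Subtype.val h1)))

variable {A B K L K₁ M : Type u} [CommRing A] [IsDomain A] [IsDiscreteValuationRing A]
  [CommRing B] [IsDomain B] [IsDiscreteValuationRing B] [Algebra A B] [IsLocalHom (algebraMap A B)]
  [Field K] [Algebra A K] [IsFractionRing A K] [Field L] [Algebra B L] [IsFractionRing B L]
  [Field K₁] [Algebra K K₁] [FiniteDimensional K K₁]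
  [Field M] [Algebra L M] [Algebra K₁ M] [Algebra K M] [IsScalarTower K K₁ M]

/-- Abhyankar's lemma. -/
theorem abhyankar_local [FiniteDimensional L M] [Algebra B M] [IsScalarTower B L M]
    [Algebra.IsGeometricallyReduced (ResidueField A) (ResidueField B)]
    (hinj : Function.Injective (algebraMap A B))
    (hne : ((Ideal.ramificationIdx' (maximalIdeal A) (maximalIdeal B) : ℕ) : ResidueField A) ≠ 0)
    (hcomm : ∀ a : A, algebraMap B M (algebraMap A B a) = algebraMap K M (algebraMap A K a))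
    (hgen : Algebra.adjoin L (Set.range (algebraMap K₁ M)) = ⊤)
    (W : ValuationSubring M) (hW : EtRam.Dominates B (algebraMap B M) W)
    (hA : ∀ a : A, (algebraMap K K₁) (algebraMap A K a) ∈ W.comap (algebraMap K₁ M))
    (hdvd : letI : Algebra A (W.comap (algebraMap K₁ M)) :=
        (RingHom.codRestrict ((algebraMap K K₁).comp (algebraMap A K)) (W.comap (algebraMap K₁ M)) hA).toAlgebra
      Ideal.ramificationIdx' (maximalIdeal A) (maximalIdeal B) ∣
        Ideal.ramificationIdx' (maximalIdeal A) (maximalIdeal (W.comap (algebraMap K₁ M)))) :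
    @EtRam.IsWeaklyUnramified (W.comap (algebraMap K₁ M)) W _ _ _ _
      (EtRam.inclOfComap W (algebraMap K₁ M)).toAlgebra ∧
    @Algebra.IsGeometricallyReduced (ResidueField (W.comap (algebraMap K₁ M))) (ResidueField W) _ _
      (ResidueField.map (EtRam.inclOfComap W (algebraMap K₁ M))).toAlgebra := by
  classical
  let U := W.comap (algebraMap K₁ M)
  letI : Algebra A U := (RingHom.codRestrict ((algebraMap K K₁).comp (algebraMap A K)) U hA).toAlgebra
  have hAW : EtRam.Dominates A ((algebraMap K M).comp (algebraMap A K)) W :=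
    ⟨fun a => by rw [RingHom.comp_apply, ← hcomm]; exact hW.1 _,
     fun a ha => by rw [RingHom.comp_apply, ← hcomm]; exact hW.2 _ (map_nonunit (algebraMap A B) a ha)⟩
  have hU : EtRam.Dominates A ((algebraMap K K₁).comp (algebraMap A K)) U :=
    dominates_comap (algebraMap K₁ M) (by rw [← RingHom.comp_assoc, ← IsScalarTower.algebraMap_eq K K₁ M]) hAW
  haveI : IsLocalHom (algebraMap A U) := Dominates.isLocalHom hU
  haveI := isDiscreteValuationRing_of_dominates_finite hU
  haveI := isAlgebraic_residueField U hU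
  letI aUW : Algebra U W := (EtRam.inclOfComap W (algebraMap K₁ M)).toAlgebra
  haveI : IsLocalHom (algebraMap U W) := EtRam.isLocalHom_inclOfComap _ _
  letI : Algebra B W := ((algebraMap B M).codRestrict W hW.1).toAlgebra
  haveI : IsLocalHom (algebraMap B W) := Dominates.isLocalHom hW
  letI : Algebra A W := ((algebraMap B W).comp (algebraMap A B)).toAlgebra
  haveI : IsScalarTower A B W := .of_algebraMap_eq' rfl
  haveI : IsScalarTower A U W := .of_algebraMap_eq fun a => Subtype.ext (by
    show algebraMap B M (algebraMap A B a) = algebraMap K₁ M (algebraMap K K₁ (algebraMap A K a))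
    rw [hcomm, ← IsScalarTower.algebraMap_apply K K₁ M])
  haveI : IsLocalHom (algebraMap A W) := RingHom.isLocalHom_comp _ _
  -- uniformizers
  have hmB : (maximalIdeal A).map (algebraMap A B) ≠ ⊥ := by
    rw [Ne, Ideal.map_eq_bot_iff_of_injective hinj]; exact IsDiscreteValuationRing.not_a_field A
  have hmU : (maximalIdeal A).map (algebraMap A U) ≠ ⊥ := map_maximalIdeal_ne_bot hU
  have hBpow := map_maximalIdeal_eq_pow A B hmB
  have hUpow := map_maximalIdeal_eq_pow A U hmU
  have hdvd' : Ideal.ramificationIdx' (maximalIdeal A) (maximalIdeal B) ∣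
      Ideal.ramificationIdx' (maximalIdeal A) (maximalIdeal U) := hdvd
  generalize Ideal.ramificationIdx' (maximalIdeal A) (maximalIdeal B) = e at hne hdvd' hBpow
  generalize Ideal.ramificationIdx' (maximalIdeal A) (maximalIdeal U) = e₁ at hdvd' hUpow
  obtain ⟨d, rfl⟩ := hdvd'
  have he0 : e ≠ 0 := fun h => hne (by rw [h, Nat.cast_zero])
  obtain ⟨π, hπ⟩ := IsDiscreteValuationRing.exists_irreducible A
  obtain ⟨ϖ, hϖ⟩ := IsDiscreteValuationRing.exists_irreducible B
  obtain ⟨u₁, hu₁⟩ := IsDiscreteValuationRing.exists_irreducible U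
  have hd0 : d ≠ 0 := by
    intro h
    rw [h, mul_zero, pow_zero, Ideal.one_eq_top] at hUpow
    exact (maximalIdeal.isMaximal U).ne_top (top_le_iff.mp (hUpow.ge.trans
      (((local_hom_TFAE (algebraMap A U)).out 0 2).mp ‹IsLocalHom (algebraMap A U)›)))
  obtain ⟨vB, hvB⟩ : ∃ v : Bˣ, algebraMap A B π * v = ϖ ^ e := by
    refine Ideal.span_singleton_eq_span_singleton.mp ?_
    rw [← Ideal.span_singleton_pow, ← hϖ.maximalIdeal_eq, ← hBpow, ← Set.image_singleton, ← Ideal.map_span]
    exact congrArg (Ideal.map (algebraMap A B)) hπ.maximalIdeal_eq.symm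
  obtain ⟨wU, hwU⟩ : ∃ v : Uˣ, algebraMap A U π * v = u₁ ^ (e * d) := by
    refine Ideal.span_singleton_eq_span_singleton.mp ?_
    rw [← Ideal.span_singleton_pow, ← hu₁.maximalIdeal_eq, ← hUpow, ← Set.image_singleton, ← Ideal.map_span]
    exact congrArg (Ideal.map (algebraMap A U)) hπ.maximalIdeal_eq.symm
  -- the root
  let u' : U := u₁ ^ d
  have hϖM : algebraMap B M ϖ ≠ 0 := by
    rw [IsScalarTower.algebraMap_apply B L M]
    exact (_root_.map_ne_zero _).mpr ((map_ne_zero_iff _ (IsFractionRing.injective B L)).mpr hϖ.ne_zero)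
  let x : M := algebraMap K₁ M (u' : K₁) / algebraMap B M ϖ
  have hxe : x ^ e = ((algebraMap U W wU : W) : M) * ((algebraMap B W ↑vB⁻¹ : W) : M) := by
    show (algebraMap K₁ M (u' : K₁) / algebraMap B M ϖ) ^ e = algebraMap K₁ M ((wU : U) : K₁) * algebraMap B M ↑vB⁻¹
    rw [div_pow, div_eq_iff (pow_ne_zero _ hϖM), ← map_pow (algebraMap B M), ← hvB, map_mul,
      mul_assoc, ← mul_assoc (algebraMap B M ↑vB⁻¹), mul_comm (algebraMap B M ↑vB⁻¹) (algebraMap B M (algebraMap A B π)),
      mul_assoc (algebraMap B M (algebraMap A B π)), ← map_mul (algebraMap B M), Units.inv_mul, map_one, mul_one, hcomm,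
      IsScalarTower.algebraMap_apply K K₁ M, ← map_mul, ← map_pow]
    congr 1
    have := congrArg Subtype.val hwU
    simp only [MulMemClass.coe_mul, SubmonoidClass.coe_pow] at this
    show ((u₁ ^ d : U) : K₁) ^ e = _
    rw [SubmonoidClass.coe_pow, ← pow_mul, mul_comm d e, ← this, mul_comm]
    rfl
  have hxW : x ∈ W := by
    have h1 : W.valuation x ^ e ≤ 1 := by
      rw [← map_pow, hxe, W.valuation_le_one_iff]; exact mul_mem (algebraMap U W wU).2 (algebraMap B W _).2
    exact (W.valuation_le_one_iff x).mp (not_lt.mp fun h => (one_lt_pow₀ h he0).not_ge h1)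
  -- the model
  let X₀ := U ⊗[A] B
  let ψ₀ : X₀ →ₐ[A] W := Algebra.TensorProduct.lift (IsScalarTower.toAlgHom A U W) (IsScalarTower.toAlgHom A B W)
    fun _ _ => Commute.all _ _
  let c₀ : X₀ := (wU : U) ⊗ₜ[A] (↑vB⁻¹ : B)
  let f := (Polynomial.X ^ e - C c₀ : X₀[X])
  let g : AdjoinRoot f := AdjoinRoot.root f * AdjoinRoot.of f ((1 : U) ⊗ₜ[A] ϖ) - AdjoinRoot.of f (u' ⊗ₜ[A] (1 : B))
  let ψ₁ : AdjoinRoot f →+* W := AdjoinRoot.lift ψ₀.toRingHom ⟨x, hxW⟩ (by
    rw [eval₂_sub, eval₂_X_pow, eval₂_C, sub_eq_zero]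
    refine Subtype.ext ?_
    show x ^ e = ((ψ₀ c₀ : W) : M)
    rw [Algebra.TensorProduct.lift_tmul, hxe]
    rfl)
  have hψof : ∀ y, ψ₁ (AdjoinRoot.of f y) = ψ₀ y := fun y => AdjoinRoot.lift_of _
  have hψroot : ψ₁ (AdjoinRoot.root f) = ⟨x, hxW⟩ := AdjoinRoot.lift_root _
  have hg : ψ₁ g = 0 := by
    rw [map_sub, map_mul, hψroot, hψof, hψof, Algebra.TensorProduct.lift_tmul, Algebra.TensorProduct.lift_tmul,
      map_one, one_mul, map_one, mul_one, sub_eq_zero]
    exact Subtype.ext (div_mul_cancel₀ _ hϖM)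
  let XX := AdjoinRoot f ⧸ Ideal.span {g}
  let ψX : XX →+* W := Ideal.Quotient.lift _ ψ₁ fun y hy => by
    obtain ⟨z, rfl⟩ := Ideal.mem_span_singleton'.mp hy
    rw [map_mul, hg, mul_zero]
  let π₁ : AdjoinRoot f →+* XX := Ideal.Quotient.mk _
  let iX : U →+* XX := π₁.comp ((AdjoinRoot.of f).comp Algebra.TensorProduct.includeLeftRingHom)
  let iB : B →+* XX := π₁.comp ((AdjoinRoot.of f).comp (Algebra.TensorProduct.includeRight : B →ₐ[A] X₀).toRingHom)
  -- the closed fibre
  letI : Algebra (ResidueField U) (ResidueField W) := (ResidueField.map (EtRam.inclOfComap W (algebraMap K₁ M))).toAlgebra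
  haveI : IsScalarTower (ResidueField A) (ResidueField U) (ResidueField W) := .of_algebraMap_eq fun z => by
    obtain ⟨a, rfl⟩ := residue_surjective z
    exact congrArg (residue W) (IsScalarTower.algebraMap_apply A U W a)
  haveI : IsScalarTower (ResidueField A) (ResidueField B) (ResidueField W) := .of_algebraMap_eq fun z => by
    obtain ⟨a, rfl⟩ := residue_surjective z
    exact congrArg (residue W) (IsScalarTower.algebraMap_apply A B W a)
  let T₀ := ResidueField U ⊗[ResidueField A] ResidueField B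
  let θ₀ : T₀ →ₐ[ResidueField U] ResidueField W := Algebra.TensorProduct.lift (Algebra.ofId _ _)
    (IsScalarTower.toAlgHom (ResidueField A) (ResidueField B) (ResidueField W)) fun _ _ => Commute.all _ _
  let liftT : ResidueField U ⊗[A] ResidueField B →ₐ[A] T₀ := Algebra.TensorProduct.lift
    ((Algebra.TensorProduct.includeLeft : ResidueField U →ₐ[ResidueField A] T₀).restrictScalars A)
    ((Algebra.TensorProduct.includeRight : ResidueField B →ₐ[ResidueField A] T₀).restrictScalars A)
    (fun _ _ => Commute.all _ _)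
  let res₀ : X₀ →ₐ[A] T₀ := liftT.comp (Algebra.TensorProduct.map (IsScalarTower.toAlgHom A U (ResidueField U))
    (IsScalarTower.toAlgHom A B (ResidueField B)))
  have hres₀ : ∀ (a : U) (b : B), res₀ (a ⊗ₜ[A] b) = residue U a ⊗ₜ[ResidueField A] residue B b := fun a b => by
    show liftT (residue U a ⊗ₜ[A] residue B b) = _
    rw [Algebra.TensorProduct.lift_tmul]
    show (residue U a ⊗ₜ[ResidueField A] (1 : ResidueField B)) * ((1 : ResidueField U) ⊗ₜ[ResidueField A] residue B b) = _
    rw [Algebra.TensorProduct.tmul_mul_tmul, mul_one, one_mul]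
  have hθres₀ : ∀ y, θ₀ (res₀ y) = residue W (ψ₀ y) := fun y => by
    induction y using TensorProduct.induction_on with
    | zero => simp
    | add a b ha hb => simp only [map_add, ha, hb]
    | tmul a b =>
      rw [hres₀, Algebra.TensorProduct.lift_tmul, Algebra.TensorProduct.lift_tmul, map_mul]
      rfl
  have hsurj₀ : Function.Surjective res₀ := fun t => by
    induction t using TensorProduct.induction_on with
    | zero => exact ⟨0, map_zero _⟩
    | add a b ha hb => obtain ⟨a, rfl⟩ := ha; obtain ⟨b, rfl⟩ := hb; exact ⟨a + b, map_add _ _ _⟩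
    | tmul a b =>
      obtain ⟨a, rfl⟩ := residue_surjective a
      obtain ⟨b, rfl⟩ := residue_surjective b
      exact ⟨a ⊗ₜ[A] b, hres₀ a b⟩
  let cT : T₀ := res₀ c₀
  have hcT : IsUnit cT := by
    show IsUnit (res₀ ((wU : U) ⊗ₜ[A] (↑vB⁻¹ : B)))
    rw [hres₀, show residue U (wU : U) ⊗ₜ[ResidueField A] residue B (↑vB⁻¹ : B) =
      (residue U (wU : U) ⊗ₜ[ResidueField A] (1 : ResidueField B)) * ((1 : ResidueField U) ⊗ₜ[ResidueField A] residue B (↑vB⁻¹ : B)) by simp]
    exact ((wU.isUnit.map (residue U)).map (Algebra.TensorProduct.includeLeftRingHom : ResidueField U →+* T₀)).mul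
      (((vB⁻¹).isUnit.map (residue B)).map (Algebra.TensorProduct.includeRight : ResidueField B →ₐ[ResidueField A] T₀))
  let fT := (Polynomial.X ^ e - C cT : T₀[X])
  let T := AdjoinRoot fT
  have hfT : f.map res₀.toRingHom = fT := by
    simp only [f, fT, cT, Polynomial.map_sub, Polynomial.map_pow, map_X, map_C]
    rfl
  let res₁ : AdjoinRoot f →+* T := AdjoinRoot.map res₀.toRingHom f fT (by rw [hfT])
  have hres₁of : ∀ y, res₁ (AdjoinRoot.of f y) = AdjoinRoot.of fT (res₀ y) := fun y => AdjoinRoot.lift_of _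
  have hres₁root : res₁ (AdjoinRoot.root f) = AdjoinRoot.root fT := AdjoinRoot.lift_root _
  have hu'm : u' ∈ maximalIdeal U := Ideal.pow_mem_of_mem _ hu₁.not_isUnit d (Nat.pos_of_ne_zero hd0)
  have hres₁g : res₁ g = 0 := by
    rw [map_sub, map_mul, hres₁root, hres₁of, hres₁of, hres₀, hres₀, (residue_eq_zero_iff ϖ).mpr hϖ.not_isUnit,
      (residue_eq_zero_iff u').mpr hu'm, TensorProduct.tmul_zero, TensorProduct.zero_tmul, map_zero, mul_zero, sub_zero]
  let resX : XX →+* T := Ideal.Quotient.lift _ res₁ fun y hy => by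
    obtain ⟨z, rfl⟩ := Ideal.mem_span_singleton'.mp hy
    rw [map_mul, hres₁g, mul_zero]
  let θ : T →+* ResidueField W := AdjoinRoot.lift θ₀.toRingHom (residue W ⟨x, hxW⟩) (by
    rw [eval₂_sub, eval₂_X_pow, eval₂_C, sub_eq_zero]
    show residue W ⟨x, hxW⟩ ^ e = θ₀ (res₀ c₀)
    rw [hθres₀, ← hψof, ← map_pow, ← hψroot, ← map_pow ψ₁]
    congr 2
    have h := AdjoinRoot.eval₂_root f
    simp only [f, eval₂_sub, eval₂_pow, eval₂_X, eval₂_C, sub_eq_zero] at h
    exact h)
  have hθres : ∀ y, θ (resX y) = residue W (ψX y) := by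
    intro y
    obtain ⟨y, rfl⟩ := Ideal.Quotient.mk_surjective y
    show θ (res₁ y) = residue W (ψ₁ y)
    refine RingHom.congr_fun (f := θ.comp res₁) (g := (residue W).comp ψ₁) ?_ y
    refine AdjoinRoot.ringHom_ext (RingHom.ext fun z => ?_) ?_
    · show θ (res₁ (AdjoinRoot.of f z)) = residue W (ψ₁ (AdjoinRoot.of f z))
      rw [hres₁of, hψof, ← hθres₀]
      exact AdjoinRoot.lift_of _
    · show θ (res₁ (AdjoinRoot.root f)) = residue W (ψ₁ (AdjoinRoot.root f))
      rw [hres₁root, hψroot]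
      exact AdjoinRoot.lift_root _
  -- hypotheses on the fibre
  let Ω := AlgebraicClosure (ResidueField U)
  have heT : IsUnit (e : T₀) := by
    rw [← map_natCast (algebraMap (ResidueField A) T₀)]
    exact (isUnit_iff_ne_zero.mpr hne).map _
  haveI : IsReduced (Ω ⊗[ResidueField U] T₀) :=
    isReduced_of_injective
      (Algebra.TensorProduct.cancelBaseChange (ResidueField A) (ResidueField U) Ω Ω (ResidueField B)).toAlgHom
      (Algebra.TensorProduct.cancelBaseChange (ResidueField A) (ResidueField U) Ω Ω (ResidueField B)).injective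
  haveI : IsReduced (Ω ⊗[ResidueField U] T) := by
    let iR : T₀ →ₐ[ResidueField U] Ω ⊗[ResidueField U] T₀ := Algebra.TensorProduct.includeRight
    haveI : IsReduced (AdjoinRoot (Polynomial.X ^ e - C (iR cT) : (Ω ⊗[ResidueField U] T₀)[X])) :=
      isReduced_adjoinRoot_unit (by rw [← map_natCast iR.toRingHom]; exact heT.map _) he0 (hcT.map iR)
    let ee := AdjoinRoot.tensorAlgEquiv (R := ResidueField U) (T := Ω) fT (Polynomial.X ^ e - C (iR cT)) (by
      simp only [fT, Polynomial.map_sub, Polynomial.map_pow, map_X, map_C]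
      rfl)
    exact isReduced_of_injective ee.toAlgHom ee.injective
  haveI : Ring.KrullDimLE 0 T₀ := by
    refine Ring.KrullDimLE.mk₀ fun P hP => ?_
    letI : Algebra (ResidueField B) T₀ := Algebra.TensorProduct.rightAlgebra
    haveI : Algebra.IsIntegral (ResidueField B) T₀ := by
      haveI : Algebra.IsIntegral (ResidueField A) (ResidueField U) := Algebra.IsAlgebraic.isIntegral
      exact Algebra.IsIntegral.of_surjective (R := ResidueField B)
        (Algebra.TensorProduct.commRight (ResidueField A) (ResidueField B) (ResidueField U)).toAlgHom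
        (Algebra.TensorProduct.commRight (ResidueField A) (ResidueField B) (ResidueField U)).surjective
    haveI := hP
    exact Ideal.isMaximal_of_isIntegral_of_isMaximal_comap (R := ResidueField B) P
      (by rw [show P.comap (algebraMap (ResidueField B) T₀) = ⊥ from
          (Ideal.eq_bot_or_top _).resolve_right (Ideal.comap_isPrime _ P).ne_top]; exact Ideal.bot_isMaximal)
  haveI : Ring.KrullDimLE 0 T := by
    refine Ring.KrullDimLE.mk₀ fun P hP => ?_
    haveI : Module.Finite T₀ T := (monic_X_pow_sub_C cT he0).finite_adjoinRoot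
    haveI : Algebra.IsIntegral T₀ T := Algebra.IsIntegral.of_finite T₀ T
    haveI := hP
    exact Ideal.isMaximal_of_isIntegral_of_isMaximal_comap (R := T₀) P
      (Ring.krullDimLE_zero_iff.mp inferInstance _ (Ideal.comap_isPrime _ P))
  have hsurjX : Function.Surjective resX := by
    intro t
    obtain ⟨P, rfl⟩ := AdjoinRoot.mk_surjective t
    obtain ⟨Q, rfl⟩ := Polynomial.map_surjective res₀.toRingHom hsurj₀ P
    refine ⟨π₁ (AdjoinRoot.mk f Q), ?_⟩
    show res₁ (AdjoinRoot.mk f Q) = _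
    refine (AdjoinRoot.lift_mk (i := (AdjoinRoot.of fT).comp res₀.toRingHom) _ Q).trans ?_
    rw [← Polynomial.eval₂_map, ← AdjoinRoot.algebraMap_eq, ← Polynomial.aeval_def, AdjoinRoot.aeval_eq]
  let J : Ideal XX := (maximalIdeal U).map iX
  have hJϖ : iB ϖ ∈ J := by
    have h1 : π₁ (AdjoinRoot.root f) * iB ϖ = iX u' := by
      rw [← sub_eq_zero]
      show π₁ (AdjoinRoot.root f) * π₁ (AdjoinRoot.of f ((1 : U) ⊗ₜ[A] ϖ)) - π₁ (AdjoinRoot.of f (u' ⊗ₜ[A] (1 : B))) = 0
      rw [← map_mul, ← map_sub]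
      exact Ideal.Quotient.eq_zero_iff_mem.mpr (Ideal.mem_span_singleton_self g)
    have h2 : IsUnit (π₁ (AdjoinRoot.root f)) := by
      refine IsUnit.map π₁ ((isUnit_pow_iff he0).mp ?_)
      have h := AdjoinRoot.eval₂_root f
      simp only [f, eval₂_sub, eval₂_pow, eval₂_X, eval₂_C, sub_eq_zero] at h
      rw [h]
      refine IsUnit.map _ ?_
      show IsUnit ((wU : U) ⊗ₜ[A] (↑vB⁻¹ : B))
      rw [show (wU : U) ⊗ₜ[A] (↑vB⁻¹ : B) = ((wU : U) ⊗ₜ[A] (1 : B)) * ((1 : U) ⊗ₜ[A] (↑vB⁻¹ : B)) by simp]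
      exact (wU.isUnit.map (Algebra.TensorProduct.includeLeftRingHom : U →+* X₀)).mul
        ((vB⁻¹).isUnit.map (Algebra.TensorProduct.includeRight : B →ₐ[A] X₀))
    exact (Ideal.unit_mul_mem_iff_mem _ h2).mp (h1 ▸ Ideal.mem_map_of_mem iX hu'm)
  let gU : ResidueField U →+* XX ⧸ J := Ideal.Quotient.lift _ ((Ideal.Quotient.mk J).comp iX)
    fun a ha => Ideal.Quotient.eq_zero_iff_mem.mpr (Ideal.mem_map_of_mem iX ha)
  let gB : ResidueField B →+* XX ⧸ J := Ideal.Quotient.lift _ ((Ideal.Quotient.mk J).comp iB)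
    fun b hb => Ideal.Quotient.eq_zero_iff_mem.mpr (by
      have hb' : b ∈ Ideal.span {ϖ} := hϖ.maximalIdeal_eq ▸ hb
      obtain ⟨y, rfl⟩ := Ideal.mem_span_singleton'.mp hb'
      rw [map_mul]; exact Ideal.mul_mem_left _ _ hJϖ)
  letI : Algebra (ResidueField A) (XX ⧸ J) :=
    @RingHom.toAlgebra (ResidueField A) (XX ⧸ J) _ (Ideal.Quotient.commRing J).toCommSemiring (gU.comp (algebraMap (ResidueField A) (ResidueField U)))
  let Φ₀ : T₀ →ₐ[ResidueField A] XX ⧸ J := Algebra.TensorProduct.lift (AlgHom.mk gU fun _ => rfl)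
    (AlgHom.mk gB fun z => by
      obtain ⟨a, rfl⟩ := residue_surjective z
      show Ideal.Quotient.mk J (π₁ (AdjoinRoot.of f ((1 : U) ⊗ₜ[A] algebraMap A B a))) =
        Ideal.Quotient.mk J (π₁ (AdjoinRoot.of f (algebraMap A U a ⊗ₜ[A] (1 : B))))
      congr 3
      rw [Algebra.algebraMap_eq_smul_one, Algebra.algebraMap_eq_smul_one, TensorProduct.smul_tmul])
    fun a b => (mul_comm (gU a) (gB b) : gU a * gB b = gB b * gU a)
  have hΦ₀ : ∀ y, Φ₀ (res₀ y) = Ideal.Quotient.mk J (π₁ (AdjoinRoot.of f y)) := fun y => by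
    induction y using TensorProduct.induction_on with
    | zero => simp
    | add a b ha hb => simp only [map_add, ha, hb]
    | tmul a b =>
      rw [hres₀, Algebra.TensorProduct.lift_tmul]
      show Ideal.Quotient.mk J (π₁ (AdjoinRoot.of f (a ⊗ₜ[A] (1 : B)))) * Ideal.Quotient.mk J (π₁ (AdjoinRoot.of f ((1 : U) ⊗ₜ[A] b))) = _
      rw [← map_mul, ← map_mul π₁, ← map_mul (AdjoinRoot.of f), Algebra.TensorProduct.tmul_mul_tmul, mul_one, one_mul]
  let Φ : T →+* XX ⧸ J := AdjoinRoot.lift Φ₀.toRingHom (Ideal.Quotient.mk J (π₁ (AdjoinRoot.root f))) (by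
    rw [eval₂_sub, eval₂_X_pow, eval₂_C, sub_eq_zero]
    show _ = Φ₀ (res₀ c₀)
    rw [hΦ₀, ← map_pow, ← map_pow π₁]
    congr 2
    have h := AdjoinRoot.eval₂_root f
    simp only [f, eval₂_sub, eval₂_pow, eval₂_X, eval₂_C, sub_eq_zero] at h
    exact h)
  have hker : RingHom.ker resX ≤ J := by
    intro y hy
    obtain ⟨y, rfl⟩ := Ideal.Quotient.mk_surjective y
    have h1 : Φ (res₁ y) = Ideal.Quotient.mk J (π₁ y) := by
      refine RingHom.congr_fun (f := Φ.comp res₁) (g := (Ideal.Quotient.mk J).comp π₁) ?_ y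
      refine AdjoinRoot.ringHom_ext (RingHom.ext fun z => ?_) ?_
      · show Φ (res₁ (AdjoinRoot.of f z)) = _
        rw [hres₁of]
        exact (AdjoinRoot.lift_of _).trans (hΦ₀ z)
      · show Φ (res₁ (AdjoinRoot.root f)) = _
        rw [hres₁root]
        exact AdjoinRoot.lift_root _
    have h2 : res₁ y = 0 := hy
    rw [h2, map_zero] at h1
    exact Ideal.Quotient.eq_zero_iff_mem.mp h1.symm
  refine local_solution_of_model (B := B) (L := L) W hgen ⟨u', hu'm, fun h => pow_ne_zero d hu₁.ne_zero (Subtype.ext h)⟩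
    XX T iX ψX (fun a => ?_) (fun b => ⟨iB b, ?_⟩) θ (fun z => ?_) resX hsurjX hθres hker
  · show ψ₁ (AdjoinRoot.of f (a ⊗ₜ[A] (1 : B))) = _
    rw [hψof, Algebra.TensorProduct.lift_tmul, map_one, mul_one]
    rfl
  · show ((ψ₁ (AdjoinRoot.of f ((1 : U) ⊗ₜ[A] b)) : W) : M) = _
    rw [hψof, Algebra.TensorProduct.lift_tmul, map_one, one_mul]
    rfl
  · refine (AdjoinRoot.lift_of _).trans ?_
    exact θ₀.commutes z

end Groth.Agent.HensEt88
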