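import Groth.Agent.HensEt88.ArtinSchreierReduce

/-!
# Value groups in Artin–Schreier extensions
-/

set_option autoImplicit false
set_option linter.style.haveILetI false
set_option linter.unusedSectionVars false

namespace Groth.Agent.HensEt88

universe u

open IsLocalRing Polynomial

/-- A reduced Artin–Schreier equation does not enlarge the value group. -/
theorem values_of_reduced {p : ℕ} (hp : p.Prime) {B L L' F : Type u} [CommRing B] [IsDomain B] [IsDiscreteValuationRing B]
    [Field L] [Algebra B L] [IsFractionRing B L] [Field L'] [Algebra L L'] [FiniteDimensional L L'] [CharP L' p]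
    [Field F] [Algebra L' F] (W : ValuationSubring F)
    (hV : EtRam.Dominates B ((algebraMap L L').comp (algebraMap B L)) (W.comap (algebraMap L' F)))
    {π : B} (hπ : Irreducible π) {x : L'} {q : ℕ} (hq : 0 < q)
    (hx : (W.comap (algebraMap L' F)).valuation x ^ q = (W.comap (algebraMap L' F)).valuation (algebraMap L L' (algebraMap B L π)))
    (hd : Module.finrank L L' ≤ q) (θ : L') (z : F) (hz : z ^ p - z = algebraMap L' F θ)
    (hgen : IntermediateField.adjoin L' {z} = ⊤)
    (hred : (∃ d : L', (W.comap (algebraMap L' F)).valuation (θ - (d ^ p - d)) ≤ 1) ∨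
      ∃ (d : L') (E : ℕ) (s : B), 0 < E ∧ p ∣ E ∧ (∀ t : B, residue B s ≠ residue B t ^ p) ∧
        (W.comap (algebraMap L' F)).valuation (θ - (d ^ p - d) - algebraMap L L' (algebraMap B L s) * x⁻¹ ^ E) <
          (W.comap (algebraMap L' F)).valuation x⁻¹ ^ E) :
    ∀ y : F, y ≠ 0 → ∃ k : ℤ, W.valuation y = W.valuation (algebraMap L' F x) ^ k := by
  classical
  haveI := Fact.mk hp
  set V := W.comap (algebraMap L' F) with hVdef
  haveI : CharP F p := charP_of_injective_algebraMap (algebraMap L' F).injective p
  obtain ⟨hval, hres⟩ := ramified_values V hV hπ hq hx hd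
  have hπ0 : V.valuation (algebraMap L L' (algebraMap B L π)) ≠ 0 :=
    (_root_.map_ne_zero V.valuation).mpr ((_root_.map_ne_zero (algebraMap L L')).mpr
      ((map_ne_zero_iff _ (IsFractionRing.injective B L)).mpr hπ.ne_zero))
  have hvx0 : V.valuation x ≠ 0 := fun h => hπ0 (by rw [← hx, h, zero_pow hq.ne'])
  have hx0 : x ≠ 0 := (_root_.map_ne_zero V.valuation).mp hvx0
  have hx1 : V.valuation x < 1 := (pow_lt_one_iff hq.ne').mp (hx ▸ hV.2 π hπ.not_isUnit)
  obtain ⟨hdvr, hmax⟩ := dvr_of_values V hx0 hx1 hval
  haveI := hdvr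
  letI : Algebra V F := ((algebraMap L' F).comp V.subtype).toAlgebra
  haveI : IsScalarTower V L' F := IsScalarTower.of_algebraMap_eq fun _ => rfl
  suffices h : ∀ y : F, y ≠ 0 → ∃ l : L', l ≠ 0 ∧ W.valuation y = W.valuation (algebraMap L' F l) by
    intro y hy
    obtain ⟨l, hl0, hl⟩ := h y hy
    obtain ⟨k, hk⟩ := hval l hl0
    refine ⟨k, ?_⟩
    rw [hl, ← map_zpow₀, ← map_zpow₀]
    exact valuation_eq_of_comap W _ (by rw [map_zpow₀]; exact hk)
  -- conclusions from the possible cases
  have hone : Module.finrank L' F = 1 → ∀ y : F, y ≠ 0 → ∃ l : L', l ≠ 0 ∧ W.valuation y = W.valuation (algebraMap L' F l) := by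
    intro h1 y hy
    obtain ⟨c, hc⟩ := (finrank_eq_one_iff_of_nonzero' (1 : F) one_ne_zero).mp h1 y
    rw [Algebra.smul_def, mul_one] at hc
    exact ⟨c, fun h => hy (by rw [← hc, h, map_zero]), by rw [hc]⟩
  have hweak : FiniteDimensional L' F → Algebra.IsSeparable L' F → ∀ (hW : EtRam.Dominates V (algebraMap V F) W),
      (letI : Algebra V W := (RingHom.codRestrict (algebraMap V F) W hW.1).toAlgebra
       EtRam.IsWeaklyUnramified V W) →
      ∀ y : F, y ≠ 0 → ∃ l : L', l ≠ 0 ∧ W.valuation y = W.valuation (algebraMap L' F l) := by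
    intro hfd hsep hW hw y hy
    haveI := hfd
    haveI := hsep
    haveI : IsDiscreteValuationRing W := isDiscreteValuationRing_of_dominates (A := V) (K := L') (L := F)
      (by rw [← IsScalarTower.algebraMap_eq]; exact hW)
    let xV : V := ⟨x, (V.valuation_le_one_iff _).mp hx1.le⟩
    letI : Algebra V W := (RingHom.codRestrict (algebraMap V F) W hW.1).toAlgebra
    have hirr : Irreducible (algebraMap V W xV) := (IsDiscreteValuationRing.irreducible_iff_uniformizer _).mpr (by
      have h1 : (maximalIdeal V).map (algebraMap V W) = maximalIdeal W := hw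
      rw [← h1, hmax, Ideal.map_span, Set.image_singleton])
    have hWW : EtRam.Dominates W ((RingHom.id F).comp (algebraMap W F)) W :=
      ⟨fun a => a.2, fun a ha => (W.valuation_lt_one_iff a).mp ha⟩
    obtain ⟨k, hk⟩ := valuation_map_eq_zpow (RingHom.id F) hWW hirr hy
    refine ⟨x ^ k, zpow_ne_zero k hx0, ?_⟩
    rw [map_zpow₀, map_zpow₀]
    exact hk
  have hdomW : EtRam.Dominates V (algebraMap V F) W := dominates_subtype_comap (algebraMap L' F) W
  haveI : IsLocalHom ((algebraMap V F).codRestrict W hdomW.1) := Dominates.isLocalHom hdomW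
  rcases hred with ⟨d, hd'⟩ | ⟨d, E, s, hE, hpE, hs, hd'⟩
  all_goals
    have hz' : (z - algebraMap L' F d) ^ p - (z - algebraMap L' F d) = algebraMap L' F (θ - (d ^ p - d)) := by
      rw [sub_pow_char, map_sub, map_sub, map_pow, ← hz]; ring
    have hgen' : IntermediateField.adjoin L' {z - algebraMap L' F d} = ⊤ := by
      refine top_le_iff.mp (hgen ▸ IntermediateField.adjoin_le_iff.mpr (Set.singleton_subset_iff.mpr ?_))
      have h1 := add_mem (IntermediateField.mem_adjoin_simple_self L' (z - algebraMap L' F d))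
        (IntermediateField.algebraMap_mem (IntermediateField.adjoin L' {z - algebraMap L' F d}) d)
      rwa [sub_add_cancel] at h1
    haveI hfdF : FiniteDimensional L' F := by
      haveI := IntermediateField.adjoin.finiteDimensional (K := L') (x := z - algebraMap L' F d)
        ⟨X ^ p - X - Polynomial.C (θ - (d ^ p - d)), by
          rw [sub_sub]
          exact monic_X_pow_sub (by rw [degree_X_add_C]; exact_mod_cast hp.one_lt),
          by rw [← aeval_def]; simp [hz']⟩
      exact ((IntermediateField.equivOfEq hgen').trans IntermediateField.topEquiv).toLinearEquiv.finiteDimensional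
    obtain ⟨hG, -, hcase12, -, hcase4⟩ := S7158.result p hp V L' F ⟨x, (V.valuation_le_one_iff _).mp hx1.le⟩ hmax
      (θ - (d ^ p - d)) (z - algebraMap L' F d) hz' hgen'
  · rcases hcase12 ⟨⟨_, (V.valuation_le_one_iff _).mp hd'⟩, rfl⟩ with h | ⟨h, hfr⟩
    · exact hone h
    · haveI : FiniteDimensional L' F := Module.finite_of_finrank_pos (hfr ▸ hp.pos)
      letI : Algebra V W := (RingHom.codRestrict (algebraMap V F) W hdomW.1).toAlgebra
      haveI : IsLocalHom (algebraMap V W) := Dominates.isLocalHom hdomW
      exact hweak inferInstance inferInstance hdomW (h W hdomW).1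
  · have hy0 : V.valuation x⁻¹ ^ E * V.valuation x ^ E = 1 := by
      rw [← mul_pow, ← map_mul, inv_mul_cancel₀ hx0, map_one, one_pow]
    let a' : L' := (θ - (d ^ p - d)) * x ^ E
    have hsV : algebraMap L L' (algebraMap B L s) ∈ V := hV.1 s
    have hclose : V.valuation (a' - algebraMap L L' (algebraMap B L s)) < 1 := by
      have h1 : a' - algebraMap L L' (algebraMap B L s) =
          (θ - (d ^ p - d) - algebraMap L L' (algebraMap B L s) * x⁻¹ ^ E) * x ^ E := by
        rw [sub_mul _ _ (x ^ E), mul_assoc (algebraMap L L' (algebraMap B L s)), ← mul_pow, inv_mul_cancel₀ hx0, one_pow,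
          mul_one]
      rw [h1, map_mul, map_pow, ← hy0]
      exact mul_lt_mul_of_pos_right hd' (pow_pos (zero_lt_iff.mpr hvx0) E)
    have ha' : a' ∈ V := by
      have h1 := add_mem ((V.valuation_le_one_iff _).mp hclose.le) hsV
      rwa [sub_add_cancel] at h1
    let φ : B →+* V := ((algebraMap L L').comp (algebraMap B L)).codRestrict V hV.1
    have hnp : ∀ r : V, residue V ⟨a', ha'⟩ ≠ residue V r ^ p := by
      intro r hr
      obtain ⟨b, hb⟩ := hres r ((V.valuation_le_one_iff _).mpr r.2)
      have h1 : residue V r = residue V (φ b) := by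
        rw [← sub_eq_zero, ← map_sub, residue_eq_zero_iff]
        exact (V.valuation_lt_one_iff _).mpr hb
      have h2 : residue V ⟨a', ha'⟩ = residue V (φ s) := by
        rw [← sub_eq_zero, ← map_sub, residue_eq_zero_iff]
        exact (V.valuation_lt_one_iff _).mpr hclose
      rw [h1, h2, ← map_pow, ← map_pow, ← sub_eq_zero, ← map_sub, ← map_sub, residue_eq_zero_iff] at hr
      refine hs b ?_
      rw [← map_pow, ← sub_eq_zero, ← map_sub, residue_eq_zero_iff]
      haveI : IsLocalHom φ := Dominates.isLocalHom hV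
      exact fun hu => hr (hu.map φ)
    obtain ⟨-, -, hall⟩ := hcase4 E ⟨a', ha'⟩ hE hpE hnp rfl
    letI : Algebra V W := (RingHom.codRestrict (algebraMap V F) W hdomW.1).toAlgebra
    haveI : IsLocalHom (algebraMap V W) := Dominates.isLocalHom hdomW
    obtain ⟨hw', -, hfr⟩ := hall W hdomW
    exact hweak inferInstance inferInstance hdomW hw'

end Groth.Agent.HensEt88
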