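import Groth.Agent.HensEt88.PrimeDegree

/-!
# Equations of Artin–Schreier type over a DVR
-/

set_option autoImplicit false
set_option linter.style.haveILetI false

namespace Groth.Agent.HensEt88

universe u

open IsLocalRing Polynomial

/-- A field generated by any root of a polynomial of prime degree with that many roots. -/
theorem galois_of_roots {K L : Type u} [Field K] [Field L] [Algebra K L] {p : ℕ} (hp : p.Prime) (f : K[X])
    (hf : f.Monic) (hd : f.natDegree = p) (z : L) (hz : aeval z f = 0)
    (hgen : IntermediateField.adjoin K {z} = ⊤) (r : Fin p → L) (hr : Function.Injective r)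
    (hr0 : ∀ i, aeval (r i) f = 0) (hrgen : ∀ i, z ∈ IntermediateField.adjoin K {r i}) :
    FiniteDimensional K L ∧ IsGalois K L ∧ (Module.finrank K L = 1 ∨ Module.finrank K L = p) ∧
      (Module.finrank K L = p → ∀ i, ∃ σ : L ≃ₐ[K] L, σ z = r i) := by
  classical
  have hint : ∀ x : L, aeval x f = 0 → IsIntegral K x := fun x hx => ⟨f, hf, hx⟩
  haveI hfd : FiniteDimensional K L := by
    haveI := IntermediateField.adjoin.finiteDimensional (hint z hz)
    exact (IntermediateField.equivOfEq hgen |>.trans IntermediateField.topEquiv).toLinearEquiv.finiteDimensional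
  have hf0 : f.map (algebraMap K L) ≠ 0 := (hf.map _).ne_zero
  have hmem : ∀ i, r i ∈ (f.map (algebraMap K L)).roots := fun i => by
    rw [mem_roots hf0, IsRoot, eval_map, ← aeval_def]; exact hr0 i
  have hle : (Finset.univ.image r).val ≤ (f.map (algebraMap K L)).roots := by
    rw [Multiset.le_iff_subset (Finset.univ.image r).nodup]
    intro x hx
    obtain ⟨i, -, rfl⟩ := Finset.mem_image.mp (Finset.mem_val.mp hx)
    exact hmem i
  have hroots : (f.map (algebraMap K L)).roots = (Finset.univ.image r).val := by
    refine (Multiset.eq_of_le_of_card_le hle ?_).symm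
    rw [Finset.card_val, Finset.card_image_of_injective _ hr, Finset.card_univ, Fintype.card_fin]
    exact (card_roots' _).trans (by rw [hf.natDegree_map, hd])
  have hsplit : (f.map (algebraMap K L)).Splits := by
    rw [splits_iff_card_roots, hroots, Finset.card_val, Finset.card_image_of_injective _ hr, Finset.card_univ,
      Fintype.card_fin, hf.natDegree_map, hd]
  have hsep : f.Separable := by
    rw [← separable_map (algebraMap K L), ← nodup_roots_iff_of_splits hf0 hsplit, hroots]
    exact Finset.nodup _
  haveI : IsSplittingField K L f := by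
    refine ⟨hsplit, ?_⟩
    rw [eq_top_iff, ← IntermediateField.top_toSubalgebra, ← hgen,
      IntermediateField.adjoin_simple_toSubalgebra_of_isAlgebraic (hint z hz).isAlgebraic]
    refine Algebra.adjoin_mono (Set.singleton_subset_iff.mpr ?_)
    rw [mem_rootSet_of_ne hf.ne_zero]
    exact hz
  haveI hG : IsGalois K L := IsGalois.of_separable_splitting_field hsep
  have htop : ∀ i, IntermediateField.adjoin K {r i} = ⊤ := fun i => by
    refine top_le_iff.mp ?_
    rw [← hgen, IntermediateField.adjoin_le_iff]
    exact Set.singleton_subset_iff.mpr (hrgen i)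
  have hdeg : ∀ i, (minpoly K (r i)).natDegree = Module.finrank K L := fun i => by
    rw [← IntermediateField.adjoin.finrank (hint _ (hr0 i)), htop i, IntermediateField.finrank_top']
  refine ⟨hfd, hG, ?_, fun hdp i => ?_⟩
  · have hq : ∀ q ∈ UniqueFactorizationMonoid.normalizedFactors f, q.natDegree = Module.finrank K L := by
      intro q hq
      have hirr := UniqueFactorizationMonoid.irreducible_of_normalized_factor q hq
      have hqd := UniqueFactorizationMonoid.dvd_of_mem_normalizedFactors hq
      have hqm : q.Monic := by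
        rw [← UniqueFactorizationMonoid.normalize_normalized_factor q hq]; exact monic_normalize hirr.ne_zero
      obtain ⟨x, hx⟩ := (hsplit.of_dvd hf0 (Polynomial.map_dvd _ hqd)).exists_eval_eq_zero
        (by rw [degree_map]; exact hirr.degree_pos.ne')
      rw [eval_map, ← aeval_def] at hx
      have hxf : x ∈ (f.map (algebraMap K L)).roots := by
        rw [mem_roots hf0, IsRoot, eval_map, ← aeval_def]
        obtain ⟨c, rfl⟩ := hqd
        rw [map_mul, hx, zero_mul]
      rw [hroots] at hxf
      obtain ⟨i, -, rfl⟩ := Finset.mem_image.mp (Finset.mem_val.mp hxf)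
      rw [minpoly.eq_of_irreducible_of_monic hirr hx hqm, hdeg]
    have hprod : (UniqueFactorizationMonoid.normalizedFactors f).prod = f := by
      rw [UniqueFactorizationMonoid.prod_normalizedFactors_eq hf.ne_zero, hf.normalize_eq_self]
    have hdvd : Module.finrank K L ∣ p := by
      rw [← hd, ← hprod, natDegree_multiset_prod _ (UniqueFactorizationMonoid.zero_notMem_normalizedFactors _)]
      exact Multiset.dvd_sum fun n hn => by
        obtain ⟨q, hq', rfl⟩ := Multiset.mem_map.mp hn
        rw [hq q hq']
    exact (Nat.dvd_prime hp).mp hdvd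
  · have h1 : ∀ x : L, aeval x f = 0 → IntermediateField.adjoin K {x} = ⊤ → minpoly K x = f := fun x hx hx' => by
      refine Polynomial.eq_of_monic_of_dvd_of_natDegree_le (minpoly.monic (hint x hx)) hf (minpoly.dvd K x hx) ?_
        |>.symm
      rw [← IntermediateField.adjoin.finrank (hint x hx), hx', IntermediateField.finrank_top', hdp, hd]
    have h2 : minpoly K (r i) = minpoly K z := by rw [h1 _ (hr0 i) (htop i), h1 z hz hgen]
    obtain ⟨σ, hσ⟩ := (Normal.minpoly_eq_iff_mem_orbit (F := K) (E := L)).mp h2
    exact ⟨σ, hσ⟩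

variable {A K L : Type u} [CommRing A] [IsDomain A] [IsDiscreteValuationRing A] [Field K] [Algebra A K]
  [IsFractionRing A K] [Field L] [Algebra K L] [Algebra A L] [IsScalarTower A K L] [FiniteDimensional K L]
  [IsGalois K L]

/-- The cases for `P(z) = ξ`, where `P` reduces to `X ^ p - X`. -/
theorem degree_p_cases {p : ℕ} (hp : p.Prime) [CharP (ResidueField A) p] {π : A}
    (hπ : maximalIdeal A = Ideal.span {π}) (P : A[X]) (hP : P.Monic) (hdeg : P.natDegree = p)
    (hred : P.map (residue A) = X ^ p - X) (ξ : K) (z : L) (hz : aeval z P = algebraMap K L ξ)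
    (hd : Module.finrank K L = 1 ∨ Module.finrank K L = p)
    (hmove : Module.finrank K L = p → ∃ σ : L ≃ₐ[K] L, ∀ V : ValuationSubring L,
      EtRam.Dominates A (algebraMap A L) V → z ∈ V → 1 ≤ V.valuation (σ z - z)) :
    let g : A →+* L := algebraMap A L
    let case1 : Prop := Module.finrank K L = 1
    let case2 : Prop := EtRam.IsUnramifiedExt A g ∧ Module.finrank K L = p
    let case3 : Prop := EtRam.IsTotallyRamified A g ∧ Module.finrank K L = p
    let case4 : Prop := InsepCase A g p
    (case1 ∨ case2 ∨ case3 ∨ case4) ∧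
      ((∃ a : A, algebraMap A K a = ξ) → case1 ∨ case2) ∧
      (∀ (n : ℕ) (a : Aˣ), 0 < n → ¬ p ∣ n → ξ * algebraMap A K π ^ n = algebraMap A K a → case3) ∧
      (∀ (n : ℕ) (a : A), 0 < n → p ∣ n → (∀ r : A, IsLocalRing.residue A a ≠ IsLocalRing.residue A r ^ p) →
          ξ * algebraMap A K π ^ n = algebraMap A K a → case4) := by
  intro g case1 case2 case3 case4
  have hπm : π ∈ maximalIdeal A := hπ ▸ Ideal.mem_span_singleton_self π
  have hπ0 : π ≠ 0 := fun h => IsDiscreteValuationRing.not_a_field A (by rw [hπ, h, Ideal.span_singleton_eq_bot])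
  have hinjA : Function.Injective (algebraMap A L) := by
    rw [IsScalarTower.algebraMap_eq A K L]
    exact (algebraMap K L).injective.comp (IsFractionRing.injective A K)
  have hgπ : g π ≠ 0 := (map_ne_zero_iff _ hinjA).mpr hπ0
  have hexp : aeval z P = z ^ p + ∑ i ∈ Finset.range p, g (P.coeff i) * z ^ i := by
    rw [aeval_eq_sum_range, hdeg, Finset.sum_range_succ, show P.coeff p = 1 from hdeg ▸ hP.coeff_natDegree, one_smul,
      add_comm]
    simp [g, Algebra.smul_def]
  have hξ : ∀ (n : ℕ) (a : A), ξ * algebraMap A K π ^ n = algebraMap A K a →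
      (z ^ p + ∑ i ∈ Finset.range p, g (P.coeff i) * z ^ i) * g π ^ n = g a := fun n a h => by
    rw [← hexp, hz, show g π = algebraMap K L (algebraMap A K π) from IsScalarTower.algebraMap_apply A K L π,
      ← map_pow, ← map_mul, h]
    exact (IsScalarTower.algebraMap_apply A K L a).symm
  refine ⟨?_, ?_, ?_, ?_⟩
  · rcases hd with h | h
    · exact Or.inl h
    · rcases trichotomy (A := A) (K := K) (L := L) hp h with h' | h' | h'
      · exact Or.inr (Or.inl ⟨h', h⟩)
      · exact Or.inr (Or.inr (Or.inl ⟨h', h⟩))
      · exact Or.inr (Or.inr (Or.inr h'))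
  · rintro ⟨a, ha⟩
    rcases hd with h | h
    · exact Or.inl h
    refine Or.inr ⟨?_, h⟩
    obtain ⟨σ, hσ⟩ := hmove h
    refine unramified_of_moving hp h z (P - C a) (hP.sub_of_left ?_) ?_ ?_ σ hσ
    · exact degree_C_le.trans_lt (by rw [degree_eq_natDegree hP.ne_zero, hdeg]; exact_mod_cast hp.pos)
    · rw [Polynomial.map_sub, hred, map_C, separable_def]
      refine ⟨0, C (-1), ?_⟩
      simp [derivative_X_pow, CharP.cast_eq_zero]
    · rw [map_sub, hz, aeval_C, ← ha, ← IsScalarTower.algebraMap_apply, sub_self]
  · intro n a hn hpn hξ'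
    obtain ⟨V, hV⟩ := exists_dominates g
    have hca : ∀ i, V.valuation (g (P.coeff i)) ≤ 1 := fun i => (V.valuation_le_one_iff _).mpr (hV.1 _)
    have hv1 : V.valuation (g a) = 1 := by
      refine le_antisymm ((V.valuation_le_one_iff _).mpr (hV.1 _)) ?_
      have h1 : V.valuation (g a) * V.valuation (g (↑a⁻¹ : A)) = 1 := by
        rw [← map_mul, ← map_mul, Units.mul_inv, map_one, map_one]
      exact h1.ge.trans (mul_le_of_le_one_right' ((V.valuation_le_one_iff _).mpr (hV.1 _)))
    have hzV : 1 < V.valuation z := by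
      by_contra hz1
      rw [not_lt] at hz1
      refine absurd hv1 (ne_of_lt ?_)
      rw [← hξ n a hξ', map_mul, map_pow]
      refine lt_of_le_of_lt (mul_le_of_le_one_left' ?_) (pow_lt_one₀ zero_le (hV.2 π hπm) hn.ne')
      rw [V.valuation_le_one_iff]
      have hz' := (V.valuation_le_one_iff z).mp hz1
      exact add_mem (pow_mem hz' _) (sum_mem fun i _ => mul_mem (hV.1 _) (pow_mem hz' i))
    have hz0 : z ≠ 0 := fun h => by rw [h, map_zero] at hzV; exact absurd hzV (not_lt.mpr zero_le_one)
    have hy1 : V.valuation z⁻¹ < 1 := by rw [map_inv₀]; exact inv_lt_one_of_one_lt₀ hzV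
    let t : L := 1 + ∑ i ∈ Finset.range p, g (P.coeff i) * z⁻¹ ^ (p - i)
    have hts : V.valuation (∑ i ∈ Finset.range p, g (P.coeff i) * z⁻¹ ^ (p - i)) < 1 :=
      Valuation.map_sum_lt _ one_ne_zero fun i hi => by
        rw [map_mul, map_pow]
        exact (mul_le_of_le_one_left' (hca i)).trans_lt
          (pow_lt_one₀ zero_le hy1 (Nat.sub_pos_of_lt (Finset.mem_range.mp hi)).ne')
    have ht : V.valuation t = 1 := Valuation.map_one_add_of_lt _ hts
    have hzt : (z ^ p + ∑ i ∈ Finset.range p, g (P.coeff i) * z ^ i) = z ^ p * t := by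
      rw [mul_add, mul_one, Finset.mul_sum]
      congr 1
      refine Finset.sum_congr rfl fun i hi => ?_
      have h1 : z ^ p = z ^ i * z ^ (p - i) := by rw [← pow_add, Nat.add_sub_cancel' (Finset.mem_range.mp hi).le]
      rw [h1, inv_pow]
      field_simp
    refine totallyRamified_of_pow hp hd hπ hV (y := z⁻¹) (u := t / g a) hpn ((V.valuation_le_one_iff _).mp hy1.le)
      (by rw [map_div₀, ht, hv1, div_one]) ?_
    have h2 := hξ n a hξ'
    rw [hzt] at h2
    have ha0 : g a ≠ 0 := fun h => by rw [h, map_zero] at hv1; exact zero_ne_one hv1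
    rw [inv_pow, eq_comm, div_mul_eq_mul_div, div_eq_iff ha0, ← h2]
    field_simp
    rfl
  · intro n a hn hpn hres hξ'
    obtain ⟨m, rfl⟩ := hpn
    obtain ⟨V, hV⟩ := exists_dominates g
    have hm : 0 < m := Nat.pos_of_mul_pos_left hn
    let w : L := g π ^ m * z
    have heq : w ^ p + ∑ i ∈ Finset.range p, g (P.coeff i) * g π ^ (m * (p - i)) * w ^ i = g a := by
      rw [← hξ _ a hξ', add_mul, Finset.sum_mul]
      congr 1
      · rw [mul_pow, ← pow_mul, mul_comm, mul_comm m p]
      · refine Finset.sum_congr rfl fun i hi => ?_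
        have h1 : m * (p - i) + m * i = p * m := by
          rw [← mul_add, Nat.sub_add_cancel (Finset.mem_range.mp hi).le, mul_comm]
        rw [mul_pow, ← pow_mul, ← h1, pow_add]
        ring
    have hsmall : ∀ i ∈ Finset.range p, V.valuation (g (P.coeff i) * g π ^ (m * (p - i))) < 1 := fun i hi => by
      rw [map_mul, map_pow]
      exact (mul_le_of_le_one_left' ((V.valuation_le_one_iff _).mpr (hV.1 _))).trans_lt
        (pow_lt_one₀ zero_le (hV.2 π hπm) (Nat.mul_pos hm (Nat.sub_pos_of_lt (Finset.mem_range.mp hi))).ne')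
    have hw : w ∈ V := by
      rw [← V.valuation_le_one_iff]
      by_contra hw
      rw [not_le] at hw
      have h1 : V.valuation (∑ i ∈ Finset.range p, g (P.coeff i) * g π ^ (m * (p - i)) * w ^ i) < V.valuation (w ^ p) :=
        Valuation.map_sum_lt _ (by rw [map_pow]; exact pow_ne_zero _ (zero_lt_one.trans hw).ne') fun i hi => by
          rw [map_mul, map_pow, map_pow]
          refine (mul_lt_mul_of_pos_right (hsmall i hi) (pow_pos (zero_lt_one.trans hw) i)).trans_le ?_
          rw [one_mul]
          exact pow_le_pow_right₀ hw.le (Finset.mem_range.mp hi).le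
      have h2 : V.valuation (g a) = V.valuation (w ^ p) := by rw [← heq]; exact Valuation.map_add_eq_of_lt_left _ h1
      rw [map_pow] at h2
      exact absurd ((V.valuation_le_one_iff _).mpr (hV.1 a)) (not_le.mpr (h2 ▸ one_lt_pow₀ hw hp.ne_zero))
    refine (insepCase_of_residue hp hd hV ⟨w, hw⟩ a hres ?_).1
    rw [← map_pow, ← sub_eq_zero, ← map_sub, residue_eq_zero_iff]
    refine (V.valuation_lt_one_iff _).mpr ?_
    show V.valuation (w ^ p - g a) < 1
    rw [← heq, sub_add_cancel_left, Valuation.map_neg]
    exact Valuation.map_sum_lt _ one_ne_zero fun i hi => by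
      rw [map_mul, map_pow]
      exact (mul_le_of_le_one_right' (pow_le_one₀ zero_le ((V.valuation_le_one_iff _).mpr hw))).trans_lt (hsmall i hi)

end Groth.Agent.HensEt88
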