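import Groth.Agent.HensEt88.InsepTrichotomy
import Groth.Agent.S7158

/-!
# Reduction of Artin–Schreier data
-/

set_option autoImplicit false
set_option linter.style.haveILetI false
set_option linter.unusedSectionVars false

namespace Groth.Agent.HensEt88

universe u

open IsLocalRing Polynomial

section Red

variable {F : Type u} [Field F] (p : ℕ) (V : ValuationSubring F)

/-- `θ` agrees with an element `d ^ p - d` up to valuation `γ`. -/
def Red (γ : V.ValueGroup) (θ : F) : Prop := ∃ d : F, V.valuation (θ - (d ^ p - d)) ≤ γ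

variable {p V}

theorem Red.of_le [Fact p.Prime] {γ : V.ValueGroup} {θ : F} (h : V.valuation θ ≤ γ) : Red p V γ θ :=
  ⟨0, by simpa [zero_pow (Fact.out : p.Prime).ne_zero] using h⟩

theorem Red.zero [Fact p.Prime] (γ : V.ValueGroup) : Red p V γ 0 := Red.of_le (by rw [map_zero]; exact zero_le)

theorem Red.mono {γ γ' : V.ValueGroup} {θ : F} (h : Red p V γ θ) (hγ : γ ≤ γ') : Red p V γ' θ :=
  h.imp fun _ hd => hd.trans hγ

theorem Red.add [Fact p.Prime] [CharP F p] {γ : V.ValueGroup} {θ θ' : F} (h : Red p V γ θ) (h' : Red p V γ θ') :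
    Red p V γ (θ + θ') := by
  obtain ⟨d, hd⟩ := h
  obtain ⟨d', hd'⟩ := h'
  refine ⟨d + d', ?_⟩
  rw [add_pow_char, show θ + θ' - (d ^ p + d' ^ p - (d + d')) = θ - (d ^ p - d) + (θ' - (d' ^ p - d')) by ring]
  exact (V.valuation.map_add _ _).trans (max_le hd hd')

theorem Red.pow_sub [Fact p.Prime] {γ : V.ValueGroup} (d : F) : Red p V γ (d ^ p - d) :=
  ⟨d, by rw [sub_self, map_zero]; exact zero_le⟩

theorem Red.pow [Fact p.Prime] [CharP F p] {γ : V.ValueGroup} {θ : F} (h : Red p V γ θ) : Red p V γ (θ ^ p) := by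
  simpa using h.add (Red.pow_sub θ)

theorem Red.pow_pow_sub [Fact p.Prime] [CharP F p] {γ : V.ValueGroup} (d : F) : ∀ r, Red p V γ (d ^ p ^ r - d)
  | 0 => by simpa using Red.zero γ
  | r + 1 => by
    have h := (Red.pow_sub (V := V) (γ := γ) (d ^ p ^ r)).add (Red.pow_pow_sub d r)
    rwa [← pow_mul, ← pow_succ, sub_add_sub_cancel] at h

theorem Red.sum [Fact p.Prime] [CharP F p] {γ : V.ValueGroup} {ι : Type*} (s : Finset ι) (f : ι → F)
    (h : ∀ i ∈ s, Red p V γ (f i)) : Red p V γ (∑ i ∈ s, f i) := by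
  classical
  induction s using Finset.induction_on with
  | empty => simpa using Red.zero γ
  | insert a s ha ih =>
    rw [Finset.sum_insert ha]
    exact (h a (Finset.mem_insert_self a s)).add (ih fun i hi => h i (Finset.mem_insert_of_mem hi))

end Red

section Valuation

/-- Equality of valuations can be pushed forward. -/
theorem valuation_eq_of_comap {L F : Type u} [Field L] [Field F] (W : ValuationSubring F) (f : L →+* F) {a b : L}
    (h : (W.comap f).valuation a = (W.comap f).valuation b) : W.valuation (f a) = W.valuation (f b) := by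
  rcases eq_or_ne b 0 with rfl | hb
  · rw [map_zero, Valuation.zero_iff] at h
    rw [h]
  have ha : a ≠ 0 := fun ha => by rw [ha, map_zero, eq_comm, Valuation.zero_iff] at h; exact hb h
  have key : ∀ c d : L, d ≠ 0 → (W.comap f).valuation c ≤ (W.comap f).valuation d → W.valuation (f c) ≤ W.valuation (f d) := by
    intro c d hd hle
    have hmem : c / d ∈ W.comap f := by
      rw [← (W.comap f).valuation_le_one_iff, map_div₀]
      exact div_le_one_of_le₀ hle zero_le
    have h1 : W.valuation (f (c / d)) ≤ 1 := (W.valuation_le_one_iff _).mpr hmem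
    rw [map_div₀ f, map_div₀ W.valuation] at h1
    exact (div_le_one₀ (zero_lt_iff.mpr ((_root_.map_ne_zero W.valuation).mpr ((_root_.map_ne_zero f).mpr hd)))).mp h1
  exact le_antisymm (key a b hb h.le) (key b a ha h.ge)

variable {B L F : Type u} [CommRing B] [IsDomain B] [IsDiscreteValuationRing B] [Field L] [Algebra B L]
  [IsFractionRing B L] [Field F] [Algebra L F] [FiniteDimensional L F]

/-- Values and residues in an extension generated by a root of the uniformizer. -/
theorem ramified_values (V : ValuationSubring F) (hV : EtRam.Dominates B ((algebraMap L F).comp (algebraMap B L)) V)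
    {π : B} (hπ : Irreducible π) {x : F} {q : ℕ} (hq : 0 < q)
    (hx : V.valuation x ^ q = V.valuation (algebraMap L F (algebraMap B L π))) (hd : Module.finrank L F ≤ q) :
    (∀ y : F, y ≠ 0 → ∃ k : ℤ, V.valuation y = V.valuation x ^ k) ∧
      ∀ y : F, V.valuation y ≤ 1 → ∃ b : B, V.valuation (y - algebraMap L F (algebraMap B L b)) < 1 := by
  classical
  have hπ0 : V.valuation (algebraMap L F (algebraMap B L π)) ≠ 0 :=
    (_root_.map_ne_zero V.valuation).mpr ((_root_.map_ne_zero (algebraMap L F)).mpr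
      ((map_ne_zero_iff _ (IsFractionRing.injective B L)).mpr hπ.ne_zero))
  have hx0 : V.valuation x ≠ 0 := fun h => hπ0 (by rw [← hx, h, zero_pow hq.ne'])
  have hx1 : V.valuation x < 1 := (pow_lt_one_iff hq.ne').mp (hx ▸ hV.2 π hπ.not_isUnit)
  have hind := fun a h => eq_zero_of_sum_ramified (algebraMap L F) hV hπ hq hx a h
  have hval : ∀ a : L, a ≠ 0 → ∀ i : ℕ, ∃ k : ℤ, V.valuation (algebraMap L F a * x ^ i) = V.valuation x ^ ((q : ℤ) * k + i) := by
    intro a ha i
    obtain ⟨k, hk⟩ := valuation_map_eq_zpow (algebraMap L F) hV hπ ha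
    exact ⟨k, by rw [map_mul, map_pow, hk, zpow_add₀ hx0, zpow_mul, zpow_natCast, zpow_natCast, hx]⟩
  refine ⟨fun y hy => ?_, fun y hy => ?_⟩
  · obtain ⟨a, rfl⟩ := exists_sum_eq hd x hind y
    obtain ⟨j, hj, -⟩ := valuation_sum_ramified (algebraMap L F) hV hπ hq hx a
    have haj : a j ≠ 0 := fun h => hy (V.valuation.zero_iff.mp (by rw [hj, h, map_zero, zero_mul, map_zero]))
    obtain ⟨k, hk⟩ := hval _ haj j
    exact ⟨_, hj.trans hk⟩
  · obtain ⟨a, rfl⟩ := exists_sum_eq hd x hind y
    obtain ⟨j, hj, hle⟩ := valuation_sum_ramified (algebraMap L F) hV hπ hq hx a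
    have hterm : ∀ i, V.valuation (algebraMap L F (a i) * x ^ (i : ℕ)) ≤ 1 := fun i => (hle i).trans (hj ▸ hy)
    have h0 : V.valuation (algebraMap L F (a ⟨0, hq⟩)) ≤ 1 := by simpa using hterm ⟨0, hq⟩
    obtain ⟨b, hb⟩ := exists_of_map_mem (algebraMap L F) hV ((V.valuation_le_one_iff _).mp h0)
    refine ⟨b, ?_⟩
    have hsub : (∑ i, algebraMap L F (a i) * x ^ (i : ℕ)) - algebraMap L F (a ⟨0, hq⟩) =
        ∑ i ∈ Finset.univ.erase (⟨0, hq⟩ : Fin q), algebraMap L F (a i) * x ^ (i : ℕ) := by
      rw [Finset.sum_erase_eq_sub (Finset.mem_univ _), pow_zero, mul_one]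
    rw [hb, hsub]
    refine V.valuation.map_sum_lt one_ne_zero fun i hi => lt_of_le_of_ne (hterm i) fun he => ?_
    have hai : a i ≠ 0 := fun h => by rw [h, map_zero, zero_mul, map_zero] at he; exact zero_ne_one he
    obtain ⟨k, hk⟩ := hval _ hai i
    rw [he, ← zpow_zero (V.valuation x)] at hk
    have h1 := zpow_right_injective₀ (zero_lt_iff.mpr hx0) hx1.ne hk
    have h2 := congrArg (fun n : ℤ => n % q) h1
    simp only [Int.zero_emod, Int.add_emod, Int.mul_emod_right, zero_add, Int.emod_emod] at h2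
    rw [Int.emod_eq_of_lt (by positivity) (by exact_mod_cast i.2)] at h2
    exact (Finset.mem_erase.mp hi).1 (Fin.ext (by simpa using h2.symm))

/-- A valuation subring with cyclic value group is a discrete valuation ring. -/
theorem dvr_of_values (V : ValuationSubring F) {x : F} (hx0 : x ≠ 0) (hx1 : V.valuation x < 1)
    (hval : ∀ y : F, y ≠ 0 → ∃ k : ℤ, V.valuation y = V.valuation x ^ k) :
    IsDiscreteValuationRing V ∧
      maximalIdeal V = Ideal.span {(⟨x, (V.valuation_le_one_iff _).mp hx1.le⟩ : V)} := by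
  let xV : V := ⟨x, (V.valuation_le_one_iff _).mp hx1.le⟩
  have hmax : maximalIdeal V = Ideal.span {xV} := by
    refine le_antisymm (fun y hy => ?_) ((Ideal.span_singleton_le_iff_mem _).mpr ((V.valuation_lt_one_iff xV).mpr hx1))
    rw [Ideal.mem_span_singleton']
    rcases eq_or_ne (y : F) 0 with h | h
    · exact ⟨0, Subtype.ext (by simp [h])⟩
    obtain ⟨k, hk⟩ := hval _ h
    have h1 : V.valuation (y : F) < 1 := (V.valuation_lt_one_iff y).mp hy
    have hv0 : V.valuation x ≠ 0 := (_root_.map_ne_zero V.valuation).mpr hx0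
    have hk1 : 1 ≤ k := by
      by_contra hneg
      push Not at hneg
      rw [hk] at h1
      rcases eq_or_lt_of_le (show k ≤ 0 by omega) with h2 | h2
      · rw [h2, zpow_zero] at h1; exact lt_irrefl _ h1
      · exact not_lt.mpr (one_lt_zpow_of_neg₀ (zero_lt_iff.mpr hv0) hx1 h2).le h1
    refine ⟨⟨(y : F) / x, ?_⟩, Subtype.ext (div_mul_cancel₀ _ hx0)⟩
    rw [← V.valuation_le_one_iff, map_div₀, hk, div_eq_mul_inv, ← zpow_sub_one₀ hv0]
    exact zpow_le_one₀ (zero_lt_iff.mpr hv0) hx1.le (by omega)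
  have hxne : xV ≠ 0 := fun h => hx0 (congrArg Subtype.val h)
  have hirr : Irreducible xV :=
    ((Ideal.span_singleton_prime hxne).mp (hmax ▸ (maximalIdeal.isMaximal V).isPrime)).irreducible
  refine ⟨?_, hmax⟩
  refine IsDiscreteValuationRing.ofHasUnitMulPowIrreducibleFactorization ⟨xV, hirr, fun {y} hy => ?_⟩
  have hy' : (y : F) ≠ 0 := fun h => hy (Subtype.ext h)
  obtain ⟨k, hk⟩ := hval _ hy'
  have hv0 : V.valuation x ≠ 0 := (_root_.map_ne_zero V.valuation).mpr hx0
  have hk0 : 0 ≤ k := by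
    by_contra hneg
    push Not at hneg
    exact not_lt.mpr (hk ▸ (V.valuation_le_one_iff _).mpr y.2) (one_lt_zpow_of_neg₀ (zero_lt_iff.mpr hv0) hx1 hneg)
  lift k to ℕ using hk0
  have h1 : V.valuation ((y : F) / x ^ k) = 1 := by
    rw [map_div₀, map_pow, hk, zpow_natCast, div_self (pow_ne_zero _ hv0)]
  refine ⟨k, ?_⟩
  have hu : IsUnit (⟨(y : F) / x ^ k, (V.valuation_le_one_iff _).mp h1.le⟩ : V) := by
    by_contra hnu
    exact absurd h1 ((V.valuation_lt_one_iff _).mp hnu).ne
  exact ⟨hu.unit, Subtype.ext (by simp [xV, mul_div_cancel₀ _ (pow_ne_zero k hx0)])⟩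

end Valuation

section NormalForm

variable {A B L : Type u} [CommRing A] [IsDomain A] [IsDiscreteValuationRing A] [CommRing B] [IsDomain B]
  [IsDiscreteValuationRing B] [Algebra A B] [IsLocalHom (algebraMap A B)] [Field L] [Algebra B L] [IsFractionRing B L]

/-- A normal form of a pole modulo `d ^ p - d` and integral elements. -/
theorem exists_normal_form {p : ℕ} (hp : p.Prime) [CharP L p] {π : A}
    (hπ : maximalIdeal B = Ideal.span {algebraMap A B π})
    (hk : ∀ x : ResidueField B, (∀ n : ℕ, ∃ y : ResidueField B, y ^ (p ^ n) = x) ↔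
      x ∈ Set.range (algebraMap (ResidueField A) (ResidueField B))) :
    ∀ (n : ℕ) (a : B), ∃ (α : A) (T : Finset ℕ) (r : ℕ → ℕ) (s : ℕ → B) (d : L) (b : B),
      (∀ m ∈ T, 0 < m ∧ m ≤ n ∧ (p ∣ m → r m = 0) ∧ ∀ t : B, residue B (s m) ≠ residue B t ^ p) ∧
      algebraMap B L a / algebraMap B L (algebraMap A B π) ^ n =
        algebraMap B L (algebraMap A B α) / algebraMap B L (algebraMap A B π) ^ n +
          ∑ m ∈ T, algebraMap B L (s m) ^ (p ^ r m) / algebraMap B L (algebraMap A B π) ^ m +
          (d ^ p - d) + algebraMap B L b := by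
  classical
  haveI := Fact.mk hp
  set P := algebraMap B L (algebraMap A B π) with hP
  have hP0 : P ≠ 0 := (map_ne_zero_iff _ (IsFractionRing.injective B L)).mpr fun h =>
    IsDiscreteValuationRing.not_a_field B (by rw [hπ, h, Ideal.span_singleton_eq_bot])
  have hdiv : ∀ a : B, residue B a = 0 → ∃ a' : B, a = algebraMap A B π * a' := fun a ha => by
    rw [residue_eq_zero_iff, hπ, Ideal.mem_span_singleton'] at ha
    obtain ⟨a', rfl⟩ := ha
    exact ⟨a', mul_comm _ _⟩
  intro n
  induction n with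
  | zero => exact fun a => ⟨0, ∅, fun _ => 0, fun _ => 0, 0, a, by simp, by simp [zero_pow hp.ne_zero]⟩
  | succ n ih =>
    intro a
    by_cases hA : residue B a ∈ Set.range (algebraMap (ResidueField A) (ResidueField B))
    · obtain ⟨c, hc⟩ := hA
      obtain ⟨α₀, rfl⟩ := residue_surjective c
      obtain ⟨a', ha'⟩ := hdiv (a - algebraMap A B α₀) (by rw [map_sub, ← hc, sub_eq_zero]; rfl)
      obtain ⟨α, T, r, s, d, b, hT, heq⟩ := ih a'
      refine ⟨α₀ + π * α, T, r, s, d, b, fun m hm => ⟨(hT m hm).1, (hT m hm).2.1.trans n.le_succ, (hT m hm).2.2⟩, ?_⟩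
      rw [show a = algebraMap A B α₀ + algebraMap A B π * a' by rw [← ha']; ring, map_add, map_add, map_add, map_mul,
        map_mul, map_mul, ← hP, add_div, add_div, pow_succ', mul_div_mul_left _ _ hP0, mul_div_mul_left _ _ hP0, heq]
      ring
    by_cases hpn : p ∣ n + 1
    · by_cases hroot : ∃ t : B, residue B a = residue B t ^ p
      · obtain ⟨t, ht⟩ := hroot
        obtain ⟨a', ha'⟩ := hdiv (a - t ^ p) (by rw [map_sub, map_pow, ← ht, sub_self])
        obtain ⟨k, hk'⟩ := hpn
        have hkn : k ≤ n := by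
          have : 2 * k ≤ p * k := Nat.mul_le_mul_right k hp.two_le
          omega
        obtain ⟨α, T, r, s, d, b, hT, heq⟩ := ih (a' + t * algebraMap A B π ^ (n - k))
        refine ⟨π * α, T, r, s, d + algebraMap B L t / P ^ k, b,
          fun m hm => ⟨(hT m hm).1, (hT m hm).2.1.trans n.le_succ, (hT m hm).2.2⟩, ?_⟩
        have h1 : algebraMap B L (t * algebraMap A B π ^ (n - k)) / P ^ n = algebraMap B L t / P ^ k := by
          rw [map_mul, map_pow, ← hP, div_eq_div_iff (pow_ne_zero _ hP0) (pow_ne_zero _ hP0), mul_assoc, ← pow_add,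
            Nat.sub_add_cancel hkn]
        have h2 : algebraMap B L a / P ^ (n + 1) = (algebraMap B L t / P ^ k) ^ p + algebraMap B L a' / P ^ n := by
          rw [show a = t ^ p + algebraMap A B π * a' by rw [← ha']; ring, map_add, map_pow, map_mul, ← hP, add_div,
            div_pow, ← pow_mul, mul_comm k p, ← hk', pow_succ' P n, mul_div_mul_left _ _ hP0]
        rw [map_add, add_div, h1] at heq
        rw [h2, map_mul, map_mul, ← hP, pow_succ' P n, mul_div_mul_left _ _ hP0, add_pow_char]
        linear_combination heq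
      · push Not at hroot
        refine ⟨0, {n + 1}, fun _ => 0, fun _ => a, 0, 0, fun m hm => ?_, by simp [zero_pow hp.ne_zero]⟩
        rw [Finset.mem_singleton] at hm
        exact ⟨by omega, hm.le, fun _ => rfl, hroot⟩
    · have hno : ∃ k, ¬ ∃ y : ResidueField B, y ^ (p ^ k) = residue B a := by
        by_contra hcon
        push Not at hcon
        exact hA ((hk _).mp hcon)
      obtain ⟨R, hR⟩ : ∃ R, Nat.find hno = R + 1 :=
        ⟨Nat.find hno - 1, (Nat.succ_pred_eq_of_pos (Nat.pos_of_ne_zero fun h =>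
          (h ▸ Nat.find_spec hno) ⟨residue B a, by rw [pow_zero, pow_one]⟩)).symm⟩
      obtain ⟨y, hy⟩ := not_not.mp (Nat.find_min hno (show R < Nat.find hno by omega))
      obtain ⟨s₀, rfl⟩ := residue_surjective y
      have hs₀ : ∀ t : B, residue B s₀ ≠ residue B t ^ p := fun t ht =>
        Nat.find_spec hno ⟨residue B t, by rw [hR, pow_succ', pow_mul, ← ht, hy]⟩
      obtain ⟨a', ha'⟩ := hdiv (a - s₀ ^ (p ^ R)) (by rw [map_sub, map_pow, hy, sub_self])
      obtain ⟨α, T, r, s, d, b, hT, heq⟩ := ih a'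
      have hnT : n + 1 ∉ T := fun h => by have := (hT _ h).2.1; omega
      refine ⟨π * α, insert (n + 1) T, Function.update r (n + 1) R, Function.update s (n + 1) s₀, d, b, fun m hm => ?_, ?_⟩
      · rcases Finset.mem_insert.mp hm with rfl | hm
        · exact ⟨by omega, le_rfl, fun h => absurd h hpn, by simpa using hs₀⟩
        · have hne : m ≠ n + 1 := fun h => hnT (by rwa [← h])
          simp only [Function.update_of_ne hne]
          exact ⟨(hT m hm).1, (hT m hm).2.1.trans n.le_succ, (hT m hm).2.2⟩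
      · rw [Finset.sum_insert hnT, Function.update_self, Function.update_self,
          Finset.sum_congr rfl (fun m hm => by rw [Function.update_of_ne (fun h => hnT (by rwa [← h])),
            Function.update_of_ne (fun h => hnT (by rwa [← h]))] : ∀ m ∈ T,
              algebraMap B L (Function.update s (n + 1) s₀ m) ^ p ^ Function.update r (n + 1) R m / P ^ m =
                algebraMap B L (s m) ^ p ^ r m / P ^ m),
          show a = s₀ ^ (p ^ R) + algebraMap A B π * a' by rw [← ha']; ring, map_add, map_pow, map_mul, map_mul, map_mul,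
          ← hP, add_div, pow_succ' P n, mul_div_mul_left _ _ hP0, mul_div_mul_left _ _ hP0, heq]
        ring

/-- The normal form of a pole over the base. -/
theorem exists_normal_form_base {π : A} {p : ℕ} (hp : p.Prime) {K : Type u} [Field K] [CharP K p] [Algebra A K] [IsFractionRing A K]
    (hπ : maximalIdeal A = Ideal.span {π}) (hperf : ∀ c : ResidueField A, ∃ e, e ^ p = c) :
    ∀ (n : ℕ) (α : A), ∃ d : K,
      (∃ a : A, algebraMap A K α / algebraMap A K π ^ n - (d ^ p - d) = algebraMap A K a) ∨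
      ∃ (k : ℕ) (a : Aˣ), 0 < k ∧ ¬ p ∣ k ∧
        (algebraMap A K α / algebraMap A K π ^ n - (d ^ p - d)) * algebraMap A K π ^ k = algebraMap A K a := by
  classical
  haveI := Fact.mk hp
  set P := algebraMap A K π with hP
  have hP0 : P ≠ 0 := (map_ne_zero_iff _ (IsFractionRing.injective A K)).mpr fun h =>
    IsDiscreteValuationRing.not_a_field A (by rw [hπ, h, Ideal.span_singleton_eq_bot])
  have hdiv : ∀ a : A, residue A a = 0 → ∃ a' : A, a = π * a' := fun a ha => by
    rw [residue_eq_zero_iff, hπ, Ideal.mem_span_singleton'] at ha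
    obtain ⟨a', rfl⟩ := ha
    exact ⟨a', mul_comm _ _⟩
  intro n
  induction n with
  | zero => exact fun α => ⟨0, Or.inl ⟨α, by simp [zero_pow hp.ne_zero]⟩⟩
  | succ n ih =>
    intro α
    by_cases h0 : residue A α = 0
    · obtain ⟨α', rfl⟩ := hdiv α h0
      rw [map_mul, ← hP, pow_succ' P n, mul_div_mul_left _ _ hP0]
      exact ih α'
    by_cases hpn : p ∣ n + 1
    · obtain ⟨e, he⟩ := hperf (residue A α)
      obtain ⟨t, rfl⟩ := residue_surjective e
      obtain ⟨α', hα'⟩ := hdiv (α - t ^ p) (by rw [map_sub, map_pow, he, sub_self])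
      obtain ⟨k, hk'⟩ := hpn
      have hkn : k ≤ n := by
        have : 2 * k ≤ p * k := Nat.mul_le_mul_right k hp.two_le
        omega
      obtain ⟨d, hd⟩ := ih (α' + t * π ^ (n - k))
      refine ⟨d + algebraMap A K t / P ^ k, ?_⟩
      have h1 : algebraMap A K (t * π ^ (n - k)) / P ^ n = algebraMap A K t / P ^ k := by
        rw [map_mul, map_pow, ← hP, div_eq_div_iff (pow_ne_zero _ hP0) (pow_ne_zero _ hP0), mul_assoc, ← pow_add,
          Nat.sub_add_cancel hkn]
      have h2 : algebraMap A K α / P ^ (n + 1) = (algebraMap A K t / P ^ k) ^ p + algebraMap A K α' / P ^ n := by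
        rw [show α = t ^ p + π * α' by rw [← hα']; ring, map_add, map_pow, map_mul, ← hP, add_div,
          div_pow, ← pow_mul, mul_comm k p, ← hk', pow_succ' P n, mul_div_mul_left _ _ hP0]
      rw [map_add, add_div, h1] at hd
      rwa [h2, add_pow_char, show (algebraMap A K t / P ^ k) ^ p + algebraMap A K α' / P ^ n -
        (d ^ p + (algebraMap A K t / P ^ k) ^ p - (d + algebraMap A K t / P ^ k)) =
          algebraMap A K α' / P ^ n + algebraMap A K t / P ^ k - (d ^ p - d) by ring]
    · have hu : IsUnit α := by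
        by_contra hu
        exact h0 ((residue_eq_zero_iff α).mpr hu)
      refine ⟨0, Or.inr ⟨n + 1, hu.unit, by omega, hpn, ?_⟩⟩
      rw [zero_pow hp.ne_zero, sub_zero, sub_zero, div_mul_cancel₀ _ (pow_ne_zero _ hP0), hu.unit_spec]

end NormalForm

section Tower

variable {A F : Type u} [CommRing A] [IsLocalRing A] [Field F]

/-- `π ^ (-m)` against `x ^ (-q m)` when `x ^ q = π - π ^ N x`. -/
theorem valuation_inv_pow_sub_le (V : ValuationSubring F) {q N m : ℕ} {x P : F} (hP : V.valuation P ≤ 1) (hx : x ∈ V)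
    (hP0 : P ≠ 0) (hxP : V.valuation x ^ q = V.valuation P) (heq : x ^ q = P - P ^ N * x) (hN : 2 * m ≤ N) :
    V.valuation ((P ^ m)⁻¹ - x⁻¹ ^ (q * m)) ≤ 1 := by
  have hxq : x ^ q ≠ 0 := fun h => (_root_.map_ne_zero V.valuation).mpr hP0 (by rw [← hxP, ← map_pow, h, map_zero])
  obtain ⟨c, hc⟩ := sub_dvd_pow_sub_pow (⟨x ^ q, pow_mem hx q⟩ : V) ⟨P, (V.valuation_le_one_iff _).mp hP⟩ m
  have h2 := congrArg Subtype.val hc
  simp only [AddSubgroupClass.coe_sub, SubmonoidClass.coe_pow, MulMemClass.coe_mul] at h2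
  have hd : x ^ q - P = -(P ^ N * x) := by rw [heq]; ring
  rw [inv_pow, pow_mul, inv_sub_inv (pow_ne_zero _ hP0) (pow_ne_zero _ hxq), h2, hd, map_div₀, map_mul,
    Valuation.map_neg, map_mul, map_pow, map_mul, map_pow, map_pow, map_pow, hxP]
  refine div_le_one_of_le₀ ?_ zero_le
  calc V.valuation P ^ N * V.valuation x * V.valuation (c : F) ≤ V.valuation P ^ N * 1 * 1 :=
        mul_le_mul' (mul_le_mul' le_rfl ((V.valuation_le_one_iff _).mpr hx)) ((V.valuation_le_one_iff _).mpr c.2)
    _ = V.valuation P ^ N := by rw [mul_one, mul_one]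
    _ ≤ V.valuation P ^ (m + m) := pow_le_pow_right_of_le_one' hP (by omega)
    _ = _ := pow_add _ _ _

/-- Over a deep totally ramified extension, the poles coming from the base stay bounded. -/
theorem red_base {p : ℕ} [Fact p.Prime] [CharP F p] (g : A →+* F) (V : ValuationSubring F) (hg : EtRam.Dominates A g V)
    {π : A} (hπ : maximalIdeal A = Ideal.span {π}) (hperf : ∀ c : ResidueField A, ∃ e, e ^ p = c) {n N R : ℕ} {x : F}
    (hx0 : x ≠ 0) (hx1 : V.valuation x ≤ 1) (hxq : V.valuation x ^ (p ^ R) = V.valuation (g π))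
    (heq : x ^ (p ^ R) = g π - g π ^ N * x) (hN : n ≤ N) :
    ∀ m ≤ n, ∀ j ≤ R, ∀ β : A, Red p V (V.valuation x⁻¹ ^ n) (g β * x⁻¹ ^ (p ^ j * m)) := by
  have hp : p.Prime := Fact.out
  have hy1 : 1 ≤ V.valuation x⁻¹ := by
    rw [map_inv₀]; exact (one_le_inv₀ (zero_lt_iff.mpr ((_root_.map_ne_zero V.valuation).mpr hx0))).mpr hx1
  have hγ : (1 : V.ValueGroup) ≤ V.valuation x⁻¹ ^ n := one_le_pow₀ hy1
  intro m
  induction m using Nat.strong_induction_on with
  | _ m ihm =>
    intro hm j
    induction j with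
    | zero =>
      intro _ β
      refine Red.of_le ?_
      rw [map_mul, map_pow, pow_zero, one_mul]
      exact (mul_le_of_le_one_left' ((V.valuation_le_one_iff _).mpr (hg.1 β))).trans (pow_le_pow_right₀ hy1 hm)
    | succ j ihj =>
      intro hj β
      obtain ⟨e, he⟩ := hperf (residue A β)
      obtain ⟨c, rfl⟩ := residue_surjective e
      have h0 : residue A (β - c ^ p) = 0 := by rw [map_sub, map_pow, he, sub_self]
      rw [residue_eq_zero_iff, hπ, Ideal.mem_span_singleton'] at h0
      obtain ⟨β', hβ'⟩ := h0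
      have h1 : g β * x⁻¹ ^ (p ^ (j + 1) * m) = (g c * x⁻¹ ^ (p ^ j * m)) ^ p +
          (g β' * (x ^ (p ^ R) * x⁻¹ ^ (p ^ (j + 1) * m))) + g β' * (g π ^ N * (x * x⁻¹ ^ (p ^ (j + 1) * m))) := by
        have h2 : g β = g c ^ p + g β' * g π := by rw [← map_pow, ← map_mul, hβ', ← map_add, add_sub_cancel]
        have h3 : g π = x ^ (p ^ R) + g π ^ N * x := by rw [heq]; ring
        rw [mul_pow, ← pow_mul, show p ^ j * m * p = p ^ (j + 1) * m by ring, h2]
        linear_combination (g β' * x⁻¹ ^ (p ^ (j + 1) * m)) * h3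
      rw [h1]
      refine ((ihj (Nat.le_of_succ_le hj) c).pow.add ?_).add ?_
      · rcases le_or_gt (p ^ (j + 1) * m) (p ^ R) with hle | hlt
        · refine Red.of_le (le_trans ?_ hγ)
          rw [map_mul, map_mul]
          refine (mul_le_of_le_one_left' ((V.valuation_le_one_iff _).mpr (hg.1 β'))).trans ?_
          rw [← map_mul, inv_pow, ← div_eq_mul_inv, div_eq_mul_inv, ← pow_sub₀ x hx0 hle, map_pow]
          exact pow_le_one₀ zero_le hx1
        · obtain ⟨i, rfl⟩ := Nat.exists_eq_add_of_le hj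
          have hi : p ^ i < m := by
            rw [pow_add] at hlt
            exact Nat.lt_of_mul_lt_mul_left hlt
          have h4 : x ^ p ^ (j + 1 + i) * x⁻¹ ^ (p ^ (j + 1) * m) = x⁻¹ ^ (p ^ (j + 1) * (m - p ^ i)) := by
            rw [Nat.mul_sub, ← pow_add p]
            have h5 : p ^ (j + 1) * m = p ^ (j + 1 + i) + (p ^ (j + 1) * m - p ^ (j + 1 + i)) := by omega
            rw [h5, pow_add x⁻¹, ← mul_assoc, ← mul_pow, mul_inv_cancel₀ hx0, one_pow, one_mul, ← h5]
          rw [h4]
          exact ihm (m - p ^ i) (Nat.sub_lt (by omega) (pow_pos hp.pos i)) (by omega) (j + 1) hj β'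
      · refine Red.of_le (le_trans ?_ hγ)
        rw [map_mul, map_mul, map_mul, map_pow, map_pow, ← hxq, map_inv₀]
        refine (mul_le_of_le_one_left' ((V.valuation_le_one_iff _).mpr (hg.1 β'))).trans ?_
        have hv0 : V.valuation x ≠ 0 := (_root_.map_ne_zero V.valuation).mpr hx0
        rw [← pow_mul, mul_left_comm]
        refine mul_le_one' hx1 ?_
        have hle : p ^ (j + 1) * m ≤ p ^ R * N := Nat.mul_le_mul (Nat.pow_le_pow_right hp.pos hj) (hm.trans hN)
        rw [inv_pow, ← pow_sub₀ _ hv0 hle]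
        exact pow_le_one₀ zero_le hx1

end Tower

end Groth.Agent.HensEt88
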