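import Groth.Agent.HensEt88.DvdWeaklyEtale
import Groth.Agent.WEtLib.Vnr
import Mathlib.RingTheory.Flat.Basic

/-!
# Elements integral over a weakly étale algebra and their denominators
-/

set_option autoImplicit false
set_option linter.style.haveILetI false

namespace Groth.Agent.HensEt88

universe u

open TensorProduct Polynomial

noncomputable section

variable (A E : Type u) [CommRing A] [CommRing E] [Algebra A E] [Algebra.WeaklyEtale A E]
  (C L : Type u) [CommRing C] [CommRing L] [Algebra A C] [Algebra A L] [Algebra C L] [IsScalarTower A C L]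
  [IsIntegrallyClosedIn C L]

/-- Integral elements of the generic fibre of a weakly étale base change are integral sections. -/
theorem mem_range_of_isIntegral_tensor
    (hfrac : ∀ y : L, ∃ a c : C, IsUnit (algebraMap C L a) ∧ algebraMap C L a * y = algebraMap C L c)
    (z : L ⊗[A] E) (R : (C ⊗[A] E)[X]) (hR : R.Monic)
    (hz : eval₂ (Algebra.TensorProduct.map (IsScalarTower.toAlgHom A C L) (AlgHom.id A E)).toRingHom z R = 0) :
    ∃ τ : C ⊗[A] E, Algebra.TensorProduct.map (IsScalarTower.toAlgHom A C L) (AlgHom.id A E) τ = z := by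
  let φ : C ⊗[A] E →ₐ[A] L ⊗[A] E := Algebra.TensorProduct.map (IsScalarTower.toAlgHom A C L) (AlgHom.id A E)
  have hinjCL : Function.Injective (algebraMap C L) := (isIntegrallyClosedIn_iff.1 ‹IsIntegrallyClosedIn C L›).1
  have hφ : Function.Injective φ :=
    Module.Flat.rTensor_preserves_injective_linearMap (IsScalarTower.toAlgHom A C L).toLinearMap hinjCL
  have hden : ∀ w : L ⊗[A] E, ∃ a : C, IsUnit (algebraMap C L a) ∧ ∃ τ, φ (a ⊗ₜ 1) * w = φ τ := by
    intro w
    induction w using TensorProduct.induction_on with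
    | zero => exact ⟨1, by simp, 0, by simp⟩
    | tmul y e =>
      obtain ⟨a, c, ha, hac⟩ := hfrac y
      refine ⟨a, ha, c ⊗ₜ e, ?_⟩
      show (algebraMap C L a ⊗ₜ[A] (1 : E)) * (y ⊗ₜ[A] e) = algebraMap C L c ⊗ₜ[A] e
      rw [Algebra.TensorProduct.tmul_mul_tmul, one_mul, hac]
    | add u v hu hv =>
      obtain ⟨a, ha, τ, hτ⟩ := hu
      obtain ⟨b, hb, σ, hσ⟩ := hv
      refine ⟨a * b, by rw [map_mul]; exact ha.mul hb, (b ⊗ₜ 1) * τ + (a ⊗ₜ 1) * σ, ?_⟩
      rw [map_add, map_mul, map_mul, ← hτ, ← hσ, show (a * b) ⊗ₜ[A] (1 : E) = (a ⊗ₜ 1) * (b ⊗ₜ 1) by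
        rw [Algebra.TensorProduct.tmul_mul_tmul, one_mul], map_mul]
      ring
  obtain ⟨a, ha, τ, hτ⟩ := hden z
  rcases subsingleton_or_nontrivial (C ⊗[A] E) with hs | hs
  · refine ⟨0, ?_⟩
    have h1 : (1 : L ⊗[A] E) = 0 := by rw [← map_one φ, Subsingleton.elim (1 : C ⊗[A] E) 0, map_zero]
    exact (subsingleton_of_zero_eq_one h1.symm).elim _ _
  have h0 : (R.scaleRoots (algebraMap C (C ⊗[A] E) a)).eval τ = 0 := by
    refine hφ ?_
    rw [map_zero]
    have h1 : eval₂ φ.toRingHom (φ τ) (R.scaleRoots (algebraMap C (C ⊗[A] E) a)) = 0 := by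
      rw [← hτ]
      refine (scaleRoots_eval₂_mul φ.toRingHom z (a ⊗ₜ[A] (1 : E))).trans ?_
      rw [show eval₂ φ.toRingHom z R = 0 from hz, mul_zero]
    have h2 := eval₂_at_apply (p := R.scaleRoots (algebraMap C (C ⊗[A] E) a)) φ.toRingHom τ
    exact h2.symm.trans h1
  obtain ⟨σ, hσ⟩ := dvd_of_integral_of_weaklyEtale L R hR ha τ h0
  refine ⟨σ, ?_⟩
  have hu : IsUnit (φ (a ⊗ₜ[A] (1 : E))) := by
    show IsUnit ((Algebra.TensorProduct.includeLeft : L →ₐ[A] L ⊗[A] E) (algebraMap C L a))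
    exact ha.map _
  refine hu.mul_left_cancel ?_
  rw [hτ, hσ]
  exact (map_mul φ (a ⊗ₜ[A] (1 : E)) σ).symm

variable (K : Type u) [CommRing K] [Algebra A K] (j : L →ₐ[A] K) (ι : E →ₐ[A] K)

/-- The denominators of an element integral over `E` generate the unit ideal together with `E`. -/
theorem one_mem_span_colon
    (hfrac : ∀ y : L, ∃ a c : C, IsUnit (algebraMap C L a) ∧ algebraMap C L a * y = algebraMap C L c)
    (hv : ∀ y : L, ∃ r, y = y * y * r) (x : L) (p : L[X]) (hp : p.Monic) (hpx : p.eval x = 0)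
    (hcoeff : ∀ i, ∃ e : E, j (p.coeff i) = ι e) :
    (1 : K) ∈ Submodule.span A {w : K | ∃ c : C, (∃ c' : C, algebraMap C L c * x = algebraMap C L c') ∧
      ∃ e : E, w = j (algebraMap C L c) * ι e} := by
  classical
  rcases subsingleton_or_nontrivial (C ⊗[A] E) with hs | hs
  · have h1 : (1 : K) = 0 := by
      let μC : C ⊗[A] E →ₐ[A] K :=
        Algebra.TensorProduct.lift (j.comp (IsScalarTower.toAlgHom A C L)) ι fun _ _ => Commute.all _ _
      rw [← map_one μC, Subsingleton.elim (1 : C ⊗[A] E) 0, map_zero]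
    rw [h1]
    exact zero_mem _
  let φ : C ⊗[A] E →ₐ[A] L ⊗[A] E := Algebra.TensorProduct.map (IsScalarTower.toAlgHom A C L) (AlgHom.id A E)
  let μ : L ⊗[A] E →ₐ[A] K := Algebra.TensorProduct.lift j ι fun _ _ => Commute.all _ _
  have hμ : ∀ (y : L) (e : E), μ (y ⊗ₜ e) = j y * ι e := fun y e => Algebra.TensorProduct.lift_tmul _ _ _ y e
  have hinjCL : Function.Injective (algebraMap C L) := (isIntegrallyClosedIn_iff.1 ‹IsIntegrallyClosedIn C L›).1
  choose e he using hcoeff
  let z : ℕ → L ⊗[A] E := fun i => p.coeff i ⊗ₜ[A] (1 : E) - (1 : L) ⊗ₜ[A] e i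
  have hz0 : ∀ i, μ (z i) = 0 := fun i => by
    simp only [z, map_sub, hμ, map_one, mul_one, one_mul, he, sub_self]
  choose c hc using fun i => WEtLib.exists_mul_eq_of_vnr hv (z i)
  let f : L ⊗[A] E := ∏ i ∈ Finset.range (p.natDegree + 1), (1 - z i * c i)
  have hidem : ∀ i, (1 - z i * c i) * (1 - z i * c i) = 1 - z i * c i := fun i => by
    linear_combination (-c i) * hc i
  have hff : f * f = f := by
    rw [← Finset.prod_mul_distrib]
    exact Finset.prod_congr rfl fun i _ => hidem i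
  have hfz : ∀ i ∈ Finset.range (p.natDegree + 1), f * z i = 0 := fun i hi => by
    have h1 : (1 - z i * c i) * z i = 0 := by linear_combination hc i
    rw [show f = (∏ k ∈ (Finset.range (p.natDegree + 1)).erase i, (1 - z k * c k)) * (1 - z i * c i) from
      (Finset.prod_erase_mul _ _ hi).symm, mul_assoc, h1, mul_zero]
  have hμf : μ f = 1 := by
    rw [map_prod]
    exact Finset.prod_eq_one fun i _ => by rw [map_sub, map_mul, hz0, zero_mul, map_one, sub_zero]
  -- the idempotent is integral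
  obtain ⟨f₀, hf₀⟩ : ∃ f₀, φ f₀ = f :=
    mem_range_of_isIntegral_tensor A E C L hfrac f (X ^ 2 - X)
      (monic_X_pow_sub (degree_X_le.trans_lt (by norm_num))) (by
        rw [eval₂_sub, eval₂_X_pow, eval₂_X, sq, hff, sub_self])
  let X' : L ⊗[A] E := (x ⊗ₜ[A] (1 : E)) * f
  let q : (C ⊗[A] E)[X] := X ^ p.natDegree +
    ∑ i ∈ Finset.range p.natDegree, Polynomial.C ((1 : C) ⊗ₜ[A] e i) * X ^ i
  have hdeg : (∑ i ∈ Finset.range p.natDegree, Polynomial.C ((1 : C) ⊗ₜ[A] e i) * X ^ i).degree <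
      (p.natDegree : WithBot ℕ) := by
    refine (degree_sum_le _ _).trans_lt ((Finset.sup_lt_iff (WithBot.bot_lt_coe _)).2 fun i hi => ?_)
    exact (degree_C_mul_X_pow_le _ _).trans_lt (WithBot.coe_lt_coe.2 (Finset.mem_range.mp hi))
  have hq : q.Monic := monic_X_pow_add hdeg
  have hqf : f * eval₂ φ.toRingHom (x ⊗ₜ[A] (1 : E)) q = 0 := by
    have h1 : f * ((p.eval x) ⊗ₜ[A] (1 : E)) = 0 := by rw [hpx, zero_tmul, mul_zero]
    rw [← h1]
    rw [hp.as_sum]
    simp only [q, eval₂_add, eval₂_X_pow, eval₂_finsetSum, eval₂_mul, eval₂_C, eval_add, eval_pow, eval_X,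
      eval_finsetSum, eval_mul, eval_C, add_tmul, sum_tmul, mul_add, Finset.mul_sum]
    congr 1
    · rw [Algebra.TensorProduct.tmul_pow, one_pow]
    · refine Finset.sum_congr rfl fun i hi => ?_
      have h2 := hfz i (Finset.mem_range.mpr (by have := Finset.mem_range.mp hi; omega))
      simp only [z, mul_sub, sub_eq_zero] at h2
      show f * (φ ((1 : C) ⊗ₜ[A] e i) * (x ⊗ₜ[A] (1 : E)) ^ i) = f * ((p.coeff i * x ^ i) ⊗ₜ[A] (1 : E))
      rw [show φ ((1 : C) ⊗ₜ[A] e i) = (1 : L) ⊗ₜ[A] e i by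
          simp [φ],
        ← mul_assoc, ← h2, mul_assoc, Algebra.TensorProduct.tmul_pow, one_pow, Algebra.TensorProduct.tmul_mul_tmul,
        one_mul]
  obtain ⟨τ, hτ⟩ : ∃ τ, φ τ = X' :=
    mem_range_of_isIntegral_tensor A E C L hfrac X' (X * q) (monic_X.mul hq) (by
      rw [eval₂_mul, eval₂_X]
      have hpow : ∀ k : ℕ, f * X' ^ k = f * (x ⊗ₜ[A] (1 : E)) ^ k := fun k => by
        induction k with
        | zero => simp
        | succ k ih =>
          rw [pow_succ, ← mul_assoc, ih, pow_succ]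
          show f * (x ⊗ₜ[A] (1 : E)) ^ k * ((x ⊗ₜ[A] (1 : E)) * f) = _
          linear_combination (x ⊗ₜ[A] (1 : E)) ^ k * (x ⊗ₜ[A] (1 : E)) * hff
      have h3 : f * eval₂ φ.toRingHom X' q = f * eval₂ φ.toRingHom (x ⊗ₜ[A] (1 : E)) q := by
        simp only [eval₂_eq_sum_range, Finset.mul_sum]
        refine Finset.sum_congr rfl fun k _ => ?_
        linear_combination (φ.toRingHom (q.coeff k)) * hpow k
      show (x ⊗ₜ[A] (1 : E)) * f * eval₂ φ.toRingHom X' q = 0
      rw [mul_assoc, h3, hqf, mul_zero])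
  -- colon
  let N : Submodule A L := LinearMap.range (IsScalarTower.toAlgHom A C L).toLinearMap
  let g : C →ₗ[A] L ⧸ N := N.mkQ ∘ₗ (LinearMap.mul A L x) ∘ₗ (IsScalarTower.toAlgHom A C L).toLinearMap
  have hg : LinearMap.rTensor E g f₀ = 0 := by
    have h1 : ∀ w : C ⊗[A] E, LinearMap.rTensor E g w = LinearMap.rTensor E N.mkQ ((x ⊗ₜ[A] (1 : E)) * φ w) := by
      intro w
      induction w using TensorProduct.induction_on with
      | zero => simp
      | tmul c e =>
        rw [LinearMap.rTensor_tmul, show φ (c ⊗ₜ e) = algebraMap C L c ⊗ₜ[A] e from rfl,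
          Algebra.TensorProduct.tmul_mul_tmul, one_mul, LinearMap.rTensor_tmul]
        rfl
      | add u v hu hv => simp only [map_add, mul_add, hu, hv]
    have h2 : ∀ w : C ⊗[A] E, LinearMap.rTensor E N.mkQ (φ w) = 0 := by
      intro w
      induction w using TensorProduct.induction_on with
      | zero => simp
      | tmul c e =>
        rw [show φ (c ⊗ₜ e) = algebraMap C L c ⊗ₜ[A] e from rfl, LinearMap.rTensor_tmul,
          show N.mkQ (algebraMap C L c) = 0 from (Submodule.Quotient.mk_eq_zero N).mpr ⟨c, rfl⟩, zero_tmul]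
      | add u v hu hv => simp only [map_add, hu, hv, add_zero]
    rw [h1, hf₀, show (x ⊗ₜ[A] (1 : E)) * f = φ τ from hτ.symm, h2]
  obtain ⟨w, hw⟩ := (Module.Flat.rTensor_exact E (LinearMap.exact_subtype_ker_map g) f₀).mp hg
  rw [← hμf, ← hf₀, ← hw]
  clear hw hg hτ hqf
  induction w using TensorProduct.induction_on with
  | zero => simp
  | tmul c e' =>
    refine Submodule.subset_span ⟨c.1, ?_, e', ?_⟩
    · have hc' : N.mkQ (x * algebraMap C L c.1) = 0 := c.2
      obtain ⟨c', hc''⟩ := (Submodule.Quotient.mk_eq_zero N).mp hc'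
      exact ⟨c', by rw [mul_comm]; exact hc''.symm⟩
    · rw [LinearMap.rTensor_tmul]
      show μ (algebraMap C L c.1 ⊗ₜ[A] e') = _
      rw [hμ]
  | add u v hu hv =>
    simp only [map_add]
    exact add_mem hu hv

end

end Groth.Agent.HensEt88
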