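import Mathlib
import Groth.Prelude.Def_EtRam
import Groth.Agent.KrullAki.Valuation

/-!
# Valuation subrings of a finite separable extension over a discrete valuation ring
-/

set_option autoImplicit false
set_option linter.style.haveILetI false

namespace Groth.Agent.HensEt88

universe u

open IsLocalRing

section Dominates

variable {A : Type u} [CommRing A] [IsLocalRing A] {L : Type u} [Field L] {g : A →+* L}

theorem Dominates.isLocalHom {V : ValuationSubring L} (h : EtRam.Dominates A g V) :
    IsLocalHom (g.codRestrict V h.1) := by
  refine ⟨fun a ha => by_contra fun hu => ?_⟩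
  have h1 := (V.valuation_lt_one_iff (g.codRestrict V h.1 a)).mpr (h.2 a hu)
  exact h1 ha

theorem dominates_of_isLocalHom (V : ValuationSubring L) (h : ∀ a, g a ∈ V) (hl : IsLocalHom (g.codRestrict V h)) :
    EtRam.Dominates A g V :=
  ⟨h, fun a ha => (V.valuation_lt_one_iff (g.codRestrict V h a)).mp fun hu => ha (hl.map_nonunit a hu)⟩

/-- A valuation subring dominating a local ring exists. -/
theorem exists_dominates (g : A →+* L) : ∃ V : ValuationSubring L, EtRam.Dominates A g V := by
  obtain ⟨V, h, hl⟩ := IsLocalRing.exists_factor_valuationRing g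
  exact ⟨V, dominates_of_isLocalHom V h hl⟩

/-- The restriction of a dominating valuation subring to an intermediate field dominates. -/
theorem dominates_comap {M : Type u} [Field M] (f : L →+* M) {g' : A →+* M} (hg : g' = f.comp g)
    {W : ValuationSubring M} (h : EtRam.Dominates A g' W) : EtRam.Dominates A g (W.comap f) := by
  subst hg
  haveI := Dominates.isLocalHom h
  refine dominates_of_isLocalHom _ h.1 ⟨fun a ha => ?_⟩
  have h1 : IsUnit ((f.comp g).codRestrict W h.1 a) := ha.map (EtRam.inclOfComap W f)
  exact h1.of_map ((f.comp g).codRestrict W h.1) a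

theorem dominates_subtype_comap {M : Type u} [Field M] (f : L →+* M) (W : ValuationSubring M) :
    EtRam.Dominates (W.comap f) (f.comp (W.comap f).subtype) W :=
  dominates_of_isLocalHom _ (fun a => a.2) (EtRam.isLocalHom_inclOfComap W f)

/-- Domination is transitive. -/
theorem dominates_trans {M : Type u} [Field M] (f : L →+* M) {V : ValuationSubring L} (hV : EtRam.Dominates A g V)
    {W : ValuationSubring M} (hW : EtRam.Dominates V (f.comp V.subtype) W) :
    EtRam.Dominates A (f.comp g) W :=
  ⟨fun a => hW.1 ⟨g a, hV.1 a⟩, fun a ha => hW.2 ⟨g a, hV.1 a⟩ ((V.valuation_lt_one_iff _).mpr (hV.2 a ha))⟩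

end Dominates

section DVR

variable {A K L : Type u} [CommRing A] [IsDomain A] [IsDiscreteValuationRing A] [Field K] [Algebra A K]
  [IsFractionRing A K] [Field L] [Algebra K L] [FiniteDimensional K L] [Algebra.IsSeparable K L]

/-- A valuation subring of a finite separable extension dominating a DVR is a DVR. -/
theorem isDiscreteValuationRing_of_dominates {V : ValuationSubring L}
    (hV : EtRam.Dominates A ((algebraMap K L).comp (algebraMap A K)) V) : IsDiscreteValuationRing V := by
  letI : Algebra A L := ((algebraMap K L).comp (algebraMap A K)).toAlgebra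
  haveI : IsScalarTower A K L := .of_algebraMap_eq' rfl
  let B := integralClosure A L
  haveI : IsFractionRing B L := integralClosure.isFractionRing_of_finite_extension K L
  haveI : IsDedekindDomain B := integralClosure.isDedekindDomain A K L
  haveI : IsFractionRing B.toSubring L := ‹IsFractionRing B L›
  haveI : IsNoetherianRing B.toSubring := inferInstanceAs (IsNoetherianRing B)
  haveI : Ring.KrullDimLE 1 B.toSubring := inferInstanceAs (Ring.KrullDimLE 1 B)
  have hle : B.toSubring ≤ V.toSubring := by
    intro x hx
    obtain ⟨P, hP, hPx⟩ := (show IsIntegral A x from hx)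
    have h1 : IsIntegral V x := ⟨P.map (((algebraMap K L).comp (algebraMap A K)).codRestrict V hV.1), hP.map _, by
      rw [Polynomial.eval₂_map]
      exact hPx⟩
    obtain ⟨v, hv⟩ := IsIntegrallyClosed.isIntegral_iff.mp h1
    exact hv ▸ v.2
  haveI : IsNoetherianRing V.toSubring := KrullAki.isNoetherianRing_of_le B.toSubring hle
  haveI : IsNoetherianRing V := ‹IsNoetherianRing V.toSubring›
  haveI : IsPrincipalIdealRing V := ((IsBezout.TFAE (R := V)).out 0 1).mp ‹IsNoetherianRing V›
  refine { not_a_field' := fun hbot => ?_ }
  haveI := Dominates.isLocalHom hV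
  obtain ⟨π, hπ⟩ := IsDiscreteValuationRing.exists_irreducible A
  have h1 : ((algebraMap K L).comp (algebraMap A K)).codRestrict V hV.1 π ∈ maximalIdeal V :=
    map_nonunit _ π hπ.not_isUnit
  rw [hbot, Ideal.mem_bot] at h1
  exact hπ.ne_zero (IsFractionRing.injective A K ((algebraMap K L).injective (by
    rw [map_zero, map_zero]; exact congrArg Subtype.val h1)))

end DVR

section Index

variable (A V : Type u) [CommRing A] [IsLocalRing A] [CommRing V] [IsDomain V] [IsDiscreteValuationRing V]
  [Algebra A V]

/-- The extension of the maximal ideal is the power given by the ramification index. -/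
theorem map_maximalIdeal_eq_pow (h : (maximalIdeal A).map (algebraMap A V) ≠ ⊥) :
    (maximalIdeal A).map (algebraMap A V) =
      maximalIdeal V ^ Ideal.ramificationIdx' (maximalIdeal A) (maximalIdeal V) := by
  obtain ⟨π, hπ⟩ := IsDiscreteValuationRing.exists_irreducible V
  obtain ⟨n, hn⟩ := IsDiscreteValuationRing.ideal_eq_span_pow_irreducible h hπ
  have hm : (maximalIdeal A).map (algebraMap A V) = maximalIdeal V ^ n := by
    rw [hn, hπ.maximalIdeal_eq, Ideal.span_singleton_pow]
  rw [Ideal.ramificationIdx'_spec hm.le ?_]
  · exact hm
  · rw [hm]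
    exact fun hle => (Ideal.pow_right_strictAnti _ (IsDiscreteValuationRing.not_a_field V)
      (maximalIdeal.isMaximal V).ne_top (Nat.lt_succ_self n)).not_ge hle

theorem isWeaklyUnramified_iff (h : (maximalIdeal A).map (algebraMap A V) ≠ ⊥) :
    EtRam.IsWeaklyUnramified A V ↔ Ideal.ramificationIdx' (maximalIdeal A) (maximalIdeal V) = 1 := by
  rw [EtRam.IsWeaklyUnramified, map_maximalIdeal_eq_pow A V h]
  constructor
  · intro h1
    exact (Ideal.pow_right_strictAnti _ (IsDiscreteValuationRing.not_a_field V)
      (maximalIdeal.isMaximal V).ne_top).injective (h1.trans (pow_one _).symm)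
  · intro h1
    rw [h1, pow_one]

/-- Multiplicativity of the ramification index in a tower. -/
theorem ramificationIdx'_tower (W : Type u) [CommRing W] [IsDomain W] [IsDiscreteValuationRing W] [Algebra V W]
    [Algebra A W] [IsScalarTower A V W] (hA : (maximalIdeal A).map (algebraMap A V) ≠ ⊥)
    (hV : (maximalIdeal V).map (algebraMap V W) ≠ ⊥) :
    Ideal.ramificationIdx' (maximalIdeal A) (maximalIdeal W) =
      Ideal.ramificationIdx' (maximalIdeal A) (maximalIdeal V) *
        Ideal.ramificationIdx' (maximalIdeal V) (maximalIdeal W) := by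
  have h : (maximalIdeal A).map (algebraMap A W) = maximalIdeal W ^
      (Ideal.ramificationIdx' (maximalIdeal A) (maximalIdeal V) *
        Ideal.ramificationIdx' (maximalIdeal V) (maximalIdeal W)) := by
    rw [IsScalarTower.algebraMap_eq A V W, ← Ideal.map_map, map_maximalIdeal_eq_pow A V hA, Ideal.map_pow,
      map_maximalIdeal_eq_pow V W hV, ← pow_mul, mul_comm]
  refine Ideal.ramificationIdx'_spec h.le ?_
  rw [h]
  exact fun hle => (Ideal.pow_right_strictAnti _ (IsDiscreteValuationRing.not_a_field W)
    (maximalIdeal.isMaximal W).ne_top (Nat.lt_succ_self _)).not_ge hle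

theorem charP_residueField [IsLocalHom (algebraMap A V)] (p : ℕ) [CharP (ResidueField A) p] :
    CharP (ResidueField V) p :=
  charP_of_injective_algebraMap (algebraMap (ResidueField A) (ResidueField V)).injective p

end Index

section Tower

variable {A K L M : Type u} [CommRing A] [IsDomain A] [IsDiscreteValuationRing A] [Field K] [Algebra A K]
  [IsFractionRing A K] [Field L] [Field M] [Algebra K L] [Algebra K M] [Algebra L M] [IsScalarTower K L M]

theorem map_maximalIdeal_ne_bot {V : ValuationSubring L}
    (hV : EtRam.Dominates A ((algebraMap K L).comp (algebraMap A K)) V) :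
    (maximalIdeal A).map (((algebraMap K L).comp (algebraMap A K)).codRestrict V hV.1) ≠ ⊥ := by
  rw [Ne, Ideal.map_eq_bot_iff_of_injective]
  · exact IsDiscreteValuationRing.not_a_field A
  · intro x y h
    exact IsFractionRing.injective A K ((algebraMap K L).injective (congrArg Subtype.val h))

variable [FiniteDimensional K M] [Algebra.IsSeparable K M]

/-- Residue fields and ramification indices in a tower of dominating valuation subrings. -/
theorem tower_iff {V : ValuationSubring L} {W : ValuationSubring M}
    (hV : EtRam.Dominates A ((algebraMap K L).comp (algebraMap A K)) V)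
    (hW : EtRam.Dominates V ((algebraMap L M).comp V.subtype) W)
    (hAW : EtRam.Dominates A ((algebraMap K M).comp (algebraMap A K)) W) :
    letI : Algebra A V := (RingHom.codRestrict ((algebraMap K L).comp (algebraMap A K)) V hV.1).toAlgebra
    letI : Algebra A W := (RingHom.codRestrict ((algebraMap K M).comp (algebraMap A K)) W hAW.1).toAlgebra
    letI : Algebra V W := (RingHom.codRestrict ((algebraMap L M).comp V.subtype) W hW.1).toAlgebra
    ∀ [IsLocalHom (algebraMap A V)] [IsLocalHom (algebraMap A W)] [IsLocalHom (algebraMap V W)],
      ((Algebra.IsSeparable (ResidueField A) (ResidueField V) ∧ Algebra.IsSeparable (ResidueField V) (ResidueField W))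
        ↔ Algebra.IsSeparable (ResidueField A) (ResidueField W)) ∧
      Ideal.ramificationIdx' (maximalIdeal A) (maximalIdeal W) =
        Ideal.ramificationIdx' (maximalIdeal A) (maximalIdeal V) *
          Ideal.ramificationIdx' (maximalIdeal V) (maximalIdeal W) := by
  letI : Algebra A V := (RingHom.codRestrict ((algebraMap K L).comp (algebraMap A K)) V hV.1).toAlgebra
  letI : Algebra A W := (RingHom.codRestrict ((algebraMap K M).comp (algebraMap A K)) W hAW.1).toAlgebra
  letI : Algebra V W := (RingHom.codRestrict ((algebraMap L M).comp V.subtype) W hW.1).toAlgebra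
  intro _ _ _
  haveI : FiniteDimensional K L := FiniteDimensional.left K L M
  haveI : Algebra.IsSeparable K L := Algebra.isSeparable_tower_bot_of_isSeparable K L M
  haveI := isDiscreteValuationRing_of_dominates hV
  haveI := isDiscreteValuationRing_of_dominates hAW
  haveI : IsScalarTower A V W := .of_algebraMap_eq fun a => Subtype.ext (IsScalarTower.algebraMap_apply K L M _)
  haveI : IsScalarTower (ResidueField A) (ResidueField V) (ResidueField W) := .of_algebraMap_eq fun x => by
    obtain ⟨a, rfl⟩ := residue_surjective x
    exact congrArg (residue W) (IsScalarTower.algebraMap_apply A V W a)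
  refine ⟨⟨fun h => ?_, fun h => ⟨?_, ?_⟩⟩, ramificationIdx'_tower A V W (map_maximalIdeal_ne_bot hV) ?_⟩
  · haveI := h.1; haveI := h.2
    exact Algebra.IsSeparable.trans (ResidueField A) (ResidueField V) (ResidueField W)
  · exact Algebra.isSeparable_tower_bot_of_isSeparable (ResidueField A) (ResidueField V) (ResidueField W)
  · exact Algebra.isSeparable_tower_top_of_isSeparable (ResidueField A) (ResidueField V) (ResidueField W)
  · rw [Ne, Ideal.map_eq_bot_iff_of_injective]
    · exact IsDiscreteValuationRing.not_a_field V
    · intro x y h
      exact Subtype.ext ((algebraMap L M).injective (congrArg Subtype.val h))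

end Tower

end Groth.Agent.HensEt88
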