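import Mathlib
import Groth.Prelude.Def_EtRam
import Groth.Agent.HensEt88.DvrExt

/-!
# Local models of dominating valuation subrings
-/

set_option autoImplicit false
set_option linter.style.haveILetI false

namespace Groth.Agent.HensEt88

universe u

open IsLocalRing

variable {S : Type u} [CommRing S] [IsLocalRing S] [IsNoetherianRing S] {F : Type u} [Field F]

omit [IsNoetherianRing S] in
theorem exists_eq_unit_mul_pow_of_not_mem {t s : S} (ht : maximalIdeal S = Ideal.span {t}) {n : ℕ}
    (h1 : s ∈ maximalIdeal S ^ n) (h2 : s ∉ maximalIdeal S ^ (n + 1)) : ∃ u : Sˣ, s = u * t ^ n := by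
  rw [ht, Ideal.span_singleton_pow, Ideal.mem_span_singleton'] at h1 h2
  obtain ⟨u, rfl⟩ := h1
  have hu : IsUnit u := by
    by_contra hu
    have hu' : u ∈ Ideal.span {t} := ht ▸ hu
    obtain ⟨c, rfl⟩ := Ideal.mem_span_singleton'.mp hu'
    exact h2 ⟨c, by ring⟩
  exact ⟨hu.unit, rfl⟩

/-- Elements of a Noetherian local ring with principal maximal ideal are units times powers. -/
theorem exists_eq_unit_mul_pow {t : S} (ht : maximalIdeal S = Ideal.span {t}) {s : S} (hs : s ≠ 0) :
    ∃ (u : Sˣ) (n : ℕ), s = u * t ^ n := by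
  classical
  have hex : ∃ n, s ∉ maximalIdeal S ^ n := by
    by_contra h
    push Not at h
    have : s ∈ ⨅ n, maximalIdeal S ^ n := (Ideal.mem_iInf).mpr h
    rw [Ideal.iInf_pow_eq_bot_of_isLocalRing _ (maximalIdeal.isMaximal S).ne_top] at this
    exact hs this
  obtain ⟨m, hm⟩ : ∃ m, Nat.find hex = m + 1 := Nat.exists_eq_succ_of_ne_zero fun h => by
    have := Nat.find_spec hex
    rw [h, pow_zero, Ideal.one_eq_top] at this
    exact this trivial
  have h1 : s ∈ maximalIdeal S ^ m := not_not.mp (Nat.find_min hex (by omega : m < Nat.find hex))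
  obtain ⟨u, hu⟩ := exists_eq_unit_mul_pow_of_not_mem ht h1 (hm ▸ Nat.find_spec hex)
  exact ⟨u, m, hu⟩

/-- A Noetherian local ring with principal maximal ideal maps injectively to a field not killing the generator. -/
theorem injective_of_map_ne_zero {t : S} (ht : maximalIdeal S = Ideal.span {t}) (ψ : S →+* F) (h0 : ψ t ≠ 0) :
    Function.Injective ψ := by
  refine (injective_iff_map_eq_zero ψ).mpr fun s hs => by_contra fun hne => ?_
  obtain ⟨u, n, rfl⟩ := exists_eq_unit_mul_pow ht hne
  rw [map_mul, map_pow] at hs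
  exact mul_ne_zero (u.isUnit.map ψ).ne_zero (pow_ne_zero _ h0) hs

/-- Such a ring is a DVR. -/
theorem isDiscreteValuationRing_of_map_ne_zero {t : S} (ht : maximalIdeal S = Ideal.span {t}) (ψ : S →+* F)
    (h0 : ψ t ≠ 0) : ∃ _ : IsDomain S, IsDiscreteValuationRing S := by
  haveI hd : IsDomain S := (injective_of_map_ne_zero ht ψ h0).isDomain ψ
  have ht0 : t ≠ 0 := fun h => h0 (by rw [h, map_zero])
  have hnf : ¬ IsField S := by
    rw [IsLocalRing.isField_iff_maximalIdeal_eq, ht, Ideal.span_singleton_eq_bot]
    exact ht0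
  exact ⟨hd, (((IsDiscreteValuationRing.TFAE S hnf).out 4 0 :) :
    (maximalIdeal S).IsPrincipal ↔ IsDiscreteValuationRing S).1 ⟨⟨t, ht⟩⟩⟩

/-- A local model inside a valuation subring with the same fractions is the whole valuation subring. -/
theorem bijective_codRestrict_of_model {t : S} (ht : maximalIdeal S = Ideal.span {t}) (ψ : S →+* F) (h0 : ψ t ≠ 0)
    (W : ValuationSubring F) (hW : ∀ s, ψ s ∈ W) (hl : IsLocalHom (ψ.codRestrict W hW))
    (hgen : ∀ y : F, ∃ a b, ψ b ≠ 0 ∧ ψ a = y * ψ b) : Function.Bijective (ψ.codRestrict W hW) := by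
  refine ⟨fun a b h => injective_of_map_ne_zero ht ψ h0 (congrArg Subtype.val h), fun y => ?_⟩
  obtain ⟨a, b, hb, hab⟩ := hgen y
  by_cases hy : y = 0
  · exact ⟨0, by rw [hy, map_zero]⟩
  have hy' : (y : F) ≠ 0 := fun h => hy (Subtype.ext h)
  obtain ⟨u, m, rfl⟩ := exists_eq_unit_mul_pow ht (s := a) fun h => mul_ne_zero hy' hb (by rw [← hab, h, map_zero])
  obtain ⟨v, n, rfl⟩ := exists_eq_unit_mul_pow ht (s := b) fun h => hb (by rw [h, map_zero])
  rcases le_or_gt n m with hnm | hnm
  · refine ⟨↑(u * v⁻¹) * t ^ (m - n), Subtype.ext ?_⟩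
    apply mul_right_cancel₀ hb
    show ψ _ * _ = (y : F) * _
    rw [← hab, ← map_mul]
    congr 1
    calc ↑(u * v⁻¹) * t ^ (m - n) * (↑v * t ^ n) = (u : S) * (↑v⁻¹ * ↑v) * (t ^ (m - n) * t ^ n) := by
          push_cast; ring
      _ = (u : S) * t ^ m := by rw [Units.inv_mul, mul_one, ← pow_add, Nat.sub_add_cancel hnm]
  · exfalso
    have h1 : y * ψ.codRestrict W hW (t ^ (n - m)) = ψ.codRestrict W hW ↑(u * v⁻¹) := by
      apply Subtype.ext
      show (y : F) * ψ (t ^ (n - m)) = ψ ↑(u * v⁻¹)
      apply mul_right_cancel₀ (b := ψ (↑v * t ^ m)) (by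
        rw [map_mul, map_pow]; exact mul_ne_zero (v.isUnit.map ψ).ne_zero (pow_ne_zero _ h0))
      rw [mul_assoc, ← map_mul, ← map_mul,
        show t ^ (n - m) * (↑v * t ^ m) = ↑v * t ^ n by rw [mul_left_comm, ← pow_add, Nat.sub_add_cancel hnm.le],
        ← hab]
      congr 1
      rw [Units.val_mul, mul_assoc, ← mul_assoc (↑v⁻¹ : S), Units.inv_mul, one_mul]
    have h2 : IsUnit (y * ψ.codRestrict W hW (t ^ (n - m))) := h1 ▸ (u * v⁻¹).isUnit.map _
    have h3 : IsUnit (t ^ (n - m)) := (isUnit_of_mul_isUnit_right h2).of_map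
    exact (maximalIdeal.isMaximal S).ne_top (Ideal.eq_top_of_isUnit_mem _
      (ht ▸ Ideal.mem_span_singleton_self t) ((isUnit_pow_iff (by omega)).mp h3))

omit [IsLocalRing S] [IsNoetherianRing S] in
/-- Fractions generate as soon as the image contains the coefficients and the generators. -/
theorem exists_frac_of_adjoin {B L : Type u} [CommRing B] [IsDomain B] [Field L] [Algebra B L] [IsFractionRing B L] [Algebra L F]
    (ψ : S →+* F) (hB : ∀ b : B, algebraMap L F (algebraMap B L b) ∈ ψ.range) (s : Set F)
    (hs : ∀ x ∈ s, x ∈ ψ.range) (htop : Algebra.adjoin L s = ⊤) :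
    ∀ y : F, ∃ a b, ψ b ≠ 0 ∧ ψ a = y * ψ b := by
  intro y
  have hy : y ∈ Algebra.adjoin L s := htop ▸ Algebra.mem_top
  induction hy using Algebra.adjoin_induction with
  | mem x hx =>
    obtain ⟨a, ha⟩ := hs x hx
    exact ⟨a, 1, by simp, by simp [ha]⟩
  | algebraMap r =>
    obtain ⟨p, q, hq, rfl⟩ := IsFractionRing.div_surjective (A := B) r
    obtain ⟨a, ha⟩ := hB p
    obtain ⟨b, hb⟩ := hB q
    have hq0 : algebraMap B L q ≠ 0 := IsFractionRing.to_map_ne_zero_of_mem_nonZeroDivisors hq
    refine ⟨a, b, ?_, ?_⟩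
    · rw [hb]; exact (map_ne_zero _).mpr hq0
    · rw [ha, hb, ← map_mul, div_mul_cancel₀ _ hq0]
  | add x y _ _ hx hy =>
    obtain ⟨a, b, hb, h1⟩ := hx
    obtain ⟨c, d, hd, h2⟩ := hy
    refine ⟨a * d + c * b, b * d, by rw [map_mul]; exact mul_ne_zero hb hd, ?_⟩
    simp only [map_add, map_mul, h1, h2]; ring
  | mul x y _ _ hx hy =>
    obtain ⟨a, b, hb, h1⟩ := hx
    obtain ⟨c, d, hd, h2⟩ := hy
    refine ⟨a * c, b * d, by rw [map_mul]; exact mul_ne_zero hb hd, ?_⟩
    simp only [map_mul, h1, h2]; ring

section Centre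

variable {A K L : Type u} [CommRing A] [IsDomain A] [IsDiscreteValuationRing A] [Field K] [Algebra A K]
  [IsFractionRing A K] [Field L] [Algebra K L] [FiniteDimensional K L] [Algebra.IsSeparable K L]
  [Algebra A L] [IsScalarTower A K L]

theorem integralClosure_le_of_dominates {V : ValuationSubring L}
    (hV : EtRam.Dominates A (algebraMap A L) V) (b : integralClosure A L) : (b : L) ∈ V := by
  obtain ⟨P, hP, hPx⟩ := b.2
  have h1 : IsIntegral V (b : L) := ⟨P.map ((algebraMap A L).codRestrict V hV.1), hP.map _, by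
    rw [Polynomial.eval₂_map]
    exact hPx⟩
  obtain ⟨v, hv⟩ := IsIntegrallyClosed.isIntegral_iff.mp h1
  exact hv ▸ v.2

/-- The centre of a dominating valuation subring on the integral closure. -/
noncomputable def centre {V : ValuationSubring L} (hV : EtRam.Dominates A (algebraMap A L) V) :
    Ideal (integralClosure A L) :=
  (maximalIdeal V).comap ((integralClosure A L).val.toRingHom.codRestrict V (integralClosure_le_of_dominates hV))

instance centre_isPrime {V : ValuationSubring L} (hV : EtRam.Dominates A (algebraMap A L) V) :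
    (centre hV).IsPrime := Ideal.comap_isPrime _ _

theorem mem_centre {V : ValuationSubring L} (hV : EtRam.Dominates A (algebraMap A L) V)
    (b : integralClosure A L) : b ∈ centre hV ↔ V.valuation (b : L) < 1 :=
  (V.valuation_lt_one_iff ((integralClosure A L).val.toRingHom.codRestrict V (integralClosure_le_of_dominates hV) b))

theorem centre_comap {V : ValuationSubring L} (hV : EtRam.Dominates A (algebraMap A L) V) :
    (centre hV).comap (algebraMap A (integralClosure A L)) = maximalIdeal A := by
  refine ((maximalIdeal.isMaximal A).eq_of_le (Ideal.comap_isPrime _ _).ne_top fun a ha => ?_).symm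
  exact (mem_centre hV _).mpr (hV.2 a ha)

include K in
theorem centre_isMaximal {V : ValuationSubring L} (hV : EtRam.Dominates A (algebraMap A L) V) :
    (centre hV).IsMaximal :=
  Ideal.isMaximal_of_isIntegral_of_isMaximal_comap (R := A) _ (by rw [centre_comap hV]; exact maximalIdeal.isMaximal A)

include K in
theorem centre_ne_bot {V : ValuationSubring L} (hV : EtRam.Dominates A (algebraMap A L) V) : centre hV ≠ ⊥ := by
  intro h
  have h1 := centre_comap hV
  have hinj : Function.Injective (algebraMap A (integralClosure A L)) := fun a b hab => by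
    have h2 : algebraMap A L a = algebraMap A L b := congrArg Subtype.val hab
    rw [IsScalarTower.algebraMap_apply A K L, IsScalarTower.algebraMap_apply A K L] at h2
    exact IsFractionRing.injective A K ((algebraMap K L).injective h2)
  rw [h, ← RingHom.ker_eq_comap_bot, (RingHom.injective_iff_ker_eq_bot _).mp hinj] at h1
  exact IsDiscreteValuationRing.not_a_field A h1.symm

include K in
/-- The local ring of the integral closure at the centre is the valuation subring. -/
theorem exists_centre_equiv {V : ValuationSubring L} (hV : EtRam.Dominates A (algebraMap A L) V) :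
    ∃ e : Localization.AtPrime (centre hV) ≃+* V,
      ∀ b, ((e (algebraMap (integralClosure A L) (Localization.AtPrime (centre hV)) b) : V) : L) = (b : L) := by
  let B := integralClosure A L
  let P := centre hV
  haveI : IsFractionRing B L := integralClosure.isFractionRing_of_finite_extension K L
  haveI : IsDedekindDomain B := integralClosure.isDedekindDomain A K L
  haveI : IsDiscreteValuationRing (Localization.AtPrime P) :=
    IsLocalization.AtPrime.isDiscreteValuationRing_of_dedekind_domain B (centre_ne_bot (K := K) hV) (Localization.AtPrime P)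
  let f : B →+* V := (integralClosure A L).val.toRingHom.codRestrict V (integralClosure_le_of_dominates hV)
  have hu : ∀ s : P.primeCompl, IsUnit (f s) := fun s => by_contra fun h => s.2 h
  let φ : Localization.AtPrime P →+* V := IsLocalization.lift hu
  have hφ : ∀ b, φ (algebraMap B _ b) = f b := IsLocalization.lift_eq hu
  haveI : IsLocalHom φ := ⟨fun x hx => by
    obtain ⟨a, s, rfl⟩ := IsLocalization.exists_mk'_eq P.primeCompl x
    rw [IsLocalization.AtPrime.isUnit_mk'_iff]
    intro ha
    have h1 : f a = f s * φ (IsLocalization.mk' (Localization.AtPrime P) a s) := by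
      rw [← hφ a, ← hφ (s : B), ← map_mul, IsLocalization.mk'_spec']
    exact (show f a ∈ maximalIdeal V from ha) (h1 ▸ (hu s).mul hx)⟩
  obtain ⟨t, ht⟩ := IsDiscreteValuationRing.exists_irreducible (Localization.AtPrime P)
  have hinj : Function.Injective φ := by
    refine (IsLocalization.lift_injective_iff (S := Localization.AtPrime P) hu).mpr fun x y => ?_
    rw [(IsLocalization.injective (Localization.AtPrime P) P.primeCompl_le_nonZeroDivisors).eq_iff]
    exact ⟨congrArg f, fun h => Subtype.ext (congrArg (fun v : V => (v : L)) h)⟩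
  let ψ : Localization.AtPrime P →+* L := V.subtype.comp φ
  have h0 : ψ t ≠ 0 := fun h => ht.ne_zero (hinj (Subtype.ext (h.trans (by simp))))
  have hgen : ∀ y : L, ∃ a b, ψ b ≠ 0 ∧ ψ a = y * ψ b := fun y => by
    obtain ⟨p, q, hq, rfl⟩ := IsFractionRing.div_surjective (A := B) y
    have hq0 : algebraMap B L q ≠ 0 := IsFractionRing.to_map_ne_zero_of_mem_nonZeroDivisors hq
    refine ⟨algebraMap B _ p, algebraMap B _ q, ?_, ?_⟩
    · show (φ _ : L) ≠ 0
      rw [hφ]; exact hq0
    · show (φ _ : L) = _ * (φ _ : L)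
      rw [hφ, hφ]; exact (div_mul_cancel₀ _ hq0).symm
  have hbij := bijective_codRestrict_of_model ht.maximalIdeal_eq ψ h0 V (fun s => (φ s).2) ‹IsLocalHom φ› hgen
  refine ⟨RingEquiv.ofBijective φ ⟨hinj, fun y => ?_⟩, fun b => ?_⟩
  · obtain ⟨z, hz⟩ := hbij.2 y
    exact ⟨z, Subtype.ext (congrArg (fun v : V => (v : L)) hz)⟩
  · exact congrArg (fun v : V => (v : L)) (hφ b)

include K in
/-- A dominating valuation subring is determined by its centre. -/
theorem eq_of_centre_eq {V V' : ValuationSubring L} (hV : EtRam.Dominates A (algebraMap A L) V)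
    (hV' : EtRam.Dominates A (algebraMap A L) V') (h : centre hV = centre hV') : V = V' := by
  obtain ⟨e, he⟩ := exists_centre_equiv (K := K) hV
  have key : ∀ x : L, x ∈ V → x ∈ V' := fun x hx => by
    obtain ⟨z, hz⟩ := e.surjective ⟨x, hx⟩
    obtain ⟨a, s, rfl⟩ := IsLocalization.exists_mk'_eq (centre hV).primeCompl z
    have h1 : (a : L) = ((s : integralClosure A L) : L) * x := by
      rw [← he a, ← he (s : integralClosure A L), ← IsLocalization.mk'_spec' (Localization.AtPrime (centre hV)) a s,
        map_mul, MulMemClass.coe_mul, hz]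
    let v : V' := ⟨((s : integralClosure A L) : L), integralClosure_le_of_dominates hV' s⟩
    have hv : IsUnit v := by_contra fun hn => s.2 (h.symm.le (show (s : integralClosure A L) ∈ centre hV' from hn))
    obtain ⟨w, hw⟩ := hv.exists_left_inv
    have h2 : x = (w : L) * (a : L) := by
      rw [h1, ← mul_assoc, show (w : L) * ((s : integralClosure A L) : L) = 1 from congrArg Subtype.val hw, one_mul]
    exact h2 ▸ mul_mem w.2 (integralClosure_le_of_dominates hV' a)
  obtain ⟨e', he'⟩ := exists_centre_equiv (K := K) hV'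
  ext x
  refine ⟨key x, fun hx => ?_⟩
  by_contra hn
  have h3 : x⁻¹ ∈ V := (V.mem_or_inv_mem x).resolve_left hn
  have h4 : ¬ IsUnit (⟨x⁻¹, h3⟩ : V) := fun hu => hn (by
    obtain ⟨w, hw⟩ := hu.exists_left_inv
    have : (w : L) * x⁻¹ = 1 := congrArg Subtype.val hw
    rw [← inv_inv x, ← eq_inv_of_mul_eq_one_left this]; exact w.2)
  obtain ⟨z, hz⟩ := e.surjective ⟨x⁻¹, h3⟩
  obtain ⟨a, s, rfl⟩ := IsLocalization.exists_mk'_eq (centre hV).primeCompl z
  have h5 : (a : L) = ((s : integralClosure A L) : L) * x⁻¹ := by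
    rw [← he a, ← he (s : integralClosure A L), ← IsLocalization.mk'_spec' (Localization.AtPrime (centre hV)) a s,
      map_mul, MulMemClass.coe_mul, hz]
  have ha : a ∈ centre hV' := h.le <| by
    by_contra hna
    exact h4 (hz ▸ ((IsLocalization.AtPrime.isUnit_mk'_iff _ _ a s).mpr hna).map e)
  have hx0 : x ≠ 0 := fun hx0 => hn (hx0 ▸ zero_mem V)
  let v : V' := ⟨((s : integralClosure A L) : L), integralClosure_le_of_dominates hV' s⟩
  have hv : IsUnit v := by_contra fun hn' => s.2 (h.symm.le (show (s : integralClosure A L) ∈ centre hV' from hn'))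
  have h6 : v = ⟨(a : L), integralClosure_le_of_dominates hV' a⟩ * ⟨x, hx⟩ := Subtype.ext (by
    show ((s : integralClosure A L) : L) = (a : L) * x
    rw [h5, mul_assoc, inv_mul_cancel₀ hx0, mul_one])
  exact (show ¬ IsUnit (⟨(a : L), integralClosure_le_of_dominates hV' a⟩ : V') from ha) (isUnit_of_mul_isUnit_left (h6 ▸ hv))

variable (A K L) in
include K in
/-- Only finitely many valuation subrings dominate. -/
theorem finite_dominates : {V : ValuationSubring L | EtRam.Dominates A (algebraMap A L) V}.Finite := by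
  haveI : IsDedekindDomain (integralClosure A L) := integralClosure.isDedekindDomain A K L
  haveI : Module.Finite A (integralClosure A L) := IsIntegralClosure.finite A K L _
  haveI : Module.IsTorsionFree A (integralClosure A L) := by
    rw [Module.isTorsionFree_iff_algebraMap_injective]
    intro a b h
    have h2 : algebraMap A L a = algebraMap A L b := congrArg Subtype.val h
    rw [IsScalarTower.algebraMap_apply A K L, IsScalarTower.algebraMap_apply A K L] at h2
    exact IsFractionRing.injective A K ((algebraMap K L).injective h2)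
  haveI : Finite ((maximalIdeal A).primesOver (integralClosure A L)) :=
    (IsDedekindDomain.primesOver_finite (maximalIdeal A) (integralClosure A L)).to_subtype
  refine Set.finite_coe_iff.mp (Finite.of_injective (β := (maximalIdeal A).primesOver (integralClosure A L))
    (fun V => ⟨centre V.2, centre_isPrime V.2, ⟨(centre_comap V.2).symm⟩⟩) fun V V' h => ?_)
  exact Subtype.ext (eq_of_centre_eq (K := K) V.2 V'.2 (congrArg Subtype.val h))

end Centre

end Groth.Agent.HensEt88
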