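import Groth.Agent.HensEt88.DvrModel

/-!
# Eisenstein polynomials give totally ramified extensions
-/

set_option autoImplicit false
set_option linter.style.haveILetI false

namespace Groth.Agent.HensEt88

universe u

open IsLocalRing Polynomial

variable {A : Type u} [CommRing A] [IsDomain A] [IsDiscreteValuationRing A]

/-- The local structure of `A[X]/(f)` for `f` Eisenstein. -/
theorem adjoinRoot_eisenstein {π : A} (hπ : maximalIdeal A = Ideal.span {π}) {f : A[X]} (hf : f.Monic)
    (he : f.IsEisensteinAt (maximalIdeal A)) (hn : 0 < f.natDegree) :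
    IsNoetherianRing (AdjoinRoot f) ∧
    (∀ b : AdjoinRoot f, ∃ a : A, ∃ b', b = AdjoinRoot.of f a + AdjoinRoot.root f * b') ∧
    ∃ _ : IsLocalRing (AdjoinRoot f), maximalIdeal (AdjoinRoot f) = Ideal.span {AdjoinRoot.root f} := by
  classical
  haveI : Module.Finite A (AdjoinRoot f) := hf.finite_adjoinRoot
  haveI : IsNoetherianRing (AdjoinRoot f) := IsNoetherianRing.of_finite A (AdjoinRoot f)
  haveI : Algebra.IsIntegral A (AdjoinRoot f) := Algebra.IsIntegral.of_finite A _
  haveI : Nontrivial (AdjoinRoot f) := by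
    refine AdjoinRoot.nontrivial f ?_
    rw [degree_eq_natDegree hf.ne_zero]
    exact_mod_cast hn.ne'
  set r := AdjoinRoot.root f
  have hsplit : ∀ b : AdjoinRoot f, ∃ a : A, ∃ b', b = AdjoinRoot.of f a + r * b' := by
    intro b
    obtain ⟨P, rfl⟩ := AdjoinRoot.mk_surjective b
    refine ⟨P.coeff 0, AdjoinRoot.mk f P.divX, ?_⟩
    conv_lhs => rw [← X_mul_divX_add P, map_add, map_mul, AdjoinRoot.mk_X, AdjoinRoot.mk_C]
    rw [add_comm]
  obtain ⟨u, hu⟩ : ∃ u : Aˣ, f.coeff 0 = u * π := by
    have h1 : f.coeff 0 ∈ maximalIdeal A := he.mem hn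
    rw [hπ, Ideal.mem_span_singleton'] at h1
    obtain ⟨c, hc⟩ := h1
    have hcu : IsUnit c := by
      by_contra hcu
      have h2 : c ∈ maximalIdeal A := hcu
      refine he.notMem ?_
      rw [pow_two, ← hc]
      exact Ideal.mul_mem_mul h2 (hπ ▸ Ideal.mem_span_singleton_self π)
    exact ⟨hcu.unit, hc.symm⟩
  have hπr : AdjoinRoot.of f π ∈ Ideal.span {r} := by
    have h0 : AdjoinRoot.mk f (X * f.divX + C (f.coeff 0)) = 0 := by
      rw [X_mul_divX_add]; exact AdjoinRoot.mk_self
    rw [map_add, map_mul, AdjoinRoot.mk_X, AdjoinRoot.mk_C, hu, map_mul] at h0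
    rw [← Ideal.unit_mul_mem_iff_mem _ (u.isUnit.map (AdjoinRoot.of f)), eq_neg_of_add_eq_zero_right h0]
    exact neg_mem (Ideal.mul_mem_right _ _ (Ideal.mem_span_singleton_self r))
  have hmax : ∀ M : Ideal (AdjoinRoot f), M.IsMaximal → M = Ideal.span {r} := by
    intro M hM
    have hcm : M.comap (AdjoinRoot.of f) = maximalIdeal A :=
      IsLocalRing.eq_maximalIdeal (Ideal.isMaximal_comap_of_isIntegral_of_isMaximal (R := A) M)
    have hrM : r ∈ M := hM.isPrime.mem_of_pow_mem f.natDegree (by
      have h0 : eval₂ (AdjoinRoot.of f) r f = 0 := AdjoinRoot.eval₂_root f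
      rw [eval₂_eq_sum_range, Finset.sum_range_succ, hf.coeff_natDegree, map_one, one_mul, add_eq_zero_iff_eq_neg'] at h0
      rw [h0]
      refine M.neg_mem (M.sum_mem fun i hi => M.mul_mem_right _ ?_)
      rw [← Ideal.mem_comap, hcm]
      exact he.mem (Finset.mem_range.mp hi))
    refine le_antisymm (fun b hb => ?_) ((Ideal.span_singleton_le_iff_mem _).2 hrM)
    obtain ⟨a, b', rfl⟩ := hsplit b
    have ha : a ∈ maximalIdeal A :=
      hcm ▸ Ideal.mem_comap.2 ((Ideal.add_mem_iff_left M (Ideal.mul_mem_right _ _ hrM)).1 hb)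
    rw [hπ, Ideal.mem_span_singleton'] at ha
    obtain ⟨c, rfl⟩ := ha
    refine add_mem ?_ (Ideal.mul_mem_right _ _ (Ideal.mem_span_singleton_self r))
    rw [map_mul]
    exact Ideal.mul_mem_left _ _ hπr
  obtain ⟨M, hM⟩ := Ideal.exists_maximal (AdjoinRoot f)
  haveI : IsLocalRing (AdjoinRoot f) :=
    IsLocalRing.of_unique_max_ideal ⟨M, hM, fun M' hM' => (hmax M' hM').trans (hmax M hM).symm⟩
  exact ⟨inferInstance, hsplit, inferInstance, hmax _ (maximalIdeal.isMaximal _)⟩

variable {K L : Type u} [Field K] [Algebra A K] [IsFractionRing A K] [Field L] [Algebra K L] [Algebra A L]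
  [IsScalarTower A K L]

/-- A field generated by a root of an Eisenstein polynomial: totally ramified, with the root a
uniformizer of the valuation ring `A[x]`. -/
theorem isTotallyRamified_of_eisenstein {π : A} (hπ : maximalIdeal A = Ideal.span {π}) {f : A[X]} (hf : f.Monic)
    (he : f.IsEisensteinAt (maximalIdeal A)) (hn : 0 < f.natDegree) (x : L) (hx : aeval x f = 0)
    (hgen : Algebra.adjoin K {x} = ⊤) :
    EtRam.IsTotallyRamified A (algebraMap A L) ∧
      ∀ V : ValuationSubring L, EtRam.Dominates A (algebraMap A L) V →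
        x ∈ V ∧ V.valuation x < 1 ∧ ∀ y ∈ V, y ∈ Algebra.adjoin A {x} := by
  classical
  obtain ⟨hN, hsplit, hloc, hmS⟩ := adjoinRoot_eisenstein hπ hf he hn
  let ψ : AdjoinRoot f →ₐ[A] L := AdjoinRoot.liftAlgHom f (Algebra.ofId A L) x hx
  have hψr : ψ (AdjoinRoot.root f) = x := AdjoinRoot.liftAlgHom_root _ _ _ _
  have hinjA : Function.Injective (algebraMap A L) := by
    rw [IsScalarTower.algebraMap_eq A K L]
    exact (algebraMap K L).injective.comp (IsFractionRing.injective A K)
  have hx0 : x ≠ 0 := fun h0 => by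
    refine he.notMem ?_
    have h1 : algebraMap A L (f.coeff 0) = 0 := by
      rw [← hx, h0]; exact coeff_zero_eq_aeval_zero' f
    rw [hinjA (h1.trans (map_zero _).symm)]
    exact zero_mem _
  have main : ∀ V : ValuationSubring L, EtRam.Dominates A (algebraMap A L) V →
      V.valuation x < 1 ∧ ∃ h : ∀ s, ψ s ∈ V, Function.Bijective (ψ.toRingHom.codRestrict V h) := by
    intro V hV
    have hxn : V.valuation x < 1 := by
      have h1 : V.valuation (x ^ f.natDegree) < 1 := by
        rw [aeval_eq_sum_range, Finset.sum_range_succ, hf.coeff_natDegree, one_smul, add_eq_zero_iff_eq_neg'] at hx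
        by_contra hge
        rw [not_lt] at hge
        have hxge : 1 ≤ V.valuation x := by
          by_contra hlt
          rw [map_pow] at hge
          exact absurd (pow_lt_one₀ zero_le (not_le.mp hlt) hn.ne') (not_lt.mpr hge)
        refine absurd ?_ (lt_irrefl (V.valuation (x ^ f.natDegree)))
        conv_lhs => rw [hx, Valuation.map_neg]
        refine Valuation.map_sum_lt _ (by rw [map_pow]; exact pow_ne_zero _ ((Valuation.ne_zero_iff _).mpr hx0)) fun i hi => ?_
        rw [Algebra.smul_def, map_mul, map_pow, map_pow]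
        calc V.valuation (algebraMap A L (f.coeff i)) * V.valuation x ^ i
            < 1 * V.valuation x ^ i := by
              exact mul_lt_mul_of_pos_right (hV.2 _ (he.mem (Finset.mem_range.mp hi)))
                (pow_pos (zero_lt_iff.mpr ((Valuation.ne_zero_iff _).mpr hx0)) _)
          _ ≤ V.valuation x ^ f.natDegree := by
              rw [one_mul]; exact pow_le_pow_right₀ hxge (Finset.mem_range.mp hi).le
      rw [map_pow] at h1
      exact not_le.mp fun h => absurd h1 (not_lt.mpr (one_le_pow₀ h))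
    have hxV : x ∈ V := (V.valuation_le_one_iff x).mp hxn.le
    have hmem : ∀ s, ψ s ∈ V := fun s => by
      obtain ⟨P, rfl⟩ := AdjoinRoot.mk_surjective s
      show ψ (AdjoinRoot.mk f P) ∈ V
      rw [← AdjoinRoot.aeval_eq, ← aeval_algHom_apply, hψr, aeval_eq_sum_range]
      refine sum_mem fun i _ => ?_
      rw [Algebra.smul_def]
      exact mul_mem (hV.1 _) (pow_mem hxV i)
    refine ⟨hxn, hmem, ?_⟩
    refine bijective_codRestrict_of_model hmS ψ.toRingHom (by rw [show ψ.toRingHom (AdjoinRoot.root f) = x from hψr]; exact hx0) V hmem ⟨fun s hs => ?_⟩ ?_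
    · by_contra hs'
      have h2 : s ∈ Ideal.span {AdjoinRoot.root f} := hmS ▸ (show s ∈ maximalIdeal _ from hs')
      obtain ⟨c, rfl⟩ := Ideal.mem_span_singleton'.mp h2
      rw [map_mul] at hs
      have h3 : IsUnit (⟨x, hxV⟩ : V) := by
        have h4 := isUnit_of_mul_isUnit_right hs
        convert h4 using 1
        exact Subtype.ext hψr.symm
      exact hxn.ne ((V.valuation_eq_one_iff ⟨x, hxV⟩).mp h3)
    · exact exists_frac_of_adjoin (B := A) (L := K) ψ.toRingHom
        (fun a => ⟨AdjoinRoot.of f a, (ψ.commutes a).trans (IsScalarTower.algebraMap_apply A K L a)⟩) {x}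
        (fun y hy => ⟨AdjoinRoot.root f, hψr.trans hy.symm⟩) hgen
  have hmemadj : ∀ s, ψ s ∈ Algebra.adjoin A {x} := fun s => by
    obtain ⟨P, rfl⟩ := AdjoinRoot.mk_surjective s
    rw [← AdjoinRoot.aeval_eq, ← aeval_algHom_apply, hψr]
    exact aeval_mem_adjoin_singleton _ _
  refine ⟨⟨exists_dominates _, fun V V' hV hV' => ?_, fun V hV z => ?_⟩, fun V hV => ?_⟩
  · obtain ⟨-, h, hb⟩ := main V hV
    obtain ⟨-, h', hb'⟩ := main V' hV'
    ext y
    refine ⟨fun hy => ?_, fun hy => ?_⟩
    · obtain ⟨s, hs⟩ := hb.2 ⟨y, hy⟩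
      rw [← (show ψ s = y from congrArg Subtype.val hs)]
      exact h' s
    · obtain ⟨s, hs⟩ := hb'.2 ⟨y, hy⟩
      rw [← (show ψ s = y from congrArg Subtype.val hs)]
      exact h s
  · obtain ⟨hxn, h, hb⟩ := main V hV
    obtain ⟨y, rfl⟩ := residue_surjective z
    obtain ⟨s, rfl⟩ := hb.2 y
    obtain ⟨a, b, rfl⟩ := hsplit s
    refine ⟨a, ?_⟩
    show residue V (RingHom.codRestrict (algebraMap A L) V hV.1 a) = _
    rw [← sub_eq_zero, ← map_sub, residue_eq_zero_iff]
    show ¬ IsUnit _
    intro hu
    have h1 := (V.valuation_eq_one_iff _).mp hu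
    have h2 : ((RingHom.codRestrict (algebraMap A L) V hV.1 a - ψ.toRingHom.codRestrict V h (AdjoinRoot.of f a + AdjoinRoot.root f * b) : V) : L) = -(x * ψ b) := by
      show algebraMap A L a - ψ (AdjoinRoot.of f a + AdjoinRoot.root f * b) = _
      rw [map_add, map_mul, hψr, show ψ (AdjoinRoot.of f a) = algebraMap A L a from ψ.commutes a]; ring
    rw [h2, Valuation.map_neg, map_mul] at h1
    exact absurd h1 (ne_of_lt ((mul_le_of_le_one_right' ((V.valuation_le_one_iff _).mpr (h b))).trans_lt hxn))
  · obtain ⟨hxn, h, hb⟩ := main V hV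
    refine ⟨(V.valuation_le_one_iff x).mp hxn.le, hxn, fun y hy => ?_⟩
    obtain ⟨s, hs⟩ := hb.2 ⟨y, hy⟩
    rw [← (show ψ s = y from congrArg Subtype.val hs)]
    exact hmemadj s

/-- A separable totally ramified extension of degree `q` generated by a root of `X ^ q + c X - π`. -/
theorem exists_eisenstein_extension (K : Type u) [Field K] [Algebra A K] [IsFractionRing A K] {π : A}
    (hπ : maximalIdeal A = Ideal.span {π}) {q : ℕ} (hq : 0 < q) {c : A} (hc : c ∈ maximalIdeal A)
    (h1 : q = 1 → c = 0) (h2 : 1 < q → c ≠ 0) :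
    ∃ (L : Type u) (_ : Field L) (_ : Algebra K L) (_ : Algebra A L) (_ : IsScalarTower A K L),
      Module.finrank K L = q ∧ Algebra.IsSeparable K L ∧ EtRam.IsTotallyRamified A (algebraMap A L) ∧
      ∃ x : L, IsIntegral A x ∧ x ^ q = algebraMap A L π - algebraMap A L c * x := by
  classical
  have hπ0 : π ≠ 0 := fun h => IsDiscreteValuationRing.not_a_field A (by rw [hπ, h, Ideal.span_singleton_eq_bot])
  have hπm : π ∈ maximalIdeal A := hπ ▸ Ideal.mem_span_singleton_self π
  let f : A[X] := X ^ q + (C c * X - C π)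
  have hdeg : (C c * X - C π).degree < (q : WithBot ℕ) := by
    rcases Nat.eq_or_lt_of_le hq with h | h
    · have hq1 : q = 1 := h.symm
      rw [h1 hq1, map_zero, zero_mul, zero_sub, degree_neg, hq1]
      exact lt_of_le_of_lt degree_C_le (by exact_mod_cast zero_lt_one)
    · exact lt_of_le_of_lt ((degree_sub_le _ _).trans (max_le ((degree_C_mul_X_le c).trans le_rfl) (degree_C_le.trans (by exact_mod_cast zero_le_one))))
        (by exact_mod_cast h)
  have hf : f.Monic := monic_X_pow_add hdeg
  have hnd : f.natDegree = q := natDegree_eq_of_degree_eq_some (by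
    rw [degree_add_eq_left_of_degree_lt (by rwa [degree_X_pow]), degree_X_pow])
  have hcoeff : ∀ i < q, f.coeff i = (C c * X - C π).coeff i := fun i hi => by
    simp [f, coeff_X_pow, hi.ne]
  have he : f.IsEisensteinAt (maximalIdeal A) := by
    refine ⟨?_, fun {i} hi => ?_, ?_⟩
    · rw [hf.leadingCoeff]; exact fun h => (maximalIdeal.isMaximal A).ne_top ((Ideal.eq_top_iff_one _).mpr h)
    · rw [hnd] at hi
      rw [hcoeff i hi]
      rcases i with _ | _ | i
      · simpa using hπm
      · simpa using hc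
      · simp [coeff_C_succ]
    · rw [hcoeff 0 hq]
      simp only [coeff_sub, mul_coeff_zero, coeff_X_zero, mul_zero, coeff_C_zero, zero_sub, neg_mem_iff]
      rw [hπ, Ideal.span_singleton_pow, Ideal.mem_span_singleton']
      rintro ⟨d, hd⟩
      have h3 : π * (d * π) = π * 1 := by linear_combination hd
      exact (maximalIdeal.isMaximal A).ne_top
        (Ideal.eq_top_of_isUnit_mem _ hπm (IsUnit.of_mul_eq_one_right d (mul_left_cancel₀ hπ0 h3)))
  have hirr : Irreducible (f.map (algebraMap A K)) :=
    hf.irreducible_iff_irreducible_map_fraction_map.mp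
      (he.irreducible (maximalIdeal.isMaximal A).isPrime hf.isPrimitive (hnd ▸ hq))
  haveI := Fact.mk hirr
  let L := AdjoinRoot (f.map (algebraMap A K))
  haveI : IsScalarTower A K L := inferInstance
  let x : L := AdjoinRoot.root _
  have hx : aeval x f = 0 := by
    rw [← aeval_map_algebraMap K]
    rw [AdjoinRoot.aeval_eq, AdjoinRoot.mk_self]
  have hsepx : IsSeparable K x := by
    have h0 : aeval x (f.map (algebraMap A K)) = 0 := by rw [aeval_map_algebraMap]; exact hx
    refine Separable.of_dvd ?_ (minpoly.dvd K x h0)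
    rw [separable_iff_derivative_ne_zero hirr]
    intro h
    have h4 := congrArg (fun P => P.coeff 0) h
    simp only [coeff_derivative, coeff_map, coeff_zero] at h4
    norm_num at h4
    rcases Nat.eq_or_lt_of_le hq with h5 | h5
    · have h5' : f.coeff 1 = 1 := by
        have hq1 : q = 1 := h5.symm
        rw [← hf.coeff_natDegree, hnd, hq1]
      rw [h5'] at h4
      exact one_ne_zero h4
    · rw [hcoeff 1 h5] at h4
      exact h2 h5 (by simpa using h4)
  refine ⟨L, inferInstance, inferInstance, inferInstance, inferInstance, ?_, ?_, ?_, x, ⟨f, hf, hx⟩, ?_⟩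
  · rw [(AdjoinRoot.powerBasis hirr.ne_zero).finrank, AdjoinRoot.powerBasis_dim, hf.natDegree_map, hnd]
  · have hdim : FiniteDimensional K L := (AdjoinRoot.powerBasis hirr.ne_zero).finite
    have hint : IsIntegral K x := Algebra.IsIntegral.isIntegral x
    have htop : IntermediateField.adjoin K {x} = ⊤ := by
      apply IntermediateField.toSubalgebra_injective
      rw [IntermediateField.adjoin_simple_toSubalgebra_of_isAlgebraic hint.isAlgebraic, IntermediateField.top_toSubalgebra,
        AdjoinRoot.adjoinRoot_eq_top]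
    haveI := (IntermediateField.isSeparable_adjoin_simple_iff_isSeparable (F := K) (E := L)).mpr hsepx
    rw [htop] at this
    exact AlgEquiv.Algebra.isSeparable (IntermediateField.topEquiv (F := K) (E := L))
  · exact (isTotallyRamified_of_eisenstein hπ hf he (hnd ▸ hq) x hx AdjoinRoot.adjoinRoot_eq_top).1
  · have h := hx
    simp only [f, map_add, map_sub, map_mul, map_pow, aeval_X, aeval_C] at h
    linear_combination h

end Groth.Agent.HensEt88
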