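import Groth.Agent.EssEtLib.LocalHom
import Groth.Agent.Hensel.HenselizationProps
import Groth.Agent.Hensel.Henselization
import Groth.Prelude.Def_Hensel

set_option autoImplicit false
set_option linter.style.haveILetI false

/-!
# Essentially étale local algebras below a strict henselization

A strict henselization of `A` is a strict henselization of every essentially étale local
`A`-algebra mapping into it; in particular it is faithfully flat over it.
-/

universe u

open IsLocalRing

namespace Groth.Agent.HensEt88

noncomputable section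

variable (A C S : Type u) [CommRing A] [IsLocalRing A] [CommRing C] [IsLocalRing C] [Algebra A C]
  [CommRing S] [IsLocalRing S] [Algebra A S] [Algebra C S] [IsScalarTower A C S]

theorem isLocalHom_of_essEtale (hC : EGA4loc.IsEssentiallyEtale A C) [IsLocalHom (algebraMap A S)] :
    IsLocalHom (algebraMap C S) := by
  haveI := EssEtLib.isLocalHom_algebraMap hC
  exact EtAlg7.isLocalHom_algHom hC (IsScalarTower.toAlgHom A C S)

theorem isStrictHenselization_of_essEtale (hC : EGA4loc.IsEssentiallyEtale A C)
    [IsLocalHom (algebraMap A S)] [IsLocalHom (algebraMap C S)] [hS : Hensel.IsStrictHenselization A S] :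
    Hensel.IsStrictHenselization C S := by
  haveI := EssEtLib.isLocalHom_algebraMap hC
  haveI htower : IsScalarTower (ResidueField A) (ResidueField C) (ResidueField S) :=
    .of_algebraMap_eq fun x => by
      obtain ⟨x, rfl⟩ := residue_surjective x
      show residue S (algebraMap A S x) = residue S (algebraMap C S (algebraMap A C x))
      rw [← IsScalarTower.algebraMap_apply]
  have hsep := hS.isSepClosure
  haveI := hsep.separable
  refine ⟨hS.henselian, ⟨hsep.sep_closed, Algebra.isSeparable_tower_top_of_isSeparable (ResidueField A) _ _⟩,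
    fun T _ _ f _ τ hτ => ?_⟩
  have hτ' : τ.comp (ResidueField.map (algebraMap A S)) = ResidueField.map (f.comp (algebraMap A C)) := by
    refine RingHom.ext fun a => ?_
    obtain ⟨a, rfl⟩ := residue_surjective a
    have := congr($hτ (residue C (algebraMap A C a)))
    simp only [RingHom.comp_apply, ResidueField.map_residue] at this ⊢
    rwa [← IsScalarTower.algebraMap_apply] at this
  haveI : IsLocalHom (f.comp (algebraMap A C)) := RingHom.isLocalHom_comp _ _
  obtain ⟨g, ⟨hg1, hg2⟩, huniq⟩ := hS.universal T (f.comp (algebraMap A C)) τ hτ'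
  letI : Algebra A T := (f.comp (algebraMap A C)).toAlgebra
  refine ⟨g, ⟨?_, hg2⟩, fun g' hg' => huniq g' ⟨?_, hg'.2⟩⟩
  · let ψ : C →ₐ[A] T :=
      { g.comp (algebraMap C S) with
        commutes' := fun a => (congrArg g (IsScalarTower.algebraMap_apply A C S a).symm).trans congr($hg1 a) }
    let ψ' : C →ₐ[A] T := { f with commutes' := fun a => rfl }
    have : ψ = ψ' := EtAlg7.algHom_ext_residue hC ψ ψ' fun x => by
      show residue T (g (algebraMap C S x)) = residue T (f x)
      rw [hg2]
      have := congr($hτ (residue C x))
      simpa only [RingHom.comp_apply, ResidueField.map_residue] using this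
    exact RingHom.ext fun x => congr($this x)
  · exact RingHom.ext fun a => by
      show g' (algebraMap A S a) = f (algebraMap A C a)
      rw [IsScalarTower.algebraMap_apply A C S]
      exact congrArg (fun h : C →+* T => h (algebraMap A C a)) hg'.1

theorem faithfullyFlat_of_essEtale (hC : EGA4loc.IsEssentiallyEtale A C)
    [IsLocalHom (algebraMap A S)] [Hensel.IsStrictHenselization A S] : Module.FaithfullyFlat C S := by
  haveI := isLocalHom_of_essEtale A C S hC
  haveI := isStrictHenselization_of_essEtale A C S hC
  exact Hensel.faithfullyFlat_of_isStrictHenselization C S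

theorem injective_algebraMap_of_essEtale (hC : EGA4loc.IsEssentiallyEtale A C)
    [IsLocalHom (algebraMap A S)] [Hensel.IsStrictHenselization A S] :
    Function.Injective (algebraMap C S) := by
  haveI := faithfullyFlat_of_essEtale A C S hC
  exact FaithfulSMul.algebraMap_injective C S

theorem isEssentiallyEtale_stage (N : Hensel.Nbhd A (SeparableClosure (ResidueField A))) :
    ∃ _ : IsLocalRing N.Stage, EGA4loc.IsEssentiallyEtale A N.Stage := by
  let p : Ideal N.B := RingHom.ker N.toK
  haveI hp : p.IsPrime := RingHom.ker_isPrime _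
  have hS : N.S = p.primeCompl := by
    ext b
    show IsUnit (N.toK b) ↔ ¬ (N.toK b = 0)
    exact isUnit_iff_ne_zero
  haveI : IsLocalization.AtPrime N.Stage p := by
    show IsLocalization p.primeCompl N.Stage
    rw [← hS]; exact Localization.isLocalization
  refine ⟨IsLocalization.AtPrime.isLocalRing N.Stage p, N.B, inferInstance, inferInstance, p, hp,
    inferInstance, ?_, ⟨(IsLocalization.algEquiv p.primeCompl N.Stage (Localization.AtPrime p)).restrictScalars A⟩⟩
  ext a
  show N.toK (algebraMap A N.B a) = 0 ↔ _
  rw [AlgHom.commutes, Hensel.algebraMap_eq_zero_iff_mem]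

/-- Finitely many elements of a strict henselization lie in an essentially étale local subalgebra. -/
theorem exists_essEtale_of_finset [IsLocalHom (algebraMap A S)] [Hensel.IsStrictHenselization A S]
    (t : Finset S) : ∃ E : Subalgebra A S, (t : Set S) ⊆ E ∧ ∃ _ : IsLocalRing E,
      IsLocalHom (algebraMap E S) ∧ EGA4loc.IsEssentiallyEtale A E := by
  classical
  obtain ⟨e⟩ := Hensel.exists_algEquiv_strictHenz A S
  obtain ⟨N, -, hN⟩ := Hensel.Henz.exists_of_finset
    (Classical.arbitrary (Hensel.Nbhd A (SeparableClosure (ResidueField A)))) (t.image e.symm)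
  obtain ⟨hloc, hess⟩ := isEssentiallyEtale_stage A N
  let φ : N.Stage →ₐ[A] S := e.toAlgHom.comp (Hensel.Henz.of N)
  letI : Algebra N.Stage S := φ.toRingHom.toAlgebra
  haveI : IsScalarTower A N.Stage S := .of_algebraMap_eq fun a => (φ.commutes a).symm
  have hinj : Function.Injective φ := injective_algebraMap_of_essEtale A N.Stage S hess
  haveI := isLocalHom_of_essEtale A N.Stage S hess
  let ε : N.Stage ≃ₐ[A] φ.range := AlgEquiv.ofInjective φ hinj
  haveI : IsLocalRing φ.range := ε.toRingEquiv.isLocalRing
  refine ⟨φ.range, fun x hx => ?_, inferInstance, ⟨fun y hy => ?_⟩, ?_⟩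
  · obtain ⟨y, hy⟩ := hN (e.symm x) (Finset.mem_image_of_mem _ hx)
    exact ⟨y, by show e (Hensel.Henz.of N y) = x; rw [hy, AlgEquiv.apply_symm_apply]⟩
  · obtain ⟨z, rfl⟩ := ε.surjective y
    exact (IsUnit.of_map (algebraMap N.Stage S) z hy).map ε
  · obtain ⟨C, _, _, q, _, hC, hq, ⟨e'⟩⟩ := hess
    exact ⟨C, inferInstance, inferInstance, q, inferInstance, hC, hq, ⟨ε.symm.trans e'⟩⟩

end

end Groth.Agent.HensEt88
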