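import Groth.Agent.HensEt88.GaloisIndex

/-!
# Tame ramification from an étale model, or from Galois degree prime to the residue characteristic
-/

set_option autoImplicit false
set_option linter.style.haveILetI false

namespace Groth.Agent.HensEt88

universe u

open IsLocalRing Polynomial

variable {A K L : Type u} [CommRing A] [IsDomain A] [IsDiscreteValuationRing A] [Field K] [Algebra A K]
  [IsFractionRing A K] [Field L] [Algebra K L] [Algebra A L] [IsScalarTower A K L]

variable (K) in
include K in
/-- A field generated by a finite étale algebra is tamely ramified (even unramified). -/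
theorem isTamelyRamified_of_etale_model (S : Type u) [CommRing S] [Algebra A S] [Module.Finite A S]
    [Algebra.Etale A S] (φ : S →ₐ[A] L) (hgen : Algebra.adjoin K (Set.range φ) = ⊤) :
    EtRam.IsTamelyRamified A (algebraMap A L) := by
  classical
  intro V hV
  letI : Algebra A V := (RingHom.codRestrict (algebraMap A L) V hV.1).toAlgebra
  intro _
  have hmem : ∀ s, φ s ∈ V := fun s => by
    obtain ⟨Q, hQ, hQs⟩ := (Algebra.IsIntegral.isIntegral (R := A) s).map φ
    obtain ⟨v, hv⟩ := IsIntegrallyClosed.isIntegral_iff.mp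
      (show IsIntegral V (φ s) from ⟨Q.map (algebraMap A V), hQ.map _, by rw [eval₂_map]; exact hQs⟩)
    exact hv ▸ v.2
  let ψ₀ : S →ₐ[A] V :=
    { toRingHom := φ.toRingHom.codRestrict V hmem, commutes' := fun a => Subtype.ext (φ.commutes a) }
  let P : Ideal S := (maximalIdeal V).comap ψ₀
  haveI : P.IsPrime := Ideal.comap_isPrime _ _
  let R := Localization.AtPrime P
  haveI : Algebra.EssFiniteType A R := Algebra.EssFiniteType.comp A S R
  haveI : IsNoetherianRing S := IsNoetherianRing.of_finite A S
  haveI : IsNoetherianRing R := IsLocalization.isNoetherianRing P.primeCompl R inferInstance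
  have hu : ∀ s : P.primeCompl, IsUnit (ψ₀ s) := fun s => by_contra fun h => s.2 h
  let ψ : R →+* V := IsLocalization.lift (g := ψ₀.toRingHom) hu
  have hψ : ∀ s, ψ (algebraMap S R s) = ψ₀ s := IsLocalization.lift_eq _
  haveI : IsLocalHom ψ := ⟨fun x hx => by
    obtain ⟨a, s, rfl⟩ := IsLocalization.exists_mk'_eq P.primeCompl x
    rw [IsLocalization.AtPrime.isUnit_mk'_iff]
    intro ha
    have h1 : ψ₀ a = ψ₀ s * ψ (IsLocalization.mk' R a s) := by
      rw [← hψ a, ← hψ (s : S), ← map_mul, IsLocalization.mk'_spec']
    exact (show ψ₀ a ∈ maximalIdeal V from ha) (h1 ▸ (hu s).mul hx)⟩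
  have hψA : ∀ a, ψ (algebraMap A R a) = algebraMap A V a := fun a => by
    rw [IsScalarTower.algebraMap_apply A S R, hψ]; exact ψ₀.commutes a
  haveI : IsLocalHom (algebraMap A R) := ⟨fun a ha => by
    have h := ha.map ψ
    rw [hψA] at h
    exact IsUnit.of_map (algebraMap A V) a h⟩
  haveI : Algebra.FormallyUnramified A R := Algebra.FormallyUnramified.comp A S R
  obtain ⟨hsep, hmap⟩ := (Algebra.FormallyUnramified.iff_map_maximalIdeal_eq (R := A) (S := R)).mp inferInstance
  obtain ⟨π, hπ⟩ := IsDiscreteValuationRing.exists_irreducible A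
  have hmR : maximalIdeal R = Ideal.span {algebraMap A R π} := by
    rw [← hmap, hπ.maximalIdeal_eq, Ideal.map_span, Set.image_singleton]
  have hinjA : Function.Injective (algebraMap A L) := by
    rw [IsScalarTower.algebraMap_eq A K L]
    exact (algebraMap K L).injective.comp (IsFractionRing.injective A K)
  have h0 : (V.subtype.comp ψ) (algebraMap A R π) ≠ 0 := by
    show ((ψ (algebraMap A R π) : V) : L) ≠ 0
    rw [hψA]
    exact (map_ne_zero_iff _ hinjA).mpr hπ.ne_zero
  have hfr := exists_frac_of_adjoin (B := A) (L := K) (V.subtype.comp ψ)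
    (fun a => ⟨algebraMap A R a, by
      show ((ψ (algebraMap A R a) : V) : L) = _
      rw [hψA, ← IsScalarTower.algebraMap_apply A K L]; rfl⟩) (Set.range φ)
    (by
      rintro _ ⟨s, rfl⟩
      exact ⟨algebraMap S R s, congrArg Subtype.val (hψ s)⟩) hgen
  have hb := bijective_codRestrict_of_model hmR (V.subtype.comp ψ) h0 V (fun r => (ψ r).2) ‹IsLocalHom ψ› hfr
  have hbij : Function.Bijective ψ := ⟨fun a b h => hb.1 (Subtype.ext (congrArg Subtype.val h)), fun y => by
    obtain ⟨r, hr⟩ := hb.2 y
    exact ⟨r, Subtype.ext (congrArg Subtype.val hr)⟩⟩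
  have hmV : (maximalIdeal A).map (algebraMap A V) = maximalIdeal V := by
    rw [show algebraMap A V = ψ.comp (algebraMap A R) from RingHom.ext fun a => (hψA a).symm, ← Ideal.map_map, hmap]
    exact IsLocalRing.eq_maximalIdeal (Ideal.map_isMaximal_of_equiv (RingEquiv.ofBijective ψ hbij))
  refine ⟨?_, fun p hp _ => ?_⟩
  · let e : ResidueField R ≃ₐ[ResidueField A] ResidueField V :=
      AlgEquiv.ofRingEquiv (f := ResidueField.mapEquiv (RingEquiv.ofBijective ψ hbij)) fun c => by
        obtain ⟨a, rfl⟩ := residue_surjective c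
        exact congrArg (residue V) (hψA a)
    exact AlgEquiv.Algebra.isSeparable e
  · rw [Ideal.ramificationIdx'_spec (n := 1) (by rw [pow_one]; exact hmV.le) ?_]
    · exact hp.not_dvd_one
    rw [hmV]
    intro h
    have hm : algebraMap A V π ∈ maximalIdeal V := hmV ▸ Ideal.mem_map_of_mem _ ((hπ.maximalIdeal_eq).ge (Ideal.mem_span_singleton_self π))
    have h2 := h hm
    rw [← hmV, hπ.maximalIdeal_eq, Ideal.map_span, Set.image_singleton, Ideal.span_singleton_pow,
      Ideal.mem_span_singleton'] at h2
    obtain ⟨c, hc⟩ := h2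
    have h3 : algebraMap A V π * (c * algebraMap A V π) = algebraMap A V π * 1 := by
      linear_combination hc
    have hne : algebraMap A V π ≠ 0 := fun h4 => hπ.ne_zero (hinjA ((congrArg Subtype.val h4).trans (map_zero _).symm))
    exact (maximalIdeal.isMaximal V).ne_top
      (Ideal.eq_top_of_isUnit_mem _ hm (IsUnit.of_mul_eq_one_right c (mul_left_cancel₀ hne h3)))

variable (K) in
include K in
/-- A Galois extension of degree invertible in the residue field is tamely ramified. -/
theorem isTamelyRamified_of_galois_degree [FiniteDimensional K L] [IsGalois K L]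
    (hd : (Module.finrank K L : ResidueField A) ≠ 0) : EtRam.IsTamelyRamified A (algebraMap A L) := by
  classical
  obtain ⟨e, f, g, hefg, -, hVi⟩ := galois_efg A K L
  intro V hV
  letI : Algebra A V := (RingHom.codRestrict (algebraMap A L) V hV.1).toAlgebra
  intro _
  rw [← hefg, Nat.cast_mul, Nat.cast_mul] at hd
  have he : (e : ResidueField A) ≠ 0 := left_ne_zero_of_mul (left_ne_zero_of_mul hd)
  have hf : (f : ResidueField A) ≠ 0 := right_ne_zero_of_mul (left_ne_zero_of_mul hd)
  refine ⟨⟨fun x => ?_⟩, fun p hp hchar => ?_⟩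
  · have hfr := (hVi V hV).2
    haveI : FiniteDimensional (ResidueField A) (ResidueField V) := Module.finite_of_finrank_pos (by
      rw [hfr]; exact Nat.pos_of_ne_zero fun h => hf (by rw [h, Nat.cast_zero]))
    have hirr := minpoly.irreducible (Algebra.IsIntegral.isIntegral (R := ResidueField A) x)
    have hdeg : ((minpoly (ResidueField A) x).natDegree : ResidueField A) ≠ 0 := fun h => by
      obtain ⟨c, hc⟩ := minpoly.degree_dvd (K := ResidueField A) (Algebra.IsIntegral.isIntegral x)
      rw [hfr] at hc
      exact hf (by rw [hc, Nat.cast_mul, h, zero_mul])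
    refine (separable_iff_derivative_ne_zero hirr).mpr fun h => hdeg ?_
    have hm := minpoly.monic (Algebra.IsIntegral.isIntegral (R := ResidueField A) x)
    have hpos : 0 < (minpoly (ResidueField A) x).natDegree :=
      minpoly.natDegree_pos (Algebra.IsIntegral.isIntegral x)
    have h5 := congrArg (fun Q => Q.coeff ((minpoly (ResidueField A) x).natDegree - 1)) h
    simp only [coeff_derivative, coeff_zero, Nat.sub_add_cancel hpos] at h5
    rw [hm.coeff_natDegree, one_mul, ← Nat.cast_add_one, Nat.sub_add_cancel hpos] at h5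
    exact h5
  · rw [(hVi V hV).1]
    exact fun h => he ((CharP.cast_eq_zero_iff (ResidueField A) p e).mpr h)

end Groth.Agent.HensEt88
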