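import Groth.Agent.NagataLib.IntClosure
import Mathlib.RingTheory.EssentialFiniteness

/-!
# Integral closure of a Nagata ring in a reduced algebra essentially of finite type
-/

set_option autoImplicit false
set_option linter.style.haveILetI false

namespace Groth.Agent.HensEt88

open Groth.Agent.NagataLib

universe u

/-- The relative algebraic closure of the base in a finitely generated domain. -/
theorem finite_integralClosure_domain_ess {A : Type u} [CommRing A] (hA : CAlg.IsNagata A) (C : Type u)
    [CommRing C] [IsDomain C] [Algebra A C] [Algebra.EssFiniteType A C] :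
    Module.Finite A (integralClosure A C) := by
  haveI := hA.1
  let p := RingHom.ker (algebraMap A C)
  haveI : p.IsPrime := RingHom.ker_isPrime _
  let A' := A ⧸ p
  letI : Algebra A' C := (Ideal.Quotient.lift p (algebraMap A C) fun a ha => ha).toAlgebra
  haveI : IsScalarTower A A' C := IsScalarTower.of_algebraMap_eq fun _ => rfl
  haveI : FaithfulSMul A' C :=
    (faithfulSMul_iff_algebraMap_injective A' C).mpr (RingHom.kerLift_injective (algebraMap A C))
  haveI : Algebra.EssFiniteType A' C := Algebra.EssFiniteType.of_comp A A' C
  let L := FractionRing C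
  haveI : IsScalarTower A' C L := inferInstance
  haveI : FaithfulSMul A' L := (faithfulSMul_iff_algebraMap_injective A' L).mpr
    (fun a b h => FaithfulSMul.algebraMap_injective A' C (IsFractionRing.injective C L (by
      rwa [IsScalarTower.algebraMap_apply A' C L, IsScalarTower.algebraMap_apply A' C L] at h)))
  letI : Algebra (FractionRing A') L := FractionRing.liftAlgebra A' L
  haveI : IsScalarTower A' (FractionRing A') L := FractionRing.isScalarTower_liftAlgebra A' L
  haveI : Algebra.EssFiniteType A' L :=
    haveI := Algebra.EssFiniteType.of_isLocalization (R := C) L (nonZeroDivisors C)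
    Algebra.EssFiniteType.comp A' C L
  haveI : Algebra.EssFiniteType (FractionRing A') L := Algebra.EssFiniteType.of_comp A' _ L
  let E := algebraicClosure (FractionRing A') L
  haveI : Algebra.IsAlgebraic (FractionRing A') E := algebraicClosure.isAlgebraic _ _
  haveI : FiniteDimensional (FractionRing A') E := finiteDimensional_of_isAlgebraic E
  letI : Algebra A' E := ((algebraMap (FractionRing A') E).comp (algebraMap A' _)).toAlgebra
  haveI : IsScalarTower A' (FractionRing A') E := IsScalarTower.of_algebraMap_eq fun _ => rfl
  haveI hE : Module.Finite A' (integralClosure A' E) := hA.2 p E ‹_›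
  haveI : Module.Finite A A' :=
    Module.Finite.of_surjective (Algebra.linearMap A A') Ideal.Quotient.mk_surjective
  letI : Algebra A E := ((algebraMap A' E).comp (algebraMap A A')).toAlgebra
  haveI : IsScalarTower A A' E := IsScalarTower.of_algebraMap_eq fun _ => rfl
  haveI : Module.Finite A (integralClosure A' E) := Module.Finite.trans A' _
  have hmem : ∀ z : integralClosure A C, IsIntegral A' (algebraMap C L z.1) := fun z =>
    (z.2.tower_top (A := A')).map (IsScalarTower.toAlgHom A' C L)
  let z' : integralClosure A C → integralClosure A' E := fun z =>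
    ⟨⟨algebraMap C L z.1, mem_algebraicClosure_iff.mpr ((hmem z).tower_top (A := FractionRing A')).isAlgebraic⟩,
      (isIntegral_algHom_iff (E.val.restrictScalars A') Subtype.val_injective).mp (hmem z)⟩
  let i : integralClosure A C →ₗ[A] integralClosure A' E :=
    { toFun := z'
      map_add' := fun a b => Subtype.ext (Subtype.ext (map_add (algebraMap C L) _ _))
      map_smul' := fun c a => Subtype.ext (Subtype.ext (by
        show algebraMap C L (c • a.1) = _
        rw [Algebra.smul_def, map_mul]
        show _ = ((c • (z' a).1 : E) : L)
        rw [Algebra.smul_def]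
        show _ = ((algebraMap A E c : E) : L) * _
        congr 1
        show _ = algebraMap (FractionRing A') L (algebraMap A' _ (algebraMap A A' c))
        rw [← IsScalarTower.algebraMap_apply A' (FractionRing A') L]
        rfl)) }
  exact Module.Finite.of_injective i fun a b h =>
    Subtype.ext (IsFractionRing.injective C L (congrArg (fun w : integralClosure A' E => (w.1 : L)) h))

/-- The integral closure of a Nagata ring in a reduced algebra of finite type is finite. -/
theorem finite_integralClosure_of_reduced_ess {A : Type u} [CommRing A] (hA : CAlg.IsNagata A) (B : Type u)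
    [CommRing B] [IsReduced B] [Algebra A B] [Algebra.EssFiniteType A B] :
    Module.Finite A (integralClosure A B) := by
  haveI := hA.1
  haveI : IsNoetherianRing B := Algebra.EssFiniteType.isNoetherianRing A B
  haveI : Finite (minimalPrimes B) := (minimalPrimes.finite_of_isNoetherianRing B).to_subtype
  haveI : ∀ P : minimalPrimes B, (P.1).IsPrime := fun P => P.2.1.1
  haveI : ∀ P : minimalPrimes B, Module.Finite A (integralClosure A (B ⧸ P.1)) := fun P =>
    haveI : Algebra.EssFiniteType A (B ⧸ P.1) :=
      Algebra.EssFiniteType.of_surjective (Ideal.Quotient.mkₐ A P.1) Ideal.Quotient.mk_surjective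
    finite_integralClosure_domain_ess hA (B ⧸ P.1)
  let i : integralClosure A B →ₗ[A] ((P : minimalPrimes B) → integralClosure A (B ⧸ P.1)) :=
    LinearMap.pi fun P => ((Ideal.Quotient.mkₐ A P.1).comp (integralClosure A B).val).toLinearMap.codRestrict
      (integralClosure A (B ⧸ P.1)).toSubmodule fun z => z.2.map (Ideal.Quotient.mkₐ A P.1)
  haveI : IsNoetherian A ((P : minimalPrimes B) → integralClosure A (B ⧸ P.1)) :=
    isNoetherian_of_isNoetherianRing_of_finite A _
  exact Module.Finite.of_injective i fun a b h => Subtype.ext <| sub_eq_zero.mp <| by
    have h0 : a.1 - b.1 ∈ sInf (minimalPrimes B) := Submodule.mem_sInf.mpr fun P hP => by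
      have := congrArg Subtype.val (congrFun h ⟨P, hP⟩)
      exact (Ideal.Quotient.mk_eq_mk_iff_sub_mem _ _).mp this
    have h1 : a.1 - b.1 ∈ (⊥ : Ideal B).radical := by
      rwa [← Ideal.sInf_minimalPrimes]
    exact IsReduced.eq_zero _ h1

end Groth.Agent.HensEt88
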