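import Groth.Agent.Hensel.QuasiFiniteSplit
import Mathlib.AlgebraicGeometry.ZariskisMainTheorem
import Mathlib.AlgebraicGeometry.Morphisms.Finite

set_option autoImplicit false
set_option linter.style.haveILetI false

/-!
# The finite part of a quasi-finite separated scheme over a henselian local ring
-/

universe u

open IsLocalRing CategoryTheory CategoryTheory.Limits AlgebraicGeometry

namespace Groth.Agent.HensEt88

noncomputable section

variable {R : Type u} [CommRing R] [HenselianLocalRing R] {X : Scheme.{u}}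
  (f : X ⟶ Spec (CommRingCat.of R))

/-- A quasi-finite point over the closed point has an open neighbourhood which is the spectrum of a
finite local algebra. -/
theorem exists_openImmersion_finite_local [LocallyQuasiFinite f] [LocallyOfFiniteType f] (x : X)
    (hx : f.base x = closedPoint R) :
    ∃ (B : CommRingCat.{u}) (k : Spec B ⟶ X), IsOpenImmersion k ∧ IsFinite (k ≫ f) ∧ IsLocalRing B ∧
      x ∈ Set.range k.base := by
  obtain ⟨S, j, hj, ⟨y, hy⟩, -⟩ := Scheme.exists_affine_mem_range_and_range_subset
    (x := x) (U := (⊤ : X.Opens)) (by simp)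
  obtain ⟨φR, hφR⟩ := Spec.map_surjective (j ≫ f)
  algebraize [φR.hom]
  have : Algebra.QuasiFinite R S := by
    have h : LocallyQuasiFinite (Spec.map φR) := by rw [hφR]; infer_instance
    exact RingHom.quasiFinite_algebraMap.mp ((HasRingHomProperty.Spec_iff (P := @LocallyQuasiFinite)).mp h)
  have : Algebra.FiniteType R S := by
    have h : LocallyOfFiniteType (Spec.map φR) := by rw [hφR]; infer_instance
    exact RingHom.finiteType_algebraMap.mp ((HasRingHomProperty.Spec_iff (P := @LocallyOfFiniteType)).mp h)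
  have hq : y.asIdeal.comap (algebraMap R S) = maximalIdeal R := by
    have h1 : (Spec.map φR).base y = closedPoint R := by
      rw [hφR, Scheme.Hom.comp_apply, hy]; exact hx
    exact congr(($h1).asIdeal)
  haveI : y.asIdeal.IsPrime := y.isPrime
  haveI : y.asIdeal.LiesOver (maximalIdeal R) := ⟨hq.symm⟩
  obtain ⟨e, he, heq, hfin, hloc⟩ := Hensel.exists_idempotent_of_quasiFiniteAt R y.asIdeal
  let B := (S : Type u) ⧸ Ideal.span {1 - e}
  haveI : IsLocalization.Away e B :=
    IsLocalization.away_of_isIdempotentElem he Ideal.mk_ker Ideal.Quotient.mk_surjective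
  let π : S ⟶ CommRingCat.of B := CommRingCat.ofHom (algebraMap S B)
  haveI : IsOpenImmersion (Spec.map π) := IsOpenImmersion.of_isLocalization e
  refine ⟨CommRingCat.of B, Spec.map π ≫ j, inferInstance, ?_, hloc, ?_⟩
  · rw [Category.assoc, ← hφR, ← Spec.map_comp, IsFinite.SpecMap_iff]
    exact RingHom.finite_algebraMap.mpr hfin
  · have hyr : y ∈ Set.range (PrimeSpectrum.comap (algebraMap S B)) := by
      rw [PrimeSpectrum.localization_away_comap_range B e]
      exact heq
    obtain ⟨z, hz⟩ := hyr
    exact ⟨z, ((Scheme.Hom.comp_apply (Spec.map π) j _).trans (congrArg j hz)).trans hy⟩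

theorem exists_finitePart [LocallyQuasiFinite f] [LocallyOfFiniteType f] [QuasiCompact f] [IsSeparated f] :
    ∃ W : X.Opens, IsClosed (W : Set X) ∧ IsFinite (W.ι ≫ f) ∧
      ∀ x : X, f.base x = closedPoint R → x ∈ W := by
  let P : Type u := {x : X // f.base x = closedPoint R}
  haveI : Finite P := (Scheme.Hom.finite_preimage_singleton f (closedPoint R)).to_subtype
  choose B k hk hfin hloc hmem using fun p : P => exists_openImmersion_finite_local f p.1 p.2
  haveI := hk
  haveI : ∀ p, IsProper (k p) := fun p => by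
    haveI := hfin p
    exact MorphismProperty.of_postcomp @IsProper (k p) f (inferInstance : IsSeparated f) inferInstance
  let W : X.Opens := ⨆ p, (k p).opensRange
  have hW : (W : Set X) = ⋃ p, Set.range (k p).base := by
    simp [W]
  refine ⟨W, ?_, ?_, fun x hx => TopologicalSpace.Opens.mem_iSup.mpr ⟨⟨x, hx⟩, hmem _⟩⟩
  · rw [hW]
    exact isClosed_iUnion_of_finite fun p => (k p).isClosedMap.isClosed_range
  let l : ∀ p, Spec (B p) ⟶ W.toScheme := fun p => IsOpenImmersion.lift W.ι (k p) (by
    rw [Scheme.Opens.range_ι, hW]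
    exact Set.subset_iUnion (fun p => Set.range (k p).base) p)
  have hl : ∀ p, l p ≫ W.ι = k p := fun p => IsOpenImmersion.lift_fac _ _ _
  let d : (∐ fun p => Spec (B p)) ⟶ W.toScheme := Sigma.desc l
  haveI : Surjective d := by
    refine ⟨fun w => ?_⟩
    have hw : W.ι.base w ∈ (W : Set X) := w.2
    rw [hW, Set.mem_iUnion] at hw
    obtain ⟨p, z, hz⟩ := hw
    refine ⟨(Sigma.ι (fun p => Spec (B p)) p).base z, ?_⟩
    apply W.ι.isOpenEmbedding.injective
    rw [← Scheme.Hom.comp_apply, ← Scheme.Hom.comp_apply, ← Category.assoc, Sigma.ι_desc, hl]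
    exact hz
  have hdf : d ≫ W.ι ≫ f = Sigma.desc fun p => k p ≫ f := by
    ext1 p
    rw [Sigma.ι_desc, ← Category.assoc, Sigma.ι_desc, ← Category.assoc, hl]
  haveI : ∀ p, IsFinite (k p ≫ f) := hfin
  choose φ hφ using fun p => Spec.map_surjective (k p ≫ f)
  let Φ : CommRingCat.of R ⟶ CommRingCat.of (∀ p, B p) := CommRingCat.ofHom (Pi.ringHom fun p => (φ p).hom)
  have hΦ : IsFinite (Spec.map Φ) := by
    rw [IsFinite.SpecMap_iff]
    letI : ∀ p, Algebra R (B p) := fun p => (φ p).hom.toAlgebra
    haveI : ∀ p, Module.Finite R (B p) := fun p => by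
      have h : IsFinite (Spec.map (φ p)) := by rw [hφ]; exact hfin p
      exact (IsFinite.SpecMap_iff (φ p)).mp h
    exact RingHom.finite_algebraMap.mpr (inferInstance : Module.Finite R (∀ p, B p))
  haveI := hΦ
  haveI : UniversallyClosed (d ≫ W.ι ≫ f) := by
    have h : d ≫ W.ι ≫ f = sigmaSpec B ≫ Spec.map Φ := by
      rw [hdf]
      ext1 p
      rw [Sigma.ι_desc, ι_sigmaSpec_assoc, ← Spec.map_comp, ← hφ]
      rfl
    rw [h]
    infer_instance
  haveI : UniversallyClosed (W.ι ≫ f) := UniversallyClosed.of_comp_surjective d _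
  haveI : IsProper (W.ι ≫ f) := { }
  exact (IsFinite.iff_isProper_and_locallyQuasiFinite _).mpr ⟨inferInstance, inferInstance⟩

end

end Groth.Agent.HensEt88
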