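import Mathlib
import Groth.Agent.SepClosedNormal.Basic
import Groth.Agent.HenselField7.Basic

/-!
# Fixed rings of local endomorphisms of henselian rings are henselian
-/

set_option autoImplicit false
set_option linter.style.haveILetI false

namespace Groth.Agent.HensEt88

universe u

open IsLocalRing Polynomial

/-- The fixed subring of a family of local endomorphisms of a henselian local ring is henselian. -/
theorem henselianLocalRing_of_fixed {O N : Type u} [CommRing O] [IsLocalRing O] [CommRing N] [HenselianLocalRing N]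
    (i : O →+* N) [IsLocalHom i] (hi : Function.Injective i) (S : Set (N →+* N))
    (hSloc : ∀ σ ∈ S, ∀ n ∈ maximalIdeal N, σ n ∈ maximalIdeal N) (hSfix : ∀ σ ∈ S, ∀ o, σ (i o) = i o)
    (hfix : ∀ n : N, (∀ σ ∈ S, σ n = n) → n ∈ i.range) : HenselianLocalRing O := by
  constructor
  intro f hf a₀ h₁ h₂
  obtain ⟨r, hr, hr₀⟩ := HenselianLocalRing.is_henselian (f.map i) (hf.map i) (i a₀)
    (by rw [eval_map_apply]; exact map_nonunit i _ h₁)
    (by rw [derivative_map, eval_map_apply]; exact h₂.map i)
  have hur : IsUnit ((f.map i).derivative.eval r) := by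
    have h3 : (f.map i).derivative.eval r - (f.map i).derivative.eval (i a₀) ∈ maximalIdeal N :=
      Ideal.mem_of_dvd _ (sub_dvd_eval_sub _ _ _) hr₀
    rw [derivative_map, eval_map_apply i a₀] at h3
    by_contra hu
    rw [derivative_map] at hu
    have h4 := sub_mem (show ((f.derivative).map i).eval r ∈ maximalIdeal N from hu) h3
    rw [sub_sub_cancel] at h4
    exact h4 (h₂.map i)
  obtain ⟨a, ha⟩ := hfix r fun σ hσ => by
    refine (HenselField7.root_unique (f.map i) hr ?_ ?_ hur).symm
    · have h4 : (f.map i).map σ = f.map i := by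
        rw [Polynomial.map_map]
        exact congrArg (fun g => f.map g) (RingHom.ext (hSfix σ hσ))
      rw [IsRoot, ← h4, eval_map_apply, hr.eq_zero, map_zero]
    · have h5 : σ r - i a₀ ∈ maximalIdeal N := by
        rw [← hSfix σ hσ a₀, ← map_sub]; exact hSloc σ hσ _ hr₀
      simpa using sub_mem h5 hr₀
  refine ⟨a, hi ?_, ?_⟩
  · rw [map_zero, ← eval_map_apply, ha]; exact hr
  · intro hu
    exact hr₀ (by rw [← ha, ← map_sub]; exact hu.map i)

/-- The decomposition (or a smaller) field is henselian at the distinguished prime. -/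
theorem henselianLocalRing_localization_fixedField (R K Ks : Type u) [CommRing R] [IsDomain R]
    [IsDiscreteValuationRing R] [Field K] [Algebra R K] [IsFractionRing R K]
    [Field Ks] [Algebra K Ks] [IsSepClosure K Ks] [Algebra R Ks] [IsScalarTower R K Ks]
    (Ps : Ideal (integralClosure R Ks)) [Ps.IsMaximal]
    (G : Set (Ks ≃ₐ[K] Ks))
    (hG : ∀ σ ∈ G, ∀ x : integralClosure R Ks, x ∈ Ps →
        ∃ h : σ (x : Ks) ∈ integralClosure R Ks, (⟨σ (x : Ks), h⟩ : integralClosure R Ks) ∈ Ps)
    (L : IntermediateField K Ks) (hL : L = IntermediateField.fixedField (Subgroup.closure G))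
    (Q : Ideal (integralClosure R L)) [Q.IsPrime]
    (hQ : ∀ y : integralClosure R L, y ∈ Q ↔
      ∃ x : integralClosure R Ks, x ∈ Ps ∧ (x : Ks) = ((y : L) : Ks)) :
    HenselianLocalRing (Localization.AtPrime Q) := by
  classical
  haveI : IsSepClosed Ks := IsSepClosure.sep_closed K
  haveI : Algebra.IsSeparable K Ks := IsSepClosure.separable
  haveI : Algebra.IsAlgebraic K Ks := inferInstance
  let B := integralClosure R Ks
  let C := integralClosure R L
  haveI : Algebra.IsAlgebraic R Ks := (IsFractionRing.comap_isAlgebraic_iff (A := R) (K := K) (C := Ks)).mpr inferInstance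
  haveI : IsFractionRing B Ks := integralClosure.isFractionRing_of_algebraic
    (fun x hx => IsFractionRing.injective R K ((algebraMap K Ks).injective (by
      rw [← IsScalarTower.algebraMap_apply, hx, map_zero, map_zero])))
  haveI : IsIntegrallyClosed B := IsIntegrallyClosed.of_isIntegrallyClosedIn B Ks
  let N := Localization.AtPrime Ps
  letI : Algebra N Ks := (IsLocalization.lift (M := Ps.primeCompl) (g := algebraMap B Ks) fun y => isUnit_iff_ne_zero.mpr
    ((map_ne_zero_iff _ Subtype.val_injective).mpr fun h => y.2 (h ▸ Ps.zero_mem))).toAlgebra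
  haveI : IsScalarTower B N Ks := .of_algebraMap_eq fun x => (IsLocalization.lift_eq _ x).symm
  haveI : IsFractionRing N Ks := IsFractionRing.isFractionRing_of_isDomain_of_isLocalization Ps.primeCompl N Ks
  haveI : IsDomain N := IsLocalization.isDomain_localization Ps.primeCompl_le_nonZeroDivisors
  haveI : IsIntegrallyClosed N := isIntegrallyClosed_of_isLocalization _ Ps.primeCompl Ps.primeCompl_le_nonZeroDivisors
  haveI := SepClosedNormal.henselianLocalRing N Ks
  let ι : C →ₐ[R] B := (L.val.restrictScalars R).mapIntegralClosure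
  have hι : ∀ y : C, (ι y : Ks) = ((y : L) : Ks) := fun y => rfl
  have hQc : Q = Ps.comap ι.toRingHom := by
    ext y
    rw [hQ y, Ideal.mem_comap]
    exact ⟨fun ⟨x, hx, e⟩ => (Subtype.ext (e.trans (hι y).symm) : x = ι y) ▸ hx, fun h => ⟨ι y, h, hι y⟩⟩
  let iN : Localization.AtPrime Q →+* N := Localization.localRingHom Q Ps ι.toRingHom hQc
  haveI : IsLocalHom iN := Localization.isLocalHom_localRingHom _ _ _ hQc
  have hNinj : Function.Injective (algebraMap N Ks) := IsFractionRing.injective N Ks
  have hiinj : Function.Injective iN := by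
    refine (injective_iff_map_eq_zero _).mpr fun z hz => ?_
    obtain ⟨⟨y, s⟩, e⟩ := IsLocalization.surj Q.primeCompl z
    have h1 := congrArg iN e
    rw [map_mul, hz, zero_mul] at h1
    have h2 : ι y = 0 := IsLocalization.injective N Ps.primeCompl_le_nonZeroDivisors
      (((h1.trans (Localization.localRingHom_to_map _ _ _ hQc y)).symm).trans (map_zero _).symm)
    have h3 : y = 0 := Subtype.ext (Subtype.ext (by rw [← hι, h2]; rfl))
    rw [h3, map_zero] at e
    exact (IsLocalization.map_units _ s).mul_left_eq_zero.mp e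
  -- generators as endomorphisms of `B`
  have hend : ∀ σ ∈ G, ∃ φ : B →+* B, (∀ x, (φ x : Ks) = σ (x : Ks)) ∧ Ps = Ps.comap φ := fun σ hσ => by
    refine ⟨((σ.restrictScalars R : Ks ≃ₐ[R] Ks) : Ks →ₐ[R] Ks).mapIntegralClosure.toRingHom, fun x => rfl, ?_⟩
    refine Ideal.IsMaximal.eq_of_le ‹_› (Ideal.comap_ne_top _ (Ideal.IsPrime.ne_top inferInstance)) fun x hx => ?_
    obtain ⟨h, h'⟩ := hG σ hσ x hx
    exact h'
  choose φ hφ hφP using hend
  let S : Set (N →+* N) := Set.range fun σ : G => Localization.localRingHom Ps Ps (φ σ σ.2) (hφP σ σ.2)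
  have hcomm : ∀ (σ : Ks ≃ₐ[K] Ks) (h : σ ∈ G) (n : N),
      algebraMap N Ks (Localization.localRingHom Ps Ps (φ σ h) (hφP σ h) n) = σ (algebraMap N Ks n) := fun σ h => by
    refine RingHom.congr_fun (f := (algebraMap N Ks).comp _) (g := (σ : Ks →+* Ks).comp (algebraMap N Ks)) ?_
    refine IsLocalization.ringHom_ext Ps.primeCompl (RingHom.ext fun x => ?_)
    show algebraMap N Ks (Localization.localRingHom Ps Ps (φ σ h) (hφP σ h) (algebraMap B N x)) = σ (algebraMap N Ks (algebraMap B N x))
    rw [Localization.localRingHom_to_map, ← IsScalarTower.algebraMap_apply, ← IsScalarTower.algebraMap_apply]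
    exact hφ σ h x
  have hrange : ∀ n : N, algebraMap N Ks n ∈ L → n ∈ iN.range := by
    intro n hn
    let x : L := ⟨_, hn⟩
    let E : IntermediateField K L := IntermediateField.adjoin K {x}
    haveI : FiniteDimensional K E := IntermediateField.adjoin.finiteDimensional (Algebra.IsIntegral.isIntegral x)
    haveI : Algebra.IsSeparable K L := Algebra.isSeparable_tower_bot_of_isSeparable K L Ks
    haveI : Algebra.IsSeparable K E := Algebra.isSeparable_tower_bot_of_isSeparable K E L
    let D := integralClosure R E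
    haveI : IsDedekindDomain D := integralClosure.isDedekindDomain R K E
    haveI : IsFractionRing D E := integralClosure.isFractionRing_of_finite_extension K E
    let j : D →ₐ[R] C := (E.val.restrictScalars R).mapIntegralClosure
    let q : Ideal D := Q.comap j.toRingHom
    haveI : q.IsPrime := Ideal.comap_isPrime _ Q
    haveI : ValuationRing (Localization.AtPrime q) := inferInstance
    let m : D →+* N := (algebraMap B N).comp (ι.toRingHom.comp j.toRingHom)
    have hmK : ∀ d : D, algebraMap N Ks (m d) = (((d : E) : L) : Ks) := fun d => by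
      show algebraMap N Ks (algebraMap B N (ι (j d))) = _
      rw [← IsScalarTower.algebraMap_apply]
      rfl
    have hmi : ∀ d : D, iN (algebraMap C _ (j d)) = m d := fun d => Localization.localRingHom_to_map _ _ _ hQc _
    obtain ⟨a, b, hb, hab⟩ := IsFractionRing.div_surjective (A := D) (⟨x, IntermediateField.mem_adjoin_simple_self K x⟩ : E)
    have hb0 : b ≠ 0 := nonZeroDivisors.ne_zero hb
    have hmul : n * m b = m a := hNinj (by
      rw [map_mul, hmK, hmK]
      have h := congrArg (fun z : E => ((z : L) : Ks)) hab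
      simp only at h
      have hb1 : (((b : E) : L) : Ks) ≠ 0 := by
        simp only [ne_eq, ZeroMemClass.coe_eq_zero]; exact fun h => hb0 h
      have h' : (((a : E) : L) : Ks) / (((b : E) : L) : Ks) = algebraMap N Ks n := by
        simpa using h
      rw [← h', div_mul_cancel₀ _ hb1])
    have hminj : Function.Injective m := fun d d' h => Subtype.ext (Subtype.ext (Subtype.ext (by
      rw [← hmK, ← hmK, h])))
    have hmunit : ∀ s : D, s ∉ q → IsUnit (m s) := fun s hs => by
      rw [← hmi]; exact (IsLocalization.map_units (Localization.AtPrime Q) (⟨j s, hs⟩ : Q.primeCompl)).map iN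
    have hdvd : ∃ (d s : D), s ∉ q ∧ (d * b = a * s ∨ d * a = b * s) := by
      rcases ValuationRing.dvd_total (algebraMap D (Localization.AtPrime q) b) (algebraMap D _ a) with ⟨c, hc⟩ | ⟨c, hc⟩ <;>
      obtain ⟨⟨d, s⟩, e⟩ := IsLocalization.surj q.primeCompl c <;>
      refine ⟨d, s, s.2, ?_⟩
      · left
        apply IsLocalization.injective (Localization.AtPrime q) q.primeCompl_le_nonZeroDivisors
        rw [map_mul, map_mul, hc, ← e]; ring
      · right
        apply IsLocalization.injective (Localization.AtPrime q) q.primeCompl_le_nonZeroDivisors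
        rw [map_mul, map_mul, hc, ← e]; ring
    obtain ⟨d, s, hs, h | h⟩ := hdvd
    · refine ⟨IsLocalization.mk' _ (j d) (⟨j s, hs⟩ : Q.primeCompl), ?_⟩
      have e := congrArg iN (IsLocalization.mk'_spec (Localization.AtPrime Q) (j d) (⟨j s, hs⟩ : Q.primeCompl))
      rw [map_mul, hmi, hmi] at e
      refine mul_right_cancel₀ (b := m s * m b) (mul_ne_zero (hmunit s hs).ne_zero ?_) ?_
      · rw [Ne, map_eq_zero_iff _ hminj]; exact hb0
      rw [← mul_assoc, e, ← map_mul, h, map_mul, ← hmul]; ring
    · -- then `n` is a unit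
      by_cases ha : a = 0
      · rw [ha, map_zero, mul_eq_zero, map_eq_zero_iff _ hminj, or_iff_left hb0] at hmul
        rw [hmul]; exact zero_mem _
      have h1 : m d * n = m s := by
        refine mul_right_cancel₀ (b := m b) (by rw [Ne, map_eq_zero_iff _ hminj]; exact hb0) ?_
        rw [mul_assoc, hmul, ← map_mul, h, map_mul]; ring
      have h2 : IsUnit (m d) := isUnit_of_mul_isUnit_left (h1 ▸ hmunit s hs)
      have hd : j d ∉ Q := fun hd => (mem_maximalIdeal _).mp ((IsLocalization.AtPrime.to_map_mem_maximal_iff N Ps (ι (j d))).mpr (by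
        rw [hQc] at hd; exact hd)) h2
      refine ⟨IsLocalization.mk' _ (j s) (⟨j d, hd⟩ : Q.primeCompl), ?_⟩
      have e := congrArg iN (IsLocalization.mk'_spec (Localization.AtPrime Q) (j s) (⟨j d, hd⟩ : Q.primeCompl))
      rw [map_mul, hmi, hmi] at e
      refine mul_right_cancel₀ h2.ne_zero ?_
      rw [e, ← h1, mul_comm]
  refine henselianLocalRing_of_fixed iN hiinj S ?_ ?_ fun n hn => hrange n ?_
  · rintro _ ⟨σ, rfl⟩ n hn
    exact map_nonunit _ n hn
  · rintro _ ⟨⟨σ, hσ⟩, rfl⟩ o
    refine hNinj ?_
    rw [hcomm]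
    have ho : algebraMap N Ks (iN o) ∈ L := by
      obtain ⟨⟨y, s⟩, e⟩ := IsLocalization.surj Q.primeCompl o
      have h1 := congrArg (fun z => algebraMap N Ks (iN z)) e
      have e1 : ∀ z : C, iN (algebraMap C _ z) = algebraMap B N (ι z) := fun z => Localization.localRingHom_to_map _ _ _ hQc _
      simp only [map_mul] at h1
      rw [e1, e1, ← IsScalarTower.algebraMap_apply, ← IsScalarTower.algebraMap_apply] at h1
      have hs0 : (algebraMap B Ks (ι (s : C))) ≠ 0 := fun h => s.2 (by
        have : (s : C) = 0 := Subtype.ext (Subtype.ext h)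
        rw [this]; exact Q.zero_mem)
      rw [← eq_div_iff hs0] at h1
      rw [h1]
      exact div_mem ((y : L)).2 ((s.1 : L)).2
    exact (IntermediateField.mem_fixedField_iff _ _).mp (hL.le ho) σ (Subgroup.subset_closure hσ)
  · refine hL.ge ((IntermediateField.mem_fixedField_iff _ _).mpr ?_)
    intro τ hτ
    show τ • algebraMap N Ks n = algebraMap N Ks n
    refine (Subgroup.closure_le (MulAction.stabilizer (Ks ≃ₐ[K] Ks) (algebraMap N Ks n))).mpr ?_ hτ
    intro σ hσ
    show σ (algebraMap N Ks n) = _
    rw [← hcomm σ hσ, hn _ ⟨⟨σ, hσ⟩, rfl⟩]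

end Groth.Agent.HensEt88
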