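import Groth.Agent.S16430
import Groth.Agent.S7127
import Groth.Agent.WEtLib.Stalks
import Groth.Agent.LocalCrit.Flatness
import Groth.Agent.FlatMisc.PowLocal

/-!
# Flatness of a weakly étale algebra over an unramified intermediate ring
-/

set_option autoImplicit false
set_option linter.style.haveILetI false

namespace Groth.Agent.HensEt88

universe u

open IsLocalRing

theorem isLocalHom_quotient_mk {R : Type u} [CommRing R] [IsLocalRing R] (I : Ideal R) (hI : I ≠ ⊤) :
    IsLocalHom (Ideal.Quotient.mk I) := by
  refine ⟨fun x hx => ?_⟩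
  by_contra hxu
  obtain ⟨y, hy⟩ := hx.exists_right_inv
  obtain ⟨y, rfl⟩ := Ideal.Quotient.mk_surjective y
  rw [← map_mul, ← map_one (Ideal.Quotient.mk I), Ideal.Quotient.mk_eq_mk_iff_sub_mem] at hy
  have h1 : (1 : R) ∈ maximalIdeal R := by
    have hxm : x * y ∈ maximalIdeal R := Ideal.mul_mem_right y _ hxu
    have := sub_mem hxm (le_maximalIdeal hI hy)
    simpa using this
  exact h1 isUnit_one

theorem weaklyEtale_quotient_map {A E : Type u} [CommRing A] [CommRing E] [Algebra A E]
    [Algebra.WeaklyEtale A E] (J : Ideal A) :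
    Algebra.WeaklyEtale (A ⧸ J) (E ⧸ J.map (algebraMap A E)) :=
  WEtLib.weaklyEtale_congr (Algebra.TensorProduct.quotIdealMapEquivQuotTensor E J).symm

/-- A map out of a quotient of a weakly étale algebra is flat if the composite is weakly étale. -/
theorem flat_of_weaklyEtale_surjective {R P Q F : Type u} [CommRing R] [CommRing P] [CommRing Q] [CommRing F]
    [Algebra R P] [Algebra R Q] [Algebra R F] [Algebra.WeaklyEtale R P] [Algebra.WeaklyEtale R F]
    [IsLocalRing P] [IsLocalRing F] (g : P →ₐ[R] Q) (hg : Function.Surjective g) (h : Q →ₐ[R] F)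
    [IsLocalHom (h.comp g).toRingHom] : h.toRingHom.Flat := by
  letI : Algebra P F := (h.comp g).toRingHom.toAlgebra
  haveI : IsScalarTower R P F := .of_algebraMap_eq fun r => ((h.comp g).commutes r).symm
  haveI : Algebra.WeaklyEtale P F := S7127.result R P F
  haveI : IsLocalHom (algebraMap P F) := ‹IsLocalHom (h.comp g).toRingHom›
  haveI : Module.FaithfullyFlat P F := Module.FaithfullyFlat.of_flat_of_isLocalHom
  have hinj : Function.Injective (algebraMap P F) := FaithfulSMul.algebraMap_injective P F
  have hgi : Function.Bijective g := ⟨fun a b hab => hinj (congrArg h hab), hg⟩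
  have hflat : (h.comp g).toRingHom.Flat := (inferInstance : Module.Flat P F)
  let e := AlgEquiv.ofBijective g hgi
  have : h.toRingHom = (h.comp g).toRingHom.comp e.symm.toRingEquiv.toRingHom :=
    RingHom.ext fun q => congrArg h (e.apply_symm_apply q).symm
  rw [this]
  exact RingHom.Flat.comp (RingHom.Flat.of_bijective e.symm.bijective) hflat

variable {A D E : Type u} [CommRing A] [IsLocalRing A] [IsNoetherianRing A] [CommRing D] [IsLocalRing D]
  [CommRing E] [IsLocalRing E] [Algebra A D] [Algebra D E] [Algebra A E] [IsScalarTower A D E]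
  [IsLocalHom (algebraMap A D)] [IsLocalHom (algebraMap D E)]

theorem flat_quotientMap_pow [Algebra.WeaklyEtale A E]
    (hm : (maximalIdeal A).map (algebraMap A D) = maximalIdeal D)
    [FiniteDimensional (ResidueField A) (ResidueField D)] [Algebra.IsSeparable (ResidueField A) (ResidueField D)]
    (n : ℕ) :
    (Ideal.quotientMap ((maximalIdeal D ^ (n + 1)).map (algebraMap D E)) (algebraMap D E)
      Ideal.le_comap_map).Flat := by
  obtain ⟨B, _, _, _, _, -, hBet, ⟨eB⟩⟩ := S16430.result A (ResidueField D)
  haveI := hBet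
  let J := maximalIdeal A ^ (n + 1)
  let I := maximalIdeal D ^ (n + 1)
  have hJI : J.map (algebraMap A D) = I := by rw [Ideal.map_pow, hm]
  have hIle : I ≤ maximalIdeal D := Ideal.pow_le_self n.succ_ne_zero
  have hIE : I.map (algebraMap D E) ≠ ⊤ := fun h =>
    (maximalIdeal.isMaximal E).ne_top (top_unique (h ▸ Ideal.map_le_iff_le_comap.mpr
      (fun x hx => map_nonunit (algebraMap D E) x (hIle hx))))
  have hJE : J.map (algebraMap A E) = I.map (algebraMap D E) := by
    rw [← hJI, Ideal.map_map, ← IsScalarTower.algebraMap_eq]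
  -- the residue map on the quotient
  let π : (D ⧸ I) →ₐ[A] ResidueField D :=
    { Ideal.Quotient.factor hIle with commutes' := fun a => rfl }
  have hπ : Function.Surjective π := Ideal.Quotient.factor_surjective hIle
  have hker : IsNilpotent (RingHom.ker (π : (D ⧸ I) →+* ResidueField D)) := by
    refine ⟨n + 1, ?_⟩
    have : RingHom.ker (π : (D ⧸ I) →+* ResidueField D) = (maximalIdeal D).map (Ideal.Quotient.mk I) :=
      Ideal.Quotient.factor_ker hIle
    rw [this, ← Ideal.map_pow, Ideal.map_quotient_self, Ideal.zero_eq_bot]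
  let τ : B →ₐ[A] ResidueField D :=
    { eB.toRingEquiv.toRingHom.comp (residue B) with
      commutes' := fun a => eB.commutes (residue A a) }
  let φ : B →ₐ[A] (D ⧸ I) := Algebra.FormallySmooth.liftOfSurjective τ π hπ hker
  have hφ : ∀ b, π (φ b) = τ b := fun b =>
    AlgHom.congr_fun (Algebra.FormallySmooth.comp_liftOfSurjective τ π hπ hker) b
  have hτs : Function.Surjective τ := eB.surjective.comp residue_surjective
  -- nilpotent Nakayama
  have hφs : Function.Surjective φ := by
    let N : Submodule A (D ⧸ I) := LinearMap.range φ.toLinearMap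
    have h1 : (⊤ : Submodule A (D ⧸ I)) ≤ N ⊔ maximalIdeal A • ⊤ := by
      intro q _
      obtain ⟨b, hb⟩ := hτs (π q)
      have hqb : q - φ b ∈ RingHom.ker (π : (D ⧸ I) →+* ResidueField D) := by
        show π (q - φ b) = 0
        rw [map_sub, hφ, hb, sub_self]
      refine Submodule.mem_sup.mpr ⟨φ b, ⟨b, rfl⟩, q - φ b, ?_, add_sub_cancel _ _⟩
      have h2 : q - φ b ∈ (maximalIdeal A).map (algebraMap A (D ⧸ I)) := by
        have h3 : q - φ b ∈ (maximalIdeal D).map (Ideal.Quotient.mk I) := by
          have h4 : RingHom.ker (π : (D ⧸ I) →+* ResidueField D) = (maximalIdeal D).map (Ideal.Quotient.mk I) :=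
            Ideal.Quotient.factor_ker hIle
          exact h4 ▸ hqb
        rwa [← hm, Ideal.map_map] at h3
      rw [Ideal.smul_top_eq_map]
      exact h2
    have h2 : ∀ k : ℕ, (⊤ : Submodule A (D ⧸ I)) ≤ N ⊔ maximalIdeal A ^ k • ⊤ := by
      intro k
      induction k with
      | zero => rw [pow_zero, Ideal.one_eq_top, Submodule.top_smul]; exact le_sup_right
      | succ k ih =>
        refine ih.trans (sup_le le_sup_left ((Submodule.smul_mono le_rfl h1).trans ?_))
        rw [Submodule.smul_sup, ← Submodule.mul_smul, ← pow_succ]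
        exact sup_le_sup_right Submodule.smul_le_right _
    have h3 : maximalIdeal A ^ (n + 1) • (⊤ : Submodule A (D ⧸ I)) = ⊥ := by
      rw [Ideal.smul_top_eq_map, show algebraMap A (D ⧸ I) = (Ideal.Quotient.mk I).comp (algebraMap A D) from rfl,
        ← Ideal.map_map, hJI, Ideal.map_quotient_self]
      rfl
    intro q
    have := h2 (n + 1) (Submodule.mem_top (x := q))
    rwa [h3, sup_bot_eq] at this
  -- structures over `A ⧸ J`
  haveI := weaklyEtale_quotient_map (A := A) (E := B) J
  haveI := weaklyEtale_quotient_map (A := A) (E := E) J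
  letI algD : Algebra (A ⧸ J) (D ⧸ I) :=
    (Ideal.quotientMap I (algebraMap A D) (Ideal.map_le_iff_le_comap.mp hJI.le)).toAlgebra
  let g : (B ⧸ J.map (algebraMap A B)) →ₐ[A ⧸ J] (D ⧸ I) :=
    { Ideal.Quotient.lift (J.map (algebraMap A B)) φ.toRingHom (fun b hb => by
        have h4 : (J.map (algebraMap A B)).map φ.toRingHom = ⊥ := by
          rw [Ideal.map_map, show φ.toRingHom.comp (algebraMap A B) = algebraMap A (D ⧸ I) from φ.comp_algebraMap,
            show algebraMap A (D ⧸ I) = (Ideal.Quotient.mk I).comp (algebraMap A D) from rfl,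
            ← Ideal.map_map, hJI, Ideal.map_quotient_self]
        exact Ideal.mem_bot.mp (h4 ▸ Ideal.mem_map_of_mem φ.toRingHom hb)) with
      commutes' := fun x => by
        obtain ⟨a, rfl⟩ := Ideal.Quotient.mk_surjective x
        exact φ.commutes a }
  have hgs : Function.Surjective g := fun q => by
    obtain ⟨b, rfl⟩ := hφs q
    exact ⟨Ideal.Quotient.mk _ b, rfl⟩
  let eE : (E ⧸ J.map (algebraMap A E)) ≃+* (E ⧸ I.map (algebraMap D E)) := Ideal.quotEquivOfEq hJE
  let h : (D ⧸ I) →ₐ[A ⧸ J] (E ⧸ J.map (algebraMap A E)) :=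
    { eE.symm.toRingHom.comp (Ideal.quotientMap (I.map (algebraMap D E)) (algebraMap D E) Ideal.le_comap_map) with
      commutes' := fun x => by
        obtain ⟨a, rfl⟩ := Ideal.Quotient.mk_surjective x
        show eE.symm (Ideal.Quotient.mk _ (algebraMap D E (algebraMap A D a))) = _
        rw [← IsScalarTower.algebraMap_apply]
        rfl }
  have hJB : J.map (algebraMap A B) ≠ ⊤ := fun h =>
    (maximalIdeal.isMaximal B).ne_top (top_unique (h ▸ Ideal.map_le_iff_le_comap.mpr
      (fun x hx => map_nonunit (algebraMap A B) x (Ideal.pow_le_self n.succ_ne_zero hx))))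
  haveI : Nontrivial (B ⧸ J.map (algebraMap A B)) := Ideal.Quotient.nontrivial_iff.mpr hJB
  haveI : IsLocalRing (B ⧸ J.map (algebraMap A B)) :=
    IsLocalRing.of_surjective' _ Ideal.Quotient.mk_surjective
  haveI : Nontrivial (E ⧸ J.map (algebraMap A E)) := Ideal.Quotient.nontrivial_iff.mpr (hJE ▸ hIE)
  haveI : IsLocalRing (E ⧸ J.map (algebraMap A E)) :=
    IsLocalRing.of_surjective' _ Ideal.Quotient.mk_surjective
  haveI : IsLocalHom (h.comp g).toRingHom := by
    refine ⟨fun x hx => ?_⟩
    obtain ⟨b, rfl⟩ := Ideal.Quotient.mk_surjective x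
    refine IsUnit.map (Ideal.Quotient.mk _) ?_
    obtain ⟨d, hd⟩ := Ideal.Quotient.mk_surjective (φ b)
    have hx' : IsUnit (Ideal.Quotient.mk (I.map (algebraMap D E)) (algebraMap D E d)) := by
      have h5 := hx.map eE.toRingHom
      have h6 : eE.toRingHom ((h.comp g).toRingHom (Ideal.Quotient.mk _ b)) =
          Ideal.Quotient.mk (I.map (algebraMap D E)) (algebraMap D E d) := by
        show eE (eE.symm (Ideal.quotientMap (I.map (algebraMap D E)) (algebraMap D E) Ideal.le_comap_map (φ b))) = _
        rw [RingEquiv.apply_symm_apply, ← hd]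
        rfl
      rwa [h6] at h5
    haveI := isLocalHom_quotient_mk _ hIE
    have hdu : IsUnit d := IsUnit.of_map (algebraMap D E) d (IsUnit.of_map _ _ hx')
    have hτu : IsUnit (τ b) := by
      rw [← hφ, ← hd]
      exact (hdu.map (Ideal.Quotient.mk I)).map π
    exact IsUnit.of_map (residue B) b (IsUnit.of_map eB _ hτu)
  have hflat := flat_of_weaklyEtale_surjective g hgs h
  have heq : (Ideal.quotientMap (I.map (algebraMap D E)) (algebraMap D E) Ideal.le_comap_map) =
      eE.toRingHom.comp h.toRingHom := RingHom.ext fun q => (eE.apply_symm_apply _).symm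
  rw [heq]
  exact RingHom.Flat.comp hflat (RingHom.Flat.of_bijective eE.bijective)

theorem flat_of_weaklyEtale_of_map_maximalIdeal [IsNoetherianRing D] [IsNoetherianRing E] [Algebra.WeaklyEtale A E]
    (hm : (maximalIdeal A).map (algebraMap A D) = maximalIdeal D)
    [FiniteDimensional (ResidueField A) (ResidueField D)] [Algebra.IsSeparable (ResidueField A) (ResidueField D)] :
    Module.Flat D E := by
  refine LocalCrit.flat_of_forall_quotient_pow (B := E) (maximalIdeal D) ?_ fun n => ?_
  · rw [IsLocalRing.jacobson_eq_maximalIdeal _ bot_ne_top]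
    exact Ideal.map_le_iff_le_comap.mpr fun x hx => map_nonunit (algebraMap D E) x hx
  · refine FlatMisc.keepsInjective_of_quotientMap _ ?_
    rcases n with _ | n
    · haveI : Subsingleton (E ⧸ (maximalIdeal D ^ 0).map (algebraMap D E)) :=
        Ideal.Quotient.subsingleton_iff.mpr (by rw [pow_zero, Ideal.one_eq_top, Ideal.map_top])
      letI := (Ideal.quotientMap ((maximalIdeal D ^ 0).map (algebraMap D E)) (algebraMap D E)
        Ideal.le_comap_map).toAlgebra
      exact (inferInstance : Module.Flat (D ⧸ maximalIdeal D ^ 0) (E ⧸ (maximalIdeal D ^ 0).map (algebraMap D E)))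
    · exact flat_quotientMap_pow hm n

end Groth.Agent.HensEt88
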