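import Groth.Agent.HensEt88.EssEtStrict
import Groth.Agent.S16448
import Groth.Agent.Hensel.EtaleReduced
import Mathlib.RingTheory.Artinian.Module

set_option autoImplicit false
set_option linter.style.haveILetI false

/-!
# Relations in essentially étale algebras over reduced rings
-/

universe u

open IsLocalRing
open scoped nonZeroDivisors

namespace Groth.Agent.HensEt88

noncomputable section

variable {A E : Type u} [CommRing A] [IsLocalRing A] [IsReduced A] [CommRing E] [IsLocalRing E] [Algebra A E]

omit [IsLocalRing E] in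
theorem isReduced_of_essEtale (hE : EGA4loc.IsEssentiallyEtale A E) : IsReduced E := by
  obtain ⟨C, _, _, q, _, _, _, hC, -, hl⟩ := EtAlg7.exists_presentation hE
  haveI := Hensel.isReduced_of_etale A C
  exact isReduced_localizationPreserves q.primeCompl E inferInstance

/-- A finite subset of a set `X` of elements of `E` spans `X` up to non-zero-divisors of `A`. -/
theorem exists_finset_span_nzd (hmin : (minimalPrimes A).Finite) (hE : EGA4loc.IsEssentiallyEtale A E)
    (X : Set E) : ∃ t : Finset E, (t : Set E) ⊆ X ∧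
      ∀ x ∈ X, ∃ a ∈ A⁰, a • x ∈ Submodule.span A (t : Set E) := by
  classical
  haveI := EssEtLib.isLocalHom_algebraMap hE
  haveI := EssEtFrac5.isArtinianRing_fractionRing hmin
  obtain ⟨hloc, t, ht⟩ := S16448.result A E hmin hE
  haveI := hloc
  let K := FractionRing A
  let KE := FractionRing E
  have hu : ∀ a : A⁰, IsUnit (algebraMap A KE a) := fun a => by
    rw [IsScalarTower.algebraMap_apply A E KE]
    exact IsLocalization.map_units KE (⟨_, a, a.2, rfl⟩ : (A⁰).map (algebraMap A E))
  let g : K →ₐ[A] KE := IsLocalization.liftAlgHom (M := A⁰) (f := Algebra.ofId A KE) hu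
  letI : Algebra K KE := g.toRingHom.toAlgebra
  haveI : IsScalarTower A K KE := .of_algebraMap_eq fun a => (g.commutes a).symm
  haveI : Module.Finite K KE := ⟨⟨t, eq_top_iff.2 fun x _ => by
    obtain ⟨a, ha, hx⟩ := ht x
    have h1 : algebraMap A KE a * x ∈ Submodule.span K (t : Set KE) := Submodule.span_le_restrictScalars A K _ hx
    have h2 := Submodule.smul_mem _ (IsLocalization.mk' K (1 : A) ⟨a, ha⟩) h1
    rwa [Algebra.smul_def, ← mul_assoc, IsScalarTower.algebraMap_apply A K KE, ← map_mul,
      IsLocalization.mk'_spec, map_one, map_one, one_mul] at h2⟩⟩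
  let ι : E →ₐ[A] KE := IsScalarTower.toAlgHom A E KE
  have hι : Function.Injective ι := IsFractionRing.injective E KE
  obtain ⟨s, hs, hsX⟩ := (Submodule.fg_span_iff_fg_span_finset_subset (R := K) (ι '' X)).mp
    (IsNoetherian.noetherian _)
  choose f hfX hf using fun y : s => hs y.2
  refine ⟨Finset.univ.image f, fun z hz => ?_, fun x hx => ?_⟩
  · obtain ⟨y, -, rfl⟩ := Finset.mem_image.mp hz
    exact hfX y
  · have hx' : ι x ∈ Submodule.span K (s : Set KE) := hsX ▸ Submodule.subset_span ⟨x, hx, rfl⟩
    suffices ∀ z ∈ Submodule.span K (s : Set KE),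
        ∃ a ∈ A⁰, a • z ∈ Submodule.map ι.toLinearMap (Submodule.span A (Finset.univ.image f : Set E)) by
      obtain ⟨a, ha, w, hw, hwa⟩ := this _ hx'
      refine ⟨a, ha, ?_⟩
      have : w = a • x := hι (hwa.trans (map_smul ι a x).symm)
      exact this ▸ hw
    intro z hz
    induction hz using Submodule.span_induction with
    | mem z hz =>
      exact ⟨1, one_mem _, f ⟨z, hz⟩,
        Submodule.subset_span (Finset.mem_image_of_mem _ (Finset.mem_univ _)),
        (hf ⟨z, hz⟩).trans (one_smul A z).symm⟩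
    | zero => exact ⟨1, one_mem _, 0, zero_mem _, by simp⟩
    | add y z _ _ hy hz =>
      obtain ⟨a, ha, hy⟩ := hy
      obtain ⟨b, hb, hz⟩ := hz
      refine ⟨a * b, mul_mem ha hb, ?_⟩
      rw [smul_add]
      refine add_mem ?_ ?_
      · rw [mul_comm, mul_smul]; exact Submodule.smul_mem _ b hy
      · rw [mul_smul]; exact Submodule.smul_mem _ a hz
    | smul k z _ hz =>
      obtain ⟨a, ha, hz⟩ := hz
      obtain ⟨⟨r, c⟩, hrc⟩ := IsLocalization.surj A⁰ k
      refine ⟨c * a, mul_mem c.2 ha, ?_⟩
      have : ((c : A) * a) • (k • z) = r • (a • z) := by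
        rw [← algebraMap_smul K ((c : A) * a) (k • z), ← algebraMap_smul K r (a • z), ← algebraMap_smul K a z,
          smul_smul, smul_smul, ← hrc, map_mul]
        congr 1
        ring
      rw [this]
      exact Submodule.smul_mem _ _ hz

/-- Every element of a subalgebra is von Neumann regular up to a non-zero-divisor of `A`. -/
theorem exists_regular_relation (hmin : (minimalPrimes A).Finite) (hE : EGA4loc.IsEssentiallyEtale A E)
    (s : E) : ∃ a ∈ A⁰, ∃ q ∈ Algebra.adjoin A {s}, a • s = s * s * q := by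
  haveI := EssEtLib.isLocalHom_algebraMap hE
  haveI := EssEtFrac5.isArtinianRing_fractionRing hmin
  haveI := isReduced_of_essEtale hE
  obtain ⟨hloc, t, ht⟩ := S16448.result A E hmin hE
  haveI := hloc
  let K := FractionRing A
  let KE := FractionRing E
  haveI : IsReduced KE := isReduced_localizationPreserves (nonZeroDivisors E) KE inferInstance
  have hu : ∀ a : A⁰, IsUnit (algebraMap A KE a) := fun a => by
    rw [IsScalarTower.algebraMap_apply A E KE]
    exact IsLocalization.map_units KE (⟨_, a, a.2, rfl⟩ : (A⁰).map (algebraMap A E))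
  let g : K →ₐ[A] KE := IsLocalization.liftAlgHom (M := A⁰) (f := Algebra.ofId A KE) hu
  letI : Algebra K KE := g.toRingHom.toAlgebra
  haveI : IsScalarTower A K KE := .of_algebraMap_eq fun a => (g.commutes a).symm
  haveI : Module.Finite K KE := ⟨⟨t, eq_top_iff.2 fun x _ => by
    obtain ⟨a, ha, hx⟩ := ht x
    have h1 : algebraMap A KE a * x ∈ Submodule.span K (t : Set KE) := Submodule.span_le_restrictScalars A K _ hx
    have h2 := Submodule.smul_mem _ (IsLocalization.mk' K (1 : A) ⟨a, ha⟩) h1
    rwa [Algebra.smul_def, ← mul_assoc, IsScalarTower.algebraMap_apply A K KE, ← map_mul,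
      IsLocalization.mk'_spec, map_one, map_one, one_mul] at h2⟩⟩
  let x : KE := algebraMap E KE s
  let B : Subalgebra K KE := Algebra.adjoin K {x}
  haveI : IsNoetherian K KE := inferInstance
  haveI : Module.Finite K B := Module.Finite.of_injective B.val.toLinearMap Subtype.val_injective
  haveI : IsArtinianRing B := IsArtinianRing.of_finite K B
  let xB : B := ⟨x, Algebra.subset_adjoin rfl⟩
  obtain ⟨n, ⟨y, hy⟩, hn⟩ := IsArtinian.exists_pow_succ_smul_dvd xB (1 : B)
  have hn' : x ^ (n + 1) * y = x ^ n := by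
    simpa [xB] using congrArg Subtype.val hn
  have hxy : x - x * x * y = 0 := by
    refine IsReduced.eq_zero _ ⟨n + 1, ?_⟩
    have : (x - x * x * y) ^ (n + 1) = (x ^ n - x ^ (n + 1) * y) * x * (1 - x * y) ^ n := by
      rw [show x - x * x * y = x * (1 - x * y) by ring, mul_pow, pow_succ (1 - x * y)]
      ring
    rw [this, hn', sub_self, zero_mul, zero_mul]
  suffices ∀ z ∈ B, ∃ a ∈ A⁰, ∃ q ∈ Algebra.adjoin A {s}, a • z = algebraMap E KE q by
    obtain ⟨a, ha, q, hq, hz⟩ := this y hy
    refine ⟨a, ha, q, hq, IsFractionRing.injective E KE ?_⟩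
    rw [map_mul, map_mul, ← hz, mul_smul_comm, ← sub_eq_zero.mp hxy, ← IsScalarTower.algebraMap_smul E a s,
      smul_eq_mul, map_mul, ← IsScalarTower.algebraMap_apply, Algebra.smul_def]
  intro z hz
  induction hz using Algebra.adjoin_induction with
  | mem z hz =>
    rw [Set.mem_singleton_iff] at hz
    exact ⟨1, one_mem _, s, Algebra.subset_adjoin rfl, by rw [one_smul, hz]⟩
  | algebraMap k =>
    obtain ⟨⟨r, c⟩, hrc⟩ := IsLocalization.surj A⁰ k
    refine ⟨c, c.2, algebraMap A E r, Subalgebra.algebraMap_mem _ r, ?_⟩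
    rw [Algebra.smul_def, IsScalarTower.algebraMap_apply A K KE, ← map_mul, mul_comm, hrc,
      ← IsScalarTower.algebraMap_apply, ← IsScalarTower.algebraMap_apply]
  | add y z _ _ hy hz =>
    obtain ⟨a, ha, q, hq, hy⟩ := hy
    obtain ⟨b, hb, r, hr, hz⟩ := hz
    refine ⟨a * b, mul_mem ha hb, b • q + a • r, add_mem (Subalgebra.smul_mem _ hq b) (Subalgebra.smul_mem _ hr a), ?_⟩
    have h : ∀ (c : A) (e : E), algebraMap E KE (c • e) = c • algebraMap E KE e :=
      fun c e => map_smul (IsScalarTower.toAlgHom A E KE) c e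
    rw [map_add, h, h, ← hy, ← hz, smul_add, smul_smul, smul_smul, mul_comm b a]
  | mul y z _ _ hy hz =>
    obtain ⟨a, ha, q, hq, hy⟩ := hy
    obtain ⟨b, hb, r, hr, hz⟩ := hz
    refine ⟨a * b, mul_mem ha hb, q * r, mul_mem hq hr, ?_⟩
    rw [map_mul, ← hy, ← hz, smul_mul_smul_comm]

end

end Groth.Agent.HensEt88
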