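import Groth.Agent.FormCat.HenselDomain
import Groth.Agent.FlatLoc6.GeomRed
import Groth.Agent.GeomField.Algebra
import Mathlib.FieldTheory.IntermediateField.Adjoin.Basic
import Mathlib.RingTheory.Localization.LocalizationLocalization
import Mathlib.RingTheory.Localization.BaseChange

set_option linter.style.haveILetI false
set_option linter.unusedSectionVars false

/-!
# The fraction field of the completion of a henselian local domain
-/

universe u

open TensorProduct

namespace Groth.Agent.HensEt88

variable (A : Type u) [CommRing A] [IsNoetherianRing A]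

/-- Formal fibres stay domains over every field. -/
theorem isDomain_field_tensor_cpl [HenselianLocalRing A] (h : EGA4.HasGeomNormalFormalFibres A)
    (L : Type u) [Field L] [Algebra A L] : IsDomain (L ⊗[A] EGA4.Cpl A) := by
  haveI : (RingHom.ker (algebraMap A L)).IsPrime := RingHom.ker_isPrime _
  let p := RingHom.ker (algebraMap A L)
  obtain ⟨_, _⟩ := FlatLoc6.exists_residueAlgebra (L := L) p rfl
  haveI := FormCat.isDomain_tensor_of_finite p.ResidueField (EGA4.formalFibre A p)
    (fun L' _ _ hL => haveI := hL; FormCat.isDomain_formalFibre_finite A h p L') L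
  exact (Algebra.TensorProduct.cancelBaseChange A p.ResidueField L L (EGA4.Cpl A)).symm.toRingEquiv.toMulEquiv.isDomain

/-- A subfield staying a domain after tensoring with the bigger field is trivial. -/
theorem finrank_eq_one_of_isDomain_tensor (K K' L : Type u) [Field K] [Field K'] [Field L] [Algebra K K'] [Algebra K L]
    [FiniteDimensional K K'] (g : K' →ₐ[K] L) [IsDomain (K' ⊗[K] L)] : Module.finrank K K' = 1 := by
  let j : K' ⊗[K] K' →ₐ[K] K' ⊗[K] L := Algebra.TensorProduct.map (AlgHom.id K K') g
  haveI : IsDomain (K' ⊗[K] K') :=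
    Function.Injective.isDomain (f := j)
      (Module.Flat.lTensor_preserves_injective_linearMap (M := K') g.toLinearMap g.toRingHom.injective)
  haveI : IsArtinianRing (K' ⊗[K] K') := IsArtinianRing.of_finite K _
  letI : Field (K' ⊗[K] K') := (IsArtinianRing.isField_of_isDomain _).toField
  have hmul : Function.Injective (Algebra.TensorProduct.lmul' K (S := K')) :=
    RingHom.injective (Algebra.TensorProduct.lmul' K (S := K')).toRingHom
  have hle := LinearMap.finrank_le_finrank_of_injective
    (f := (Algebra.TensorProduct.lmul' K (S := K')).toLinearMap) hmul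
  rw [Module.finrank_tensorProduct] at hle
  have : 0 < Module.finrank K K' := Module.finrank_pos
  nlinarith

/-- The tensor product of a finite field with the fraction field is a domain. -/
theorem isDomain_tensor_fractions (K F L K' : Type u) [Field K] [CommRing F] [Field L] [Field K'] [Algebra K F] [Algebra K L]
    [Algebra K K'] [Algebra F L] [IsScalarTower K F L] (N : Submonoid F) [IsLocalization N L]
    (hN : N ≤ nonZeroDivisors F) [IsDomain (K' ⊗[K] F)] : IsDomain (K' ⊗[K] L) := by
  let π : F →ₐ[K] L := IsScalarTower.toAlgHom K F L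
  let m : K' ⊗[K] F →ₐ[K] K' ⊗[K] L := Algebra.TensorProduct.map (AlgHom.id K K') π
  have hlift : ∀ z : K' ⊗[K] L, ∃ (s : F) (w : K' ⊗[K] F), IsUnit (π s) ∧ ((1 : K') ⊗ₜ π s) * z = m w := by
    intro z
    induction z with
    | zero => exact ⟨1, 0, by simp, by simp⟩
    | tmul k y =>
      obtain ⟨f, s, hy⟩ := IsLocalization.exists_mk'_eq N y
      refine ⟨s, k ⊗ₜ f, IsLocalization.map_units L s, ?_⟩
      rw [← hy]
      simp only [m, Algebra.TensorProduct.tmul_mul_tmul, one_mul, Algebra.TensorProduct.map_tmul, AlgHom.id_apply]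
      congr 1
      exact IsLocalization.mk'_spec' L f s
    | add y z hy hz =>
      obtain ⟨s, v, hs, hv⟩ := hy
      obtain ⟨t, w, ht, hw⟩ := hz
      refine ⟨s * t, ((1 : K') ⊗ₜ t) * v + ((1 : K') ⊗ₜ s) * w, by rw [map_mul]; exact hs.mul ht, ?_⟩
      simp only [map_mul, map_add, ← hv, ← hw, m, Algebra.TensorProduct.map_tmul, AlgHom.id_apply]
      rw [show (1 : K') ⊗ₜ[K] (π s * π t) = ((1 : K') ⊗ₜ π s) * ((1 : K') ⊗ₜ π t) by simp]
      ring
  have hπ : Function.Injective π := IsLocalization.injective L hN
  have hm : Function.Injective m := Module.Flat.lTensor_preserves_injective_linearMap (M := K') π.toLinearMap hπ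
  haveI : Nontrivial (K' ⊗[K] L) :=
    (Algebra.TensorProduct.includeRight_injective (A := K') (algebraMap K K').injective).nontrivial
  haveI : NoZeroDivisors (K' ⊗[K] L) := ⟨fun {y z} hyz => by
    obtain ⟨s, v, hs, hv⟩ := hlift y
    obtain ⟨t, w, ht, hw⟩ := hlift z
    have h0 : v * w = 0 := hm (by
      rw [map_mul, map_zero, ← hv, ← hw]
      linear_combination ((1 : K') ⊗ₜ[K] π s * (1 : K') ⊗ₜ[K] π t) * hyz)
    have hu : ∀ {r : L}, IsUnit r → IsUnit ((1 : K') ⊗ₜ[K] r) := fun hr =>
      hr.map (Algebra.TensorProduct.includeRight : L →ₐ[K] K' ⊗[K] L)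
    refine (mul_eq_zero.mp h0).imp (fun h1 => ?_) (fun h1 => ?_)
    · refine (hu hs).mul_right_eq_zero.mp ?_
      rw [hv, h1, map_zero]
    · refine (hu ht).mul_right_eq_zero.mp ?_
      rw [hw, h1, map_zero]⟩
  exact NoZeroDivisors.to_isDomain _

theorem geomReduced_and_algClosed_fractionField [HenselianLocalRing A] [IsDomain A]
    (h : EGA4.HasGeomNormalFormalFibres A) [IsDomain (EGA4.Cpl A)]
    (K L : Type u) [Field K] [Field L] [Algebra A K] [IsFractionRing A K]
    [Algebra (EGA4.Cpl A) L] [IsFractionRing (EGA4.Cpl A) L] [Algebra K L] [Algebra A L]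
    [IsScalarTower A K L] [IsScalarTower A (EGA4.Cpl A) L] :
    Algebra.IsGeometricallyReduced K L ∧ ∀ x : L, IsAlgebraic K x → x ∈ Set.range (algebraMap K L) := by
  haveI := FlatLoc6.faithfullyFlat_cpl A
  let F := K ⊗[A] EGA4.Cpl A
  let π : F →ₐ[K] L := Algebra.TensorProduct.lift (Algebra.ofId K L) (IsScalarTower.toAlgHom A (EGA4.Cpl A) L)
    (fun _ _ => Commute.all _ _)
  letI : Algebra F L := π.toRingHom.toAlgebra
  haveI : IsScalarTower K F L := IsScalarTower.of_algebraMap_eq fun x => (π.commutes x).symm
  letI : Algebra (EGA4.Cpl A) F := Algebra.TensorProduct.rightAlgebra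
  haveI : IsScalarTower (EGA4.Cpl A) F L := IsScalarTower.of_algebraMap_eq fun c => by
    show _ = π (1 ⊗ₜ c)
    refine Eq.symm ((Algebra.TensorProduct.lift_tmul _ _ _ _ _).trans ?_)
    rw [map_one, one_mul]
    exact (IsScalarTower.toAlgHom_apply A (EGA4.Cpl A) L c)
  haveI : IsLocalization (Algebra.algebraMapSubmonoid (EGA4.Cpl A) (nonZeroDivisors A)) F := inferInstance
  have hle : Algebra.algebraMapSubmonoid (EGA4.Cpl A) (nonZeroDivisors A) ≤ nonZeroDivisors (EGA4.Cpl A) := by
    rintro _ ⟨a, ha, rfl⟩
    refine mem_nonZeroDivisors_of_ne_zero fun h0 => ?_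
    exact nonZeroDivisors.ne_zero ha (FaithfulSMul.algebraMap_injective A (EGA4.Cpl A) (h0.trans (map_zero _).symm))
  haveI hFL : IsLocalization ((nonZeroDivisors (EGA4.Cpl A)).map (algebraMap (EGA4.Cpl A) F)) L :=
    IsLocalization.isLocalization_of_submonoid_le F L _ _ hle
  refine ⟨?_, fun x hx => ?_⟩
  · haveI : Algebra.IsGeometricallyReduced K F := by
      rw [Algebra.isGeometricallyReduced_field_iff]
      haveI := isDomain_field_tensor_cpl A h (AlgebraicClosure K)
      exact isReduced_of_injective (Algebra.TensorProduct.cancelBaseChange A K K (AlgebraicClosure K) (EGA4.Cpl A))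
        (Algebra.TensorProduct.cancelBaseChange A K K (AlgebraicClosure K) (EGA4.Cpl A)).injective
    exact GeomField.gr_localization (k := K) F L ((nonZeroDivisors (EGA4.Cpl A)).map (algebraMap (EGA4.Cpl A) F))
  · let K' := IntermediateField.adjoin K {x}
    haveI : FiniteDimensional K K' := IntermediateField.adjoin.finiteDimensional hx.isIntegral
    have hd : ∀ (K'' : Type u) [Field K''] [Algebra K K''], IsDomain (K'' ⊗[K] F) := fun K'' _ _ => by
      letI : Algebra A K'' := ((algebraMap K K'').comp (algebraMap A K)).toAlgebra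
      haveI : IsScalarTower A K K'' := IsScalarTower.of_algebraMap_eq' rfl
      haveI := isDomain_field_tensor_cpl A h K''
      exact (Algebra.TensorProduct.cancelBaseChange A K K K'' (EGA4.Cpl A)).toRingEquiv.toMulEquiv.isDomain
    haveI := hd K'
    haveI : IsDomain F := by
      haveI := hd K
      exact (Algebra.TensorProduct.lid K F).symm.toRingEquiv.toMulEquiv.isDomain
    haveI := isDomain_tensor_fractions K F L K' ((nonZeroDivisors (EGA4.Cpl A)).map (algebraMap (EGA4.Cpl A) F)) (by
      rintro _ ⟨c, hc, rfl⟩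
      exact mem_nonZeroDivisors_of_ne_zero ((map_ne_zero_iff _ (IsLocalization.injective F hle)).mpr
        (nonZeroDivisors.ne_zero hc)))
    have h1 := finrank_eq_one_of_isDomain_tensor K K' L K'.val
    have hbot : K' = ⊥ := IntermediateField.finrank_eq_one_iff.mp h1
    exact IntermediateField.mem_bot.mp (hbot ▸ IntermediateField.subset_adjoin K {x} rfl)

end Groth.Agent.HensEt88
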