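import Groth.Agent.HensEt88.GaloisField
import Groth.Agent.CplFib6.Excellent
import Groth.Agent.Hensel.IntegralStrict
import Groth.Prelude.Def_EssEt
import Mathlib.RingTheory.Ideal.MinimalPrime.Noetherian

set_option linter.style.haveILetI false
set_option linter.unusedSectionVars false

/-!
# Subfields meeting a strict henselization: consequences
-/

universe u

open IsLocalRing

namespace Groth.Agent.HensEt88

noncomputable section

/-- A finite étale local algebra is essentially étale. -/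
theorem isEssentiallyEtale_of_finite_etale (A E : Type u) [CommRing A] [IsLocalRing A] [CommRing E]
    [IsLocalRing E] [Algebra A E] [Module.Finite A E] [Algebra.Etale A E] : EGA4loc.IsEssentiallyEtale A E := by
  haveI : IsLocalHom (algebraMap A E) := Hensel.isLocalHom_of_isIntegral_local A E
  refine ⟨E, inferInstance, inferInstance, maximalIdeal E, inferInstance, inferInstance,
    IsLocalRing.maximalIdeal_comap _, ⟨?_⟩⟩
  exact (IsLocalization.atUnits E (maximalIdeal E).primeCompl (S := Localization.AtPrime (maximalIdeal E))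
    fun x hx => notMem_maximalIdeal.mp hx).restrictScalars A

variable (A S : Type u) [CommRing A] [HenselianLocalRing A] [IsNoetherianRing A]
  [CommRing S] [IsLocalRing S] [Algebra A S] [IsLocalHom (algebraMap A S)] [Hensel.IsStrictHenselization A S]

/-- The domain case: a subfield generated by finitely many elements meets `S` in an essentially étale algebra. -/
theorem exists_essEtale_eq_preimage [IsDomain S] (t : Finset (FractionRing S)) :
    ∃ D : Subalgebra A S, (D : Set S) = (algebraMap S (FractionRing S)) ⁻¹'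
        (Subfield.closure (Set.range (algebraMap A (FractionRing S)) ∪ (t : Set (FractionRing S))) :
          Set (FractionRing S)) ∧
      ∃ _ : IsLocalRing D, IsLocalHom (algebraMap D S) ∧ EGA4loc.IsEssentiallyEtale A D := by
  obtain ⟨E, D, -, ⟨hfin, het, hloc, hhom⟩, -, -, hmem, -⟩ := exists_etale_eq_field_inter A S (FractionRing S) t
    (fun z _ => by
      obtain ⟨a, b, hb, rfl⟩ := IsFractionRing.div_surjective S z
      have hb0 : algebraMap S (FractionRing S) b ≠ 0 :=
        (map_ne_zero_iff _ (IsFractionRing.injective S (FractionRing S))).mpr (nonZeroDivisors.ne_zero hb)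
      exact ⟨a, b, hb0, div_mul_cancel₀ _ hb0⟩) ∅
  refine ⟨D, ?_, hloc, hhom, ?_⟩
  · ext x
    refine ⟨fun hx => (hmem x).mpr ⟨x, hx, rfl⟩, fun hx => ?_⟩
    obtain ⟨d, hd, hdx⟩ := (hmem x).mp hx
    exact IsFractionRing.injective S (FractionRing S) hdx ▸ hd
  · haveI := hfin
    haveI := het
    exact isEssentiallyEtale_of_finite_etale A D

variable (Q : Ideal S) [Q.IsPrime]

theorem frac_quotient (t : Finset (FractionRing (S ⧸ Q))) : ∀ z ∈ t, ∃ a b : S,
    algebraMap S (FractionRing (S ⧸ Q)) b ≠ 0 ∧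
      z * algebraMap S (FractionRing (S ⧸ Q)) b = algebraMap S (FractionRing (S ⧸ Q)) a := by
  intro z _
  obtain ⟨a, b, hb, rfl⟩ := IsFractionRing.div_surjective (S ⧸ Q) z
  obtain ⟨a, rfl⟩ := Ideal.Quotient.mk_surjective a
  obtain ⟨b, rfl⟩ := Ideal.Quotient.mk_surjective b
  have hb0 : algebraMap (S ⧸ Q) (FractionRing (S ⧸ Q)) (Ideal.Quotient.mk Q b) ≠ 0 :=
    (map_ne_zero_iff _ (IsFractionRing.injective _ _)).mpr (nonZeroDivisors.ne_zero hb)
  exact ⟨a, b, hb0, div_mul_cancel₀ _ hb0⟩

omit [HenselianLocalRing A] [IsNoetherianRing A] [IsLocalRing S] [IsLocalHom (algebraMap A S)] in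
theorem mk_eq_of_algebraMap_eq {d x : S}
    (h : algebraMap S (FractionRing (S ⧸ Q)) d = algebraMap S (FractionRing (S ⧸ Q)) x) :
    Ideal.Quotient.mk Q d = Ideal.Quotient.mk Q x :=
  IsFractionRing.injective (S ⧸ Q) (FractionRing (S ⧸ Q)) h

/-- The quotient case, with the étale algebras upstairs. -/
theorem exists_image_eq_preimage (t : Finset (FractionRing (S ⧸ Q))) :
    ∃ D' : Subalgebra A (S ⧸ Q), (D' : Set (S ⧸ Q)) = (algebraMap (S ⧸ Q) (FractionRing (S ⧸ Q))) ⁻¹'
        (Subfield.closure (Set.range (algebraMap A (FractionRing (S ⧸ Q))) ∪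
          (t : Set (FractionRing (S ⧸ Q)))) : Set (FractionRing (S ⧸ Q))) ∧
      Module.Finite A D' ∧ Algebra.FormallyUnramified A D' ∧
      ∀ l ∈ Subfield.closure (Set.range (algebraMap A (FractionRing (S ⧸ Q))) ∪
          (t : Set (FractionRing (S ⧸ Q)))),
        ∃ a ∈ D', ∃ b ∈ D', algebraMap (S ⧸ Q) (FractionRing (S ⧸ Q)) b ≠ 0 ∧
          l * algebraMap (S ⧸ Q) (FractionRing (S ⧸ Q)) b = algebraMap (S ⧸ Q) (FractionRing (S ⧸ Q)) a := by
  obtain ⟨E, D, -, ⟨hfin, het, -, -⟩, -, -, hmem, hfrac⟩ :=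
    exists_etale_eq_field_inter A S (FractionRing (S ⧸ Q)) t (frac_quotient S Q t) ∅
  haveI := hfin
  haveI := het
  let f : D →ₐ[A] D.map (Ideal.Quotient.mkₐ A Q) :=
    ((Ideal.Quotient.mkₐ A Q).comp D.val).codRestrict _ fun d => ⟨d, d.2, rfl⟩
  have hf : Function.Surjective f := by
    rintro ⟨_, d, hd, rfl⟩
    exact ⟨⟨d, hd⟩, rfl⟩
  refine ⟨D.map (Ideal.Quotient.mkₐ A Q), ?_, Module.Finite.of_surjective f.toLinearMap hf,
    Algebra.FormallyUnramified.of_surjective f hf, fun l hl => ?_⟩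
  · ext y
    obtain ⟨x, rfl⟩ := Ideal.Quotient.mk_surjective y
    refine ⟨?_, fun hx => ?_⟩
    · rintro ⟨d, hd, hdx⟩
      exact (hmem x).mpr ⟨d, hd, congrArg (algebraMap (S ⧸ Q) (FractionRing (S ⧸ Q))) hdx⟩
    · obtain ⟨d, hd, hdx⟩ := (hmem x).mp hx
      exact ⟨d, hd, mk_eq_of_algebraMap_eq S Q hdx⟩
  · obtain ⟨a, ha, b, hb, hb0, hab⟩ := hfrac l hl
    exact ⟨_, ⟨a, ha, rfl⟩, _, ⟨b, hb, rfl⟩, hb0, hab⟩

/-- A finite subalgebra of the domain `S ⧸ Q` over an excellent henselian ring is excellent and henselian. -/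
theorem excellent_henselian_of_finite (hA : EGA4.IsExcellent A) (D' : Subalgebra A (S ⧸ Q)) [Module.Finite A D'] :
    EGA4.IsExcellent D' ∧ ∃ _ : HenselianLocalRing D', True := by
  haveI : Algebra.IsIntegral A D' := inferInstance
  haveI : IsLocalRing D' := Hensel.isLocalRing_of_isIntegral_domain (A := A) (B := D')
  exact ⟨CplFib6.isExcellent_of_finiteType hA D', S0505.result A D', trivial⟩

/-- An étale subalgebra generating the minimal primes over a contracted prime. -/
theorem exists_essEtale_generating (t : Finset (FractionRing (S ⧸ Q))) :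
    ∃ E : Subalgebra A S, ∃ _ : IsLocalRing E, EGA4loc.IsEssentiallyEtale A E ∧
      (∀ Q' ∈ ((Q.comap (algebraMap A S)).map (algebraMap A S)).minimalPrimes,
        Q' = Ideal.map (algebraMap E S) (Q'.comap (algebraMap E S))) ∧
      ∀ x : S, algebraMap (S ⧸ Q) (FractionRing (S ⧸ Q)) (Ideal.Quotient.mk Q x) ∈
          Subfield.closure (Set.range (algebraMap A (FractionRing (S ⧸ Q))) ∪
            (t : Set (FractionRing (S ⧸ Q)))) →
        ∃ e ∈ E, Ideal.Quotient.mk Q e = Ideal.Quotient.mk Q x := by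
  classical
  haveI : IsNoetherianRing S := (S0540.result A S).mp inferInstance
  let I := (Q.comap (algebraMap A S)).map (algebraMap A S)
  have hfin : (I.minimalPrimes).Finite := Ideal.finite_minimalPrimes_of_isNoetherianRing S I
  have hg : ∀ Q' : Ideal S, ∃ g : Finset S, Ideal.span (g : Set S) = Q' := fun Q' => IsNoetherian.noetherian Q'
  choose g hg using hg
  obtain ⟨E, D, ⟨hEfin, hEet, hEloc, -⟩, -, hDE, hsE, hmem, -⟩ :=
    exists_etale_eq_field_inter A S (FractionRing (S ⧸ Q)) t (frac_quotient S Q t) (hfin.toFinset.biUnion g)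
  haveI := hEfin
  haveI := hEet
  haveI := hEloc
  refine ⟨E, hEloc, isEssentiallyEtale_of_finite_etale A E, fun Q' hQ' => ?_, fun x hx => ?_⟩
  · refine le_antisymm ?_ Ideal.map_comap_le
    conv_lhs => rw [← hg Q']
    rw [Ideal.span_le]
    intro y hy
    have hyE : y ∈ E := hsE (Finset.mem_biUnion.mpr ⟨Q', hfin.mem_toFinset.mpr hQ', hy⟩)
    exact Ideal.mem_map_of_mem (algebraMap E S) (x := ⟨y, hyE⟩) (show y ∈ Q' from hg Q' ▸ Ideal.subset_span hy)
  · obtain ⟨d, hd, hdx⟩ := (hmem x).mp hx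
    exact ⟨d, hDE hd, mk_eq_of_algebraMap_eq S Q hdx⟩

end

end Groth.Agent.HensEt88
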