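import Groth.Agent.Hensel.EtaleLift
import Groth.Agent.Hensel.EtaleResidueExt
import Groth.Agent.Hensel.QuasiFiniteSplit
import Groth.Agent.Hensel.IntegralStrict
import Groth.Agent.Hensel.HenselizationProps
import Groth.Agent.IndEtLib.Sys
import Groth.Agent.S0501
import Groth.Agent.S0505
import Groth.Agent.S0736
import Groth.Agent.S12237
import Groth.Agent.WEtLib.Basic
import Mathlib.LinearAlgebra.LinearIndependent.Lemmas
import Mathlib.RingTheory.Invariant.Basic
import Mathlib.FieldTheory.Galois.Basic
import Mathlib.FieldTheory.Normal.Closure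

set_option linter.style.haveILetI false
set_option linter.unusedSectionVars false

/-!
# Galois finite étale local algebras over a henselian local ring

For a henselian Noetherian local ring `A` every finite subset of a strict henselization lies in a finite
étale local subalgebra `E` whose residue field is Galois, and `A` is the ring of invariants of
`Aut_A(E)`.  For a subgroup `H` the invariant ring `E^H` is again finite étale local and taking
invariants commutes with the passage to quotients by stable ideals.
-/

universe u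

open IsLocalRing

namespace Groth.Agent.HensEt88

noncomputable section

variable (A : Type u) [CommRing A] [HenselianLocalRing A] [IsNoetherianRing A]
variable (E : Type u) [CommRing E] [IsLocalRing E] [Algebra A E] [Module.Finite A E] [Algebra.Etale A E]

omit [IsNoetherianRing A] in
/-- A finite local algebra is local over the base. -/
theorem isLocalHom_finite : IsLocalHom (algebraMap A E) := Hensel.isLocalHom_of_isIntegral_local A E

omit [IsNoetherianRing A] in
/-- Lifting maps out of a finite étale algebra from the residue field. -/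
theorem existsUnique_lift_residue {T : Type u} [CommRing T] [HenselianLocalRing T] [Algebra A T]
    (σ : E →ₐ[A] ResidueField T) :
    ∃! τ : E →ₐ[A] T, ∀ e, residue T (τ e) = σ e := by
  obtain ⟨τ, hτ, huniq⟩ := Hensel.existsUnique_etale_lift_of_algebra (maximalIdeal T) σ
  exact ⟨τ, fun e => congr($hτ e), fun g hg => huniq g (AlgHom.ext hg)⟩

include A in
omit [IsNoetherianRing A] [Algebra.Etale A E] in
theorem henselianLocalRing_finite : HenselianLocalRing E := S0505.result A E

omit [IsNoetherianRing A] in
/-- An endomorphism is determined by its effect on the residue field. -/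
theorem algHom_ext_residue {T : Type u} [CommRing T] [HenselianLocalRing T] [Algebra A T]
    (f g : E →ₐ[A] T) (h : ∀ e, residue T (f e) = residue T (g e)) : f = g := by
  obtain ⟨τ, -, huniq⟩ := existsUnique_lift_residue A E ((IsScalarTower.toAlgHom A T (ResidueField T)).comp g)
  rw [huniq f h, huniq g fun e => rfl]

section Galois

/-- The action of an automorphism on the residue field. -/
def resAut (σ : E ≃ₐ[A] E) : ResidueField E ≃+* ResidueField E :=
  ResidueField.mapEquiv σ.toRingEquiv

omit [HenselianLocalRing A] [IsNoetherianRing A] [Module.Finite A E] [Algebra.Etale A E] in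
theorem resAut_residue (σ : E ≃ₐ[A] E) (e : E) : resAut A E σ (residue E e) = residue E (σ e) := rfl

omit [IsNoetherianRing A] in
theorem resAut_injective : Function.Injective (resAut A E) := by
  intro σ τ h
  haveI := henselianLocalRing_finite A E
  exact AlgEquiv.coe_toAlgHom_injective (algHom_ext_residue A E (σ : E →ₐ[A] E) (τ : E →ₐ[A] E) fun e => by
    show residue E (σ e) = residue E (τ e)
    rw [← resAut_residue, ← resAut_residue, h])

omit [IsNoetherianRing A] in
theorem exists_resAut [IsLocalHom (algebraMap A E)]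
    (g : ResidueField E ≃ₐ[ResidueField A] ResidueField E) :
    ∃ σ : E ≃ₐ[A] E, ∀ e, residue E (σ e) = g (residue E e) := by
  haveI := henselianLocalRing_finite A E
  obtain ⟨f, hf, -⟩ := existsUnique_lift_residue A E (T := E)
    ((g.toAlgHom.restrictScalars A).comp (IsScalarTower.toAlgHom A E (ResidueField E)))
  obtain ⟨f', hf', -⟩ := existsUnique_lift_residue A E (T := E)
    ((g.symm.toAlgHom.restrictScalars A).comp (IsScalarTower.toAlgHom A E (ResidueField E)))
  have h1 : f'.comp f = AlgHom.id A E := algHom_ext_residue A E _ _ fun e => by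
    show residue E (f' (f e)) = residue E e
    rw [hf']
    show g.symm (residue E (f e)) = _
    rw [hf]
    exact g.symm_apply_apply _
  have h2 : f.comp f' = AlgHom.id A E := algHom_ext_residue A E _ _ fun e => by
    show residue E (f (f' e)) = residue E e
    rw [hf]
    show g (residue E (f' e)) = _
    rw [hf']
    exact g.apply_symm_apply _
  exact ⟨AlgEquiv.ofAlgHom f f' h2 h1, hf⟩

omit [IsNoetherianRing A] in
theorem finite_aut : Finite (E ≃ₐ[A] E) := by
  haveI := isLocalHom_finite A E
  let r : (E ≃ₐ[A] E) → (ResidueField E ≃ₐ[ResidueField A] ResidueField E) := fun σ =>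
    AlgEquiv.ofRingEquiv (f := resAut A E σ) fun c => by
      obtain ⟨a, rfl⟩ := residue_surjective c
      show resAut A E σ (residue E (algebraMap A E a)) = residue E (algebraMap A E a)
      rw [resAut_residue, σ.commutes]
  exact Finite.of_injective r fun σ τ h => resAut_injective A E
    (RingEquiv.ext fun x => congr($h x))

omit [IsNoetherianRing A] in
/-- A trace element for a subgroup of automorphisms. -/
theorem exists_trace (H : Subgroup (E ≃ₐ[A] E)) [Fintype H] :
    ∃ c : E, ∑ h : H, (h : E ≃ₐ[A] E) c = 1 := by
  classical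
  let f : H → (ResidueField E →* ResidueField E) := fun h => (resAut A E (h : E ≃ₐ[A] E)).toRingHom.toMonoidHom
  have hf : Function.Injective f := fun h h' hh =>
    Subtype.ext (resAut_injective A E (RingEquiv.ext fun x => congr($hh x)))
  have hli := (linearIndependent_monoidHom (ResidueField E) (ResidueField E)).comp f hf
  obtain ⟨x, hx⟩ : ∃ x : ResidueField E, ∑ h : H, f h x ≠ 0 := by
    by_contra! hall
    refine one_ne_zero (α := ResidueField E) ((Fintype.linearIndependent_iff.mp hli) (fun _ => 1) ?_ ⟨1, one_mem H⟩)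
    ext x
    simpa [Finset.sum_apply] using hall x
  obtain ⟨c, rfl⟩ := residue_surjective x
  let s := ∑ h : H, (h : E ≃ₐ[A] E) c
  have hs : IsUnit s := by
    rw [← notMem_maximalIdeal, ← residue_eq_zero_iff, map_sum]
    exact hx
  obtain ⟨w, hw⟩ := hs
  have hfix : ∀ g : H, (g : E ≃ₐ[A] E) s = s := fun g => by
    rw [map_sum]
    exact Fintype.sum_equiv (Equiv.mulLeft g) _ _ fun h => rfl
  refine ⟨(↑w⁻¹ : E) * c, ?_⟩
  have hwfix : ∀ g : H, (g : E ≃ₐ[A] E) (↑w⁻¹ : E) = ↑w⁻¹ := fun g => by
    refine (Units.eq_inv_of_mul_eq_one_left ?_)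
    have : (↑w⁻¹ : E) * s = 1 := by rw [← hw]; exact w.inv_mul
    have h2 := congrArg (g : E ≃ₐ[A] E) this
    rwa [map_mul, map_one, hfix g, ← hw, mul_comm] at h2
  simp only [map_mul, hwfix, ← Finset.mul_sum]
  show (↑w⁻¹ : E) * s = 1
  rw [← hw]
  exact w.inv_mul

/-- The invariants of a subgroup of automorphisms. -/
def invariants (H : Subgroup (E ≃ₐ[A] E)) : Subalgebra A E where
  carrier := {e | ∀ h ∈ H, h e = e}
  mul_mem' ha hb h hh := by rw [map_mul, ha h hh, hb h hh]
  add_mem' ha hb h hh := by rw [map_add, ha h hh, hb h hh]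
  algebraMap_mem' a h _ := h.commutes a

omit [HenselianLocalRing A] [IsNoetherianRing A] [IsLocalRing E] [Module.Finite A E] [Algebra.Etale A E] in
theorem sum_smul_mem (H : Subgroup (E ≃ₐ[A] E)) [Fintype H] (y : E) :
    ∑ h : H, (h : E ≃ₐ[A] E) y ∈ invariants A E H := by
  intro g hg
  rw [map_sum]
  exact Fintype.sum_equiv (Equiv.mulLeft (⟨g, hg⟩ : H)) _ _ fun h => rfl

/-- The projection onto the invariants attached to a trace element. -/
def proj (H : Subgroup (E ≃ₐ[A] E)) [Fintype H] (c : E) : E →ₗ[A] invariants A E H :=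
  LinearMap.codRestrict (invariants A E H).toSubmodule
    (∑ h : H, ((h : E ≃ₐ[A] E).toLinearMap.comp (LinearMap.mulLeft A c))) fun y => by
      simpa using sum_smul_mem A E H (c * y)

omit [HenselianLocalRing A] [IsNoetherianRing A] [IsLocalRing E] [Module.Finite A E] [Algebra.Etale A E] in
theorem proj_apply (H : Subgroup (E ≃ₐ[A] E)) [Fintype H] (c y : E) :
    (proj A E H c y : E) = ∑ h : H, (h : E ≃ₐ[A] E) (c * y) := by
  show (∑ h : H, ((h : E ≃ₐ[A] E).toLinearMap.comp (LinearMap.mulLeft A c))) y = _
  rw [LinearMap.sum_apply]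
  rfl

omit [HenselianLocalRing A] [IsNoetherianRing A] [IsLocalRing E] [Module.Finite A E] [Algebra.Etale A E] in
theorem proj_invariant (H : Subgroup (E ≃ₐ[A] E)) [Fintype H] {c : E} (hc : ∑ h : H, (h : E ≃ₐ[A] E) c = 1)
    (y : invariants A E H) : proj A E H c y = y := by
  refine Subtype.ext ?_
  rw [proj_apply]
  calc ∑ h : H, (h : E ≃ₐ[A] E) (c * y) = ∑ h : H, (h : E ≃ₐ[A] E) c * y :=
        Finset.sum_congr rfl fun h _ => by rw [map_mul, y.2 _ h.2]
    _ = (y : E) := by rw [← Finset.sum_mul, hc, one_mul]

omit [IsNoetherianRing A] in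
theorem exists_mem_invariants_of_invariant_quotient (H : Subgroup (E ≃ₐ[A] E)) (Q : Ideal E) (e : E)
    (he : ∀ h ∈ H, h e - e ∈ Q) : ∃ d ∈ invariants A E H, e - d ∈ Q := by
  classical
  haveI := finite_aut A E
  let _ := Fintype.ofFinite H
  obtain ⟨c, hc⟩ := exists_trace A E H
  refine ⟨_, sum_smul_mem A E H (c * e), ?_⟩
  have : e - ∑ h : H, (h : E ≃ₐ[A] E) (c * e) = -∑ h : H, (h : E ≃ₐ[A] E) c * ((h : E ≃ₐ[A] E) e - e) := by
    simp only [map_mul, mul_sub, Finset.sum_sub_distrib, ← Finset.sum_mul, hc, one_mul, neg_sub]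
  rw [this]
  exact neg_mem (Ideal.sum_mem Q fun h _ => Q.mul_mem_left _ (he _ h.2))

omit [IsNoetherianRing A] in
theorem finite_invariants (H : Subgroup (E ≃ₐ[A] E)) :
    Module.Finite A (invariants A E H) ∧ Module.Flat A (invariants A E H) := by
  classical
  haveI := finite_aut A E
  let _ := Fintype.ofFinite H
  obtain ⟨c, hc⟩ := exists_trace A E H
  refine ⟨Module.Finite.of_surjective (proj A E H c) fun y => ⟨y, proj_invariant A E H hc y⟩, ?_⟩
  exact Module.Flat.of_retract (invariants A E H).val.toLinearMap (proj A E H c)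
    (LinearMap.ext fun y => proj_invariant A E H hc y)

omit [HenselianLocalRing A] [IsNoetherianRing A] [Module.Finite A E] [Algebra.Etale A E] in
theorem isUnit_invariants {H : Subgroup (E ≃ₐ[A] E)} {y : invariants A E H} (hy : IsUnit (y : E)) : IsUnit y := by
  obtain ⟨v, hv⟩ := hy
  have hinv : (↑v⁻¹ : E) ∈ invariants A E H := fun h hh => by
    refine (Units.eq_inv_of_mul_eq_one_left ?_)
    have h2 := congrArg h v.inv_mul
    rwa [map_mul, map_one, hv, y.2 h hh, ← hv, mul_comm] at h2
  refine IsUnit.of_mul_eq_one (⟨↑v⁻¹, hinv⟩ : invariants A E H) (Subtype.ext ?_)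
  show (y : E) * ↑v⁻¹ = 1
  rw [← hv]
  exact v.mul_inv

instance isLocalRing_invariants (H : Subgroup (E ≃ₐ[A] E)) : IsLocalRing (invariants A E H) :=
  IsLocalRing.of_isUnit_or_isUnit_one_sub_self fun y =>
    (IsLocalRing.isUnit_or_isUnit_one_sub_self (y : E)).imp (isUnit_invariants A E)
      (fun h => isUnit_invariants A E h)

theorem etale_invariants (H : Subgroup (E ≃ₐ[A] E)) : Algebra.Etale A (invariants A E H) := by
  classical
  haveI := finite_aut A E
  let _ := Fintype.ofFinite H
  haveI := (finite_invariants A E H).1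
  haveI := (finite_invariants A E H).2
  haveI := isLocalHom_finite A E
  haveI hD : IsLocalHom (algebraMap A (invariants A E H)) :=
    Hensel.isLocalHom_of_isIntegral_local A (invariants A E H)
  haveI : IsLocalHom (algebraMap (invariants A E H) E) := ⟨fun y hy => isUnit_invariants A E hy⟩
  have hm : (maximalIdeal A).map (algebraMap A (invariants A E H)) = maximalIdeal (invariants A E H) := by
    refine le_antisymm (Ideal.map_le_iff_le_comap.mpr fun a ha => map_nonunit _ a ha) fun y hy => ?_
    have hyE : (y : E) ∈ (maximalIdeal A).map (algebraMap A E) := by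
      rw [Algebra.FormallyUnramified.map_maximalIdeal]
      exact fun hu => hy (isUnit_invariants A E hu)
    rw [← Submodule.restrictScalars_mem A, ← Ideal.smul_top_eq_map] at hyE ⊢
    obtain ⟨c, hc⟩ := exists_trace A E H
    rw [← proj_invariant A E H hc y]
    have := Submodule.mem_map_of_mem (f := proj A E H c) hyE
    rw [Submodule.map_smul''] at this
    exact Submodule.smul_mono le_rfl le_top this
  haveI : Algebra.IsSeparable (ResidueField A) (ResidueField (invariants A E H)) := by
    refine Algebra.IsSeparable.of_algHom (ResidueField A) (ResidueField E)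
      (AlgHom.mk (ResidueField.map (algebraMap (invariants A E H) E)) fun c => ?_)
    obtain ⟨a, rfl⟩ := residue_surjective c
    rfl
  haveI : Algebra.FormallyUnramified A (invariants A E H) :=
    Algebra.FormallyUnramified.of_map_maximalIdeal hm
  haveI : Algebra.FinitePresentation A (invariants A E H) :=
    Algebra.FinitePresentation.of_finiteType.mp inferInstance
  exact Algebra.Etale.of_formallyUnramified_of_flat

/-- The automorphism group has invariant ring `A`. -/
theorem isInvariant_aut [IsLocalHom (algebraMap A E)] [Normal (ResidueField A) (ResidueField E)] :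
    Algebra.IsInvariant A E (E ≃ₐ[A] E) := by
  refine ⟨fun e he => ?_⟩
  haveI := (finite_invariants A E ⊤).1
  haveI := (finite_invariants A E ⊤).2
  haveI := etale_invariants A E ⊤
  haveI : IsLocalHom (algebraMap A (invariants A E ⊤)) := Hensel.isLocalHom_of_isIntegral_local A (invariants A E ⊤)
  haveI : Algebra.IsSeparable (ResidueField A) (ResidueField E) := inferInstance
  haveI : IsGalois (ResidueField A) (ResidueField E) := { }
  have hres : ∀ t : invariants A E ⊤, ∃ r : A, t - algebraMap A _ r ∈ maximalIdeal (invariants A E ⊤) := by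
    intro t
    have hfix : ∀ g : ResidueField E ≃ₐ[ResidueField A] ResidueField E, g (residue E t) = residue E t := by
      intro g
      obtain ⟨σ, hσ⟩ := exists_resAut A E g
      rw [← hσ, t.2 σ (Subgroup.mem_top σ)]
    obtain ⟨c, hc⟩ := (IsGalois.mem_range_algebraMap_iff_fixed (residue E (t : E))).mpr hfix
    obtain ⟨r, rfl⟩ := residue_surjective c
    refine ⟨r, fun hu => ?_⟩
    have hu' := hu.map (invariants A E ⊤).val
    rw [← notMem_maximalIdeal] at hu'
    refine hu' ?_
    rw [← residue_eq_zero_iff, map_sub, map_sub, AlgHom.commutes]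
    rw [sub_eq_zero, ← IsLocalRing.ResidueField.algebraMap_residue, hc]
    rfl
  obtain ⟨r, hr⟩ := (Hensel.bijective_algebraMap_of_flat_unramified hres).2 ⟨e, fun h _ => he h⟩
  exact ⟨r, congr(($hr : E))⟩

end Galois

/-- Every finite subset of a strict henselization lies in a Galois finite étale local subalgebra. -/
theorem exists_galois_etale (S : Type u) [CommRing S] [IsLocalRing S] [Algebra A S]
    [IsLocalHom (algebraMap A S)] [Hensel.IsStrictHenselization A S] (s : Finset S) :
    ∃ (E : Type u) (_ : CommRing E) (_ : IsLocalRing E) (_ : Algebra A E) (_ : IsLocalHom (algebraMap A E))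
      (_ : Module.Finite A E) (_ : Algebra.Etale A E) (ψ : E →ₐ[A] S),
      Normal (ResidueField A) (ResidueField E) ∧ Function.Injective ψ ∧ IsLocalHom ψ.toRingHom ∧
        ψ.toRingHom.Flat ∧ (s : Set S) ⊆ Set.range ψ := by
  classical
  haveI : HenselianLocalRing S := Hensel.IsStrictHenselization.henselian (R := A)
  haveI hsc : IsSepClosure (ResidueField A) (ResidueField S) := Hensel.IsStrictHenselization.isSepClosure
  haveI := hsc.separable
  haveI : IsGalois (ResidueField A) (ResidueField S) := inferInstance
  have hind := S12237.result A S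
  obtain ⟨Y, hY, ⟨e⟩⟩ := IndEtLib.exists_sys hind
  obtain ⟨j, y, hy⟩ := Y.exists_lift_finset s fun x => e.symm x
  haveI := hY j
  let σ : Y.A j →ₐ[A] S := e.toAlgHom.comp (Y.ι j)
  let q := (maximalIdeal S).comap σ.toRingHom
  haveI : q.LiesOver (maximalIdeal A) := ⟨by
    rw [Ideal.under, Ideal.comap_comap]
    have : σ.toRingHom.comp (algebraMap A (Y.A j)) = algebraMap A S := σ.comp_algebraMap
    rw [this, IsLocalRing.maximalIdeal_comap]⟩
  haveI : Algebra.QuasiFiniteAt A q := inferInstance
  haveI : Module.Finite A (Localization.AtPrime q) := Hensel.exists_finite_localization_of_quasiFiniteAt A q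
  haveI : Algebra.FormallyEtale A (Localization.AtPrime q) := inferInstance
  haveI : Algebra.Etale A (Localization.AtPrime q) :=
    ⟨inferInstance, Algebra.FinitePresentation.of_finiteType.mp inferInstance⟩
  haveI := isLocalHom_finite A (Localization.AtPrime q)
  have hσu : ∀ z : q.primeCompl, IsUnit (σ z) := fun z => notMem_maximalIdeal.mp z.2
  let σ₀ : Localization.AtPrime q →ₐ[A] S := IsLocalization.liftAlgHom (M := q.primeCompl) hσu
  haveI : IsLocalHom σ₀.toRingHom := by
    refine ((local_hom_TFAE σ₀.toRingHom).out 0 4).mpr ?_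
    refine le_antisymm ?_ fun x hx => ?_
    · exact IsLocalRing.le_maximalIdeal (Ideal.IsPrime.comap σ₀.toRingHom).ne_top
    · obtain ⟨a, z, rfl⟩ := IsLocalization.exists_mk'_eq q.primeCompl x
      rw [IsLocalization.AtPrime.mk'_mem_maximal_iff (Localization.AtPrime q) q] at hx
      show σ₀ (IsLocalization.mk' _ a z) ∈ maximalIdeal S
      have : σ₀ (IsLocalization.mk' _ a z) * σ z = σ a := by
        rw [mul_comm]
        exact ((IsLocalization.lift_mk'_spec (g := σ.toRingHom) hσu a (σ₀ (IsLocalization.mk' _ a z)) z).mp rfl).symm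
      have hx' : σ₀ (IsLocalization.mk' _ a z) * σ z ∈ maximalIdeal S := by rw [this]; exact hx
      exact (Ideal.IsPrime.mem_or_mem inferInstance hx').resolve_right z.2
  let k₀ := ResidueField (Localization.AtPrime q)
  let r₀ : k₀ →ₐ[ResidueField A] ResidueField S :=
    { ResidueField.map σ₀.toRingHom with
      commutes' := fun c => by
        obtain ⟨a, rfl⟩ := residue_surjective c
        show residue S (σ₀ (algebraMap A _ a)) = _
        rw [AlgHom.commutes]
        rfl }
  let k' := IntermediateField.normalClosure (ResidueField A) k₀ (ResidueField S)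
  haveI : FiniteDimensional (ResidueField A) k₀ := inferInstance
  haveI : Algebra.IsSeparable (ResidueField A) k' := Algebra.isSeparable_tower_bot_of_isSeparable _ k' (ResidueField S)
  obtain ⟨E, _, _, _, _, hEfin, hEet, ⟨eE⟩⟩ := Hensel.exists_finite_etale_residueField A k'
  haveI := hEfin
  haveI := hEet
  haveI := henselianLocalRing_finite A E
  haveI : Normal (ResidueField A) (ResidueField E) := Normal.of_algEquiv eE.symm
  let rE : ResidueField E →ₐ[ResidueField A] ResidueField S := k'.val.comp eE.toAlgHom
  obtain ⟨ψ, hψ, -⟩ := existsUnique_lift_residue A E (T := S)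
    ((rE.restrictScalars A).comp (IsScalarTower.toAlgHom A E (ResidueField E)))
  have hψloc : IsLocalHom ψ.toRingHom := ⟨fun x hx => by
    by_contra hne
    have h0 : residue E x = 0 := (residue_eq_zero_iff x).mpr hne
    have h1 : residue S (ψ x) = rE (residue E x) := hψ x
    rw [h0, map_zero, residue_eq_zero_iff] at h1
    exact h1 hx⟩
  let r₀' : k₀ →ₐ[ResidueField A] k' :=
    r₀.codRestrict k'.toSubalgebra fun x => r₀.fieldRange_le_normalClosure ⟨x, rfl⟩
  obtain ⟨θ, hθ, -⟩ := existsUnique_lift_residue A (Localization.AtPrime q) (T := E)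
    (((eE.symm.toAlgHom.comp r₀').restrictScalars A).comp (IsScalarTower.toAlgHom A _ k₀))
  have hθψ : ψ.comp θ = σ₀ := algHom_ext_residue A (Localization.AtPrime q) _ _ fun x => by
    show residue S (ψ (θ x)) = residue S (σ₀ x)
    rw [hψ]
    show rE (residue E (θ x)) = _
    rw [hθ]
    show k'.val (eE (eE.symm (r₀' (residue _ x)))) = _
    rw [AlgEquiv.apply_symm_apply]
    rfl
  haveI : Algebra.WeaklyEtale A S := S0736.result A S hind
  letI : Algebra E S := ψ.toRingHom.toAlgebra
  haveI : IsScalarTower A E S := IsScalarTower.of_algebraMap_eq fun a => (ψ.commutes a).symm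
  haveI : Algebra.WeaklyEtale E S := WEtLib.cancel (A := A) (B := E) S
  haveI : Module.Flat E S := Algebra.WeaklyEtale.flat
  haveI : IsLocalHom (algebraMap E S) := hψloc
  haveI : Module.FaithfullyFlat E S := Module.FaithfullyFlat.of_flat_of_isLocalHom
  refine ⟨E, inferInstance, inferInstance, inferInstance, inferInstance, hEfin, hEet, ψ, inferInstance,
    FaithfulSMul.algebraMap_injective E S, hψloc, RingHom.flat_algebraMap_iff.mpr inferInstance, ?_⟩
  intro x hx
  refine ⟨θ (algebraMap (Y.A j) _ (y x)), ?_⟩
  rw [← AlgHom.comp_apply, hθψ]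
  show IsLocalization.lift hσu (algebraMap (Y.A j) _ (y x)) = x
  rw [IsLocalization.lift_eq]
  show e (Y.ι j (y x)) = x
  rw [hy x hx, AlgEquiv.apply_symm_apply]

end

end Groth.Agent.HensEt88
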