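import Groth.Agent.HensEt88.GaloisEtale
import Groth.Agent.S0540
import Mathlib.RingTheory.Invariant.Galois
import Mathlib.RingTheory.Flat.FaithfullyFlat.Algebra
import Mathlib.RingTheory.Unramified.Field

set_option linter.style.haveILetI false
set_option linter.unusedSectionVars false

/-!
# Intermediate fields and finite étale subalgebras of a strict henselization

Let `A` be a henselian Noetherian local ring with strict henselization `S` and `S → K` a map to a
field.  A finitely generated subfield of `K` over the image of `A`, generated by fractions of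
elements of `S`, meets the image of `S` in the image of a finite étale local subalgebra of `S`.
-/

universe u

open IsLocalRing
open scoped Pointwise

namespace Groth.Agent.HensEt88

noncomputable section

set_option maxHeartbeats 800000 in
theorem exists_etale_eq_field_inter (A S K : Type u) [CommRing A] [HenselianLocalRing A] [IsNoetherianRing A]
    [CommRing S] [IsLocalRing S] [Algebra A S] [IsLocalHom (algebraMap A S)]
    [Hensel.IsStrictHenselization A S] [Field K] [Algebra S K] [Algebra A K] [IsScalarTower A S K]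
    (t : Finset K) (ht : ∀ z ∈ t, ∃ a b : S, algebraMap S K b ≠ 0 ∧ z * algebraMap S K b = algebraMap S K a)
    (s : Finset S) :
    ∃ E D : Subalgebra A S,
      (Module.Finite A E ∧ Algebra.Etale A E ∧ ∃ _ : IsLocalRing E, IsLocalHom (algebraMap E S)) ∧
      (Module.Finite A D ∧ Algebra.Etale A D ∧ ∃ _ : IsLocalRing D, IsLocalHom (algebraMap D S)) ∧
      D ≤ E ∧ (s : Set S) ⊆ E ∧
      (∀ x : S, algebraMap S K x ∈ Subfield.closure (Set.range (algebraMap A K) ∪ (t : Set K)) ↔
        ∃ d ∈ D, algebraMap S K d = algebraMap S K x) ∧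
      ∀ l ∈ Subfield.closure (Set.range (algebraMap A K) ∪ (t : Set K)),
        ∃ a ∈ D, ∃ b ∈ D, algebraMap S K b ≠ 0 ∧ l * algebraMap S K b = algebraMap S K a := by
  classical
  haveI : IsNoetherianRing S := (S0540.result A S).mp inferInstance
  let Q := RingHom.ker (algebraMap S K)
  haveI : Q.IsPrime := RingHom.ker_isPrime _
  obtain ⟨gQ, hgQ⟩ : Q.FG := IsNoetherian.noetherian Q
  choose num den hden hnum using ht
  obtain ⟨E, _, _, _, _, hEfin, hEet, ψ, hnormal, hψinj, hψloc, hψflat, hψs⟩ :=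
    exists_galois_etale A S (s ∪ gQ ∪ t.attach.image (fun z : {x // x ∈ t} => num z.1 z.2) ∪ t.attach.image (fun z : {x // x ∈ t} => den z.1 z.2))
  haveI := hEfin
  haveI := hEet
  haveI := hnormal
  letI : Algebra E S := ψ.toRingHom.toAlgebra
  haveI : IsScalarTower A E S := IsScalarTower.of_algebraMap_eq fun a => (ψ.commutes a).symm
  haveI : IsLocalHom (algebraMap E S) := hψloc
  haveI : Module.Flat E S := RingHom.flat_algebraMap_iff.mp hψflat
  haveI : Module.FaithfullyFlat E S := Module.FaithfullyFlat.of_flat_of_isLocalHom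
  let θ : E →+* K := (algebraMap S K).comp ψ.toRingHom
  let QE : Ideal E := RingHom.ker θ
  haveI : QE.IsPrime := RingHom.ker_isPrime _
  let P : Ideal A := QE.under A
  haveI : P.IsPrime := Ideal.IsPrime.under A QE
  haveI : QE.LiesOver P := ⟨rfl⟩
  have hQmap : QE.map (algebraMap E S) = Q := by
    refine le_antisymm (Ideal.map_le_iff_le_comap.mpr fun e he => he) ?_
    rw [← hgQ, Ideal.span_le]
    intro g hg
    obtain ⟨e, rfl⟩ := hψs (by simp [hg] : g ∈ _)
    exact Ideal.mem_map_of_mem _ (show θ e = 0 from (hgQ ▸ Ideal.subset_span hg : ψ e ∈ Q))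
  haveI := finite_aut A E
  haveI := isInvariant_aut A E
  haveI : SMulCommClass (E ≃ₐ[A] E) A E := ⟨fun g a e => map_smul g a e⟩
  let K₀ := FractionRing (A ⧸ P)
  let M := FractionRing (E ⧸ QE)
  haveI : FaithfulSMul (A ⧸ P) M := (faithfulSMul_iff_algebraMap_injective (A ⧸ P) M).mpr (by
    rw [IsScalarTower.algebraMap_eq (A ⧸ P) (E ⧸ QE) M]
    exact (IsFractionRing.injective (E ⧸ QE) M).comp (Ideal.algebraMap_quotient_injective))
  letI : Algebra K₀ M := FractionRing.liftAlgebra (A ⧸ P) M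
  haveI : Algebra.FormallyUnramified A (E ⧸ QE) :=
    Algebra.FormallyUnramified.of_surjective (Ideal.Quotient.mkₐ A QE) Ideal.Quotient.mk_surjective
  haveI : Algebra.FormallyUnramified (E ⧸ QE) M := Algebra.FormallyUnramified.of_isLocalization (nonZeroDivisors (E ⧸ QE))
  haveI : Algebra.FormallyUnramified A M := Algebra.FormallyUnramified.comp A (E ⧸ QE) M
  haveI : IsScalarTower A K₀ M := IsScalarTower.of_algebraMap_eq fun a => by
    rw [IsScalarTower.algebraMap_apply A (A ⧸ P) M, IsScalarTower.algebraMap_apply A (A ⧸ P) K₀,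
      ← IsScalarTower.algebraMap_apply (A ⧸ P) K₀ M]
  haveI : Algebra.FormallyUnramified K₀ M := Algebra.FormallyUnramified.of_restrictScalars A K₀ M
  haveI : Algebra.EssFiniteType (E ⧸ QE) M := Algebra.EssFiniteType.of_isLocalization M (nonZeroDivisors (E ⧸ QE))
  haveI : Algebra.EssFiniteType A M := Algebra.EssFiniteType.comp A (E ⧸ QE) M
  haveI : Algebra.EssFiniteType K₀ M := Algebra.EssFiniteType.of_comp A K₀ M
  haveI : FiniteDimensional K₀ M := Algebra.FormallyUnramified.finite_of_free K₀ M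
  haveI : Algebra.IsSeparable K₀ M := Algebra.FormallyUnramified.isSeparable K₀ M
  haveI : Normal K₀ M := Ideal.IsFractionRing.normal (E ≃ₐ[A] E) P QE K₀ M
  haveI : IsGalois K₀ M := ⟨⟩
  let θbar : E ⧸ QE →+* K := Ideal.Quotient.lift QE θ fun e he => he
  have hθbar : Function.Injective θbar := RingHom.lift_injective_of_ker_le_ideal QE _ le_rfl
  let φ : M →+* K := IsFractionRing.lift hθbar
  have hφ : ∀ e : E, φ (algebraMap (E ⧸ QE) M (Ideal.Quotient.mk QE e)) = θ e := fun e =>
    IsFractionRing.lift_algebraMap hθbar _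
  let t₀ : Set M := {m | φ m ∈ (t : Set K)}
  let L₀ := IntermediateField.adjoin K₀ t₀
  have hL : L₀.toSubfield.map φ = Subfield.closure (Set.range (algebraMap A K) ∪ (t : Set K)) := by
    show (Subfield.closure (Set.range (algebraMap K₀ M) ∪ t₀)).map φ = _
    rw [RingHom.map_field_closure, Set.image_union]
    have hA : ∀ a : A, φ (algebraMap K₀ M (algebraMap A K₀ a)) = algebraMap A K a := fun a => by
      rw [← IsScalarTower.algebraMap_apply A K₀ M, IsScalarTower.algebraMap_apply A (E ⧸ QE) M,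
        ← Ideal.Quotient.mk_algebraMap A QE, hφ]
      show algebraMap S K (ψ (algebraMap A E a)) = _
      rw [AlgHom.commutes, ← IsScalarTower.algebraMap_apply]
    refine le_antisymm (Subfield.closure_le.mpr (Set.union_subset ?_ ?_)) (Subfield.closure_le.mpr (Set.union_subset ?_ ?_))
    · rintro _ ⟨_, ⟨k, rfl⟩, rfl⟩
      obtain ⟨a, b, hb, rfl⟩ := IsFractionRing.div_surjective (A ⧸ P) k
      obtain ⟨a, rfl⟩ := Ideal.Quotient.mk_surjective a
      obtain ⟨b, rfl⟩ := Ideal.Quotient.mk_surjective b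
      rw [← Ideal.Quotient.algebraMap_eq, ← IsScalarTower.algebraMap_apply A (A ⧸ P) K₀,
        ← IsScalarTower.algebraMap_apply A (A ⧸ P) K₀, map_div₀, map_div₀, hA, hA]
      exact div_mem (Subfield.subset_closure (Or.inl ⟨a, rfl⟩)) (Subfield.subset_closure (Or.inl ⟨b, rfl⟩))
    · rintro _ ⟨m, hm, rfl⟩
      exact Subfield.subset_closure (Or.inr hm)
    · rintro _ ⟨a, rfl⟩
      exact Subfield.subset_closure (Or.inl ⟨_, ⟨algebraMap A K₀ a, rfl⟩, hA a⟩)
    · intro z hz
      obtain ⟨b, hb⟩ := hψs (Finset.mem_union_right _ (Finset.mem_image.mpr ⟨⟨z, hz⟩, Finset.mem_attach _ _, rfl⟩) :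
        den z hz ∈ (_ : Finset S))
      obtain ⟨a, ha⟩ := hψs (Finset.mem_union_left _ (Finset.mem_union_right _
        (Finset.mem_image.mpr ⟨⟨z, hz⟩, Finset.mem_attach _ _, rfl⟩)) : num z hz ∈ (_ : Finset S))
      have hb0 : θ b ≠ 0 := by
        show algebraMap S K (ψ b) ≠ 0
        rw [hb]; exact hden z hz
      have hm : φ (algebraMap (E ⧸ QE) M (Ideal.Quotient.mk QE a) / algebraMap (E ⧸ QE) M (Ideal.Quotient.mk QE b)) = z := by
        rw [map_div₀, hφ, hφ, div_eq_iff hb0]
        show algebraMap S K (ψ a) = z * algebraMap S K (ψ b)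
        rw [ha, hb]
        exact (hnum z hz).symm
      exact Subfield.subset_closure (Or.inr ⟨_, show φ _ ∈ (t : Set K) by rw [hm]; exact hz, hm⟩)
  let stab := MulAction.stabilizer (E ≃ₐ[A] E) QE
  let H : Subgroup (E ≃ₐ[A] E) :=
    ((IntermediateField.fixingSubgroup L₀).comap (IsFractionRing.stabilizerHom (E ≃ₐ[A] E) P QE K₀ M)).map stab.subtype
  have hHfix : ∀ e : E, algebraMap (E ⧸ QE) M (Ideal.Quotient.mk QE e) ∈ L₀ → ∀ h ∈ H, h e - e ∈ QE := by
    rintro e he _ ⟨g, hg, rfl⟩
    rw [← Ideal.Quotient.eq]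
    refine IsFractionRing.injective (E ⧸ QE) M ?_
    have := IsFractionRing.stabilizerHom_apply_apply_mk (E ≃ₐ[A] E) P QE K₀ M g e
    exact this.symm.trans ((IntermediateField.mem_fixingSubgroup_iff _ _).mp hg _ he)
  have hHinv : ∀ d ∈ invariants A E H, algebraMap (E ⧸ QE) M (Ideal.Quotient.mk QE d) ∈ L₀ := by
    intro d hd
    rw [← IsGalois.fixedField_fixingSubgroup L₀, IntermediateField.mem_fixedField_iff]
    intro f hf
    obtain ⟨g, rfl⟩ := IsFractionRing.stabilizerHom_surjective (E ≃ₐ[A] E) P QE K₀ M f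
    rw [IsFractionRing.stabilizerHom_apply_apply_mk]
    show algebraMap (E ⧸ QE) M (Ideal.Quotient.mk QE ((g : E ≃ₐ[A] E) d)) = _
    rw [show (g : E ≃ₐ[A] E) d = d from hd _ ⟨g, hf, rfl⟩]
  have hmem : ∀ x : S, algebraMap S K x ∈ Subfield.closure (Set.range (algebraMap A K) ∪ (t : Set K)) ↔
      ∃ d ∈ (invariants A E H).map ψ, algebraMap S K d = algebraMap S K x := by
    intro x
    rw [← hL]
    constructor
    · rintro ⟨m, hm, hmx⟩
      obtain ⟨a, b, hb, hab⟩ := IsFractionRing.div_surjective (E ⧸ QE) m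
      obtain ⟨a, rfl⟩ := Ideal.Quotient.mk_surjective a
      obtain ⟨b, rfl⟩ := Ideal.Quotient.mk_surjective b
      have hbQ : b ∉ QE := fun h => nonZeroDivisors.ne_zero hb (Ideal.Quotient.eq_zero_iff_mem.mpr h)
      have hθb : θ b ≠ 0 := hbQ
      rw [← hab, map_div₀, hφ, hφ, div_eq_iff hθb] at hmx
      have hdiff : ψ a - x * ψ b ∈ Q := by
        rw [RingHom.mem_ker, map_sub, map_mul, sub_eq_zero]
        exact hmx
      have hain : ψ a ∈ (Ideal.span {b} ⊔ QE).map (algebraMap E S) := by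
        rw [Ideal.map_sup, hQmap, Ideal.map_span, Set.image_singleton]
        refine Submodule.mem_sup.mpr ⟨x * ψ b, Ideal.mem_span_singleton'.mpr ⟨x, rfl⟩, _, hdiff, by ring⟩
      have hain' : a ∈ Ideal.span {b} ⊔ QE := by
        rw [← Ideal.comap_map_eq_self_of_faithfullyFlat (B := S) (Ideal.span {b} ⊔ QE)]
        exact hain
      obtain ⟨_, he, q, hq, hsum⟩ := Submodule.mem_sup.mp hain'
      obtain ⟨e, rfl⟩ := Ideal.mem_span_singleton'.mp he
      have hex : θ e = algebraMap S K x := by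
        refine mul_right_cancel₀ hθb ?_
        have : θ a = θ e * θ b + θ q := by rw [← map_mul, ← map_add, hsum]
        rw [show θ q = 0 from hq, add_zero] at this
        exact this.symm.trans hmx
      have heL : algebraMap (E ⧸ QE) M (Ideal.Quotient.mk QE e) ∈ L₀ := by
        suffices algebraMap (E ⧸ QE) M (Ideal.Quotient.mk QE e) = m by rw [this]; exact hm
        refine φ.injective ?_
        rw [hφ, hex, ← hab, map_div₀, hφ, hφ, eq_div_iff hθb]
        exact hmx.symm
      obtain ⟨d, hd, hed⟩ := exists_mem_invariants_of_invariant_quotient A E H QE e (hHfix e heL)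
      refine ⟨ψ d, ⟨d, hd, rfl⟩, ?_⟩
      have : θ e - θ d = 0 := by rw [← map_sub]; exact hed
      exact (sub_eq_zero.mp this).symm.trans hex
    · rintro ⟨_, ⟨d, hd, rfl⟩, hdx⟩
      exact ⟨_, hHinv d hd, (hφ d).trans hdx⟩
  haveI := (finite_invariants A E H).1
  haveI := etale_invariants A E H
  refine ⟨ψ.range, (invariants A E H).map ψ, ?_, ?_, ?_, ?_, hmem, ?_⟩
  · let e := AlgEquiv.ofInjective ψ hψinj
    haveI : IsLocalRing ψ.range := e.toRingEquiv.isLocalRing
    refine ⟨Module.Finite.equiv e.toLinearEquiv, Algebra.Etale.of_equiv e, inferInstance, ⟨fun y hy => ?_⟩⟩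
    obtain ⟨y', hy'⟩ := e.surjective y
    rw [← hy'] at hy ⊢
    exact (IsUnit.of_map (algebraMap E S) y' hy).map e
  · let e := (invariants A E H).equivMapOfInjective ψ hψinj
    haveI : IsLocalRing ((invariants A E H).map ψ) := e.toRingEquiv.isLocalRing
    refine ⟨Module.Finite.equiv e.toLinearEquiv, Algebra.Etale.of_equiv e, inferInstance, ⟨fun y hy => ?_⟩⟩
    obtain ⟨y', hy'⟩ := e.surjective y
    rw [← hy'] at hy ⊢
    exact (isUnit_invariants A E (IsUnit.of_map (algebraMap E S) (y' : E) hy)).map e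
  · rintro _ ⟨d, -, rfl⟩
    exact ⟨d, rfl⟩
  · intro x hx
    exact hψs (by simp [hx])
  · intro l hl
    rw [← hL] at hl
    obtain ⟨m, hm, rfl⟩ := hl
    obtain ⟨x, y, hy, hxy⟩ := IsFractionRing.div_surjective (E ⧸ QE) m
    have hy0 : y ≠ 0 := nonZeroDivisors.ne_zero hy
    haveI : Algebra.IsAlgebraic (A ⧸ P) (E ⧸ QE) := inferInstance
    obtain ⟨b, a, ha, hab⟩ := Algebra.IsAlgebraic.exists_smul_eq_mul (R := A ⧸ P) x hy0
    obtain ⟨a, rfl⟩ := Ideal.Quotient.mk_surjective a
    obtain ⟨b, rfl⟩ := Ideal.Quotient.mk_surjective b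
    have hm' : m * algebraMap (E ⧸ QE) M (Ideal.Quotient.mk QE (algebraMap A E a)) =
        algebraMap (E ⧸ QE) M (Ideal.Quotient.mk QE b) := by
      rw [← hxy, div_mul_eq_mul_div, div_eq_iff ((map_ne_zero_iff _ (IsFractionRing.injective (E ⧸ QE) M)).mpr hy0),
        ← map_mul, ← map_mul]
      congr 1
      rw [Algebra.smul_def, Ideal.Quotient.algebraMap_mk_of_liesOver] at hab
      rw [mul_comm x, mul_comm _ y]
      exact hab
    have haQ : algebraMap S K (ψ (algebraMap A E a)) ≠ 0 := fun h => by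
      refine ha (Ideal.Quotient.eq_zero_iff_mem.mpr ?_)
      exact h
    have hbL : algebraMap (E ⧸ QE) M (Ideal.Quotient.mk QE b) ∈ L₀ := by
      rw [← hm']
      refine mul_mem hm ?_
      rw [← Ideal.Quotient.algebraMap_mk_of_liesOver QE P a, ← IsScalarTower.algebraMap_apply,
        IsScalarTower.algebraMap_apply (A ⧸ P) K₀ M]
      exact L₀.algebraMap_mem _
    obtain ⟨d, hd, hdb⟩ := (hmem (ψ b)).mp (by
      rw [← hL]
      exact ⟨_, hbL, hφ b⟩)
    refine ⟨d, hd, ψ (algebraMap A E a), ⟨algebraMap A E a, Subalgebra.algebraMap_mem _ a, rfl⟩, haQ, ?_⟩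
    have := congrArg φ hm'
    rw [map_mul, hφ, hφ] at this
    rw [hdb]
    exact this

end

end Groth.Agent.HensEt88
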