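import Groth.Agent.HensEt88.DvrModel

/-!
# The fundamental identity for dominating valuation subrings of a Galois extension
-/

set_option autoImplicit false
set_option linter.style.haveILetI false

namespace Groth.Agent.HensEt88

universe u

open IsLocalRing

variable {A K L : Type u} [CommRing A] [IsDomain A] [IsDiscreteValuationRing A] [Field K] [Algebra A K]
  [IsFractionRing A K] [Field L] [Algebra K L] [Algebra A L] [IsScalarTower A K L] [FiniteDimensional K L]
  [IsGalois K L]

variable (A K L) in
include K in
/-- `e * f * g = [L : K]`. -/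
theorem galois_efg :
    ∃ e f g : ℕ, e * f * g = Module.finrank K L ∧
      (g = 1 → ∀ V V' : ValuationSubring L, EtRam.Dominates A (algebraMap A L) V →
        EtRam.Dominates A (algebraMap A L) V' → V = V') ∧
      ∀ (V : ValuationSubring L) (h : EtRam.Dominates A (algebraMap A L) V),
        letI : Algebra A V := (RingHom.codRestrict (algebraMap A L) V h.1).toAlgebra
        ∀ [IsLocalHom (algebraMap A V)],
          Ideal.ramificationIdx' (maximalIdeal A) (maximalIdeal V) = e ∧
          Module.finrank (ResidueField A) (ResidueField V) = f := by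
  classical
  let B := integralClosure A L
  haveI : IsDedekindDomain B := integralClosure.isDedekindDomain A K L
  haveI : Module.Finite A B := IsIntegralClosure.finite A K L _
  haveI : IsFractionRing B L := integralClosure.isFractionRing_of_finite_extension K L
  haveI : Module.IsTorsionFree A B := by
    rw [Module.isTorsionFree_iff_algebraMap_injective]
    intro a b h
    have h2 : algebraMap A L a = algebraMap A L b := congrArg Subtype.val h
    rw [IsScalarTower.algebraMap_apply A K L, IsScalarTower.algebraMap_apply A K L] at h2
    exact IsFractionRing.injective A K ((algebraMap K L).injective h2)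
  haveI : Module.Free A B := Module.free_of_finite_type_torsion_free'
  letI : MulSemiringAction (L ≃ₐ[K] L) B := IsIntegralClosure.MulSemiringAction A K L B
  haveI : IsGaloisGroup (L ≃ₐ[K] L) A B := IsGaloisGroup.of_isFractionRing _ _ _ K L
  let m := maximalIdeal A
  refine ⟨m.ramificationIdxIn B, m.inertiaDegIn B, (m.primesOver B).ncard, ?_, ?_, fun V hV => ?_⟩
  · have h := Ideal.ncard_primesOver_mul_ramificationIdxIn_mul_inertiaDegIn m B (L ≃ₐ[K] L)
    rw [IsGalois.card_aut_eq_finrank] at h
    rw [← h]; ring
  · intro hg V V' hV hV'
    obtain ⟨P, hP⟩ := Set.ncard_eq_one.mp hg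
    have h1 : centre hV ∈ m.primesOver B := ⟨centre_isPrime hV, ⟨(centre_comap hV).symm⟩⟩
    have h2 : centre hV' ∈ m.primesOver B := ⟨centre_isPrime hV', ⟨(centre_comap hV').symm⟩⟩
    rw [hP, Set.mem_singleton_iff] at h1 h2
    exact eq_of_centre_eq (K := K) hV hV' (h1.trans h2.symm)
  letI : Algebra A V := (RingHom.codRestrict (algebraMap A L) V hV.1).toAlgebra
  intro _
  haveI : IsDiscreteValuationRing V := isDiscreteValuationRing_of_dominates (K := K) (A := A) (L := L)
    (by rw [← IsScalarTower.algebraMap_eq]; exact hV)
  let P := centre hV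
  haveI : P.LiesOver m := ⟨(centre_comap hV).symm⟩
  haveI := centre_isMaximal (K := K) hV
  let S := Localization.AtPrime P
  haveI : IsDiscreteValuationRing S :=
    IsLocalization.AtPrime.isDiscreteValuationRing_of_dedekind_domain B (centre_ne_bot (K := K) hV) S
  obtain ⟨e, he⟩ := exists_centre_equiv (K := K) hV
  have hcomp : e.toRingHom.comp (algebraMap A S) = algebraMap A V := RingHom.ext fun a => Subtype.ext (by
    show ((e (algebraMap A S a) : V) : L) = algebraMap A L a
    rw [IsScalarTower.algebraMap_apply A B S, he]
    rfl)
  have hmax : (maximalIdeal S).map e.toRingHom = maximalIdeal V := by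
    haveI : ((maximalIdeal S).map e.toRingHom).IsMaximal := Ideal.map_isMaximal_of_equiv e
    exact IsLocalRing.eq_maximalIdeal ‹_›
  refine ⟨?_, ?_⟩
  · rw [Ideal.ramificationIdxIn_eq_ramificationIdx m P (L ≃ₐ[K] L), Ideal.ramificationIdx_eq m P]
    have hV0 : m.map (algebraMap A V) ≠ ⊥ := by
      rw [Ne, Ideal.map_eq_bot_iff_of_injective]
      · exact IsDiscreteValuationRing.not_a_field A
      · intro a b h
        have h2 : algebraMap A L a = algebraMap A L b := congrArg Subtype.val h
        rw [IsScalarTower.algebraMap_apply A K L, IsScalarTower.algebraMap_apply A K L] at h2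
        exact IsFractionRing.injective A K ((algebraMap K L).injective h2)
    have hS : m.map (algebraMap A S) = maximalIdeal S ^ Ideal.ramificationIdx' m (maximalIdeal V) := by
      have hinj : Function.Injective (Ideal.map e.toRingHom : Ideal S → Ideal V) := fun I J h => by
        have := congrArg (Ideal.comap e.toRingHom) h
        rwa [Ideal.comap_map_of_bijective e.toRingHom e.bijective, Ideal.comap_map_of_bijective e.toRingHom e.bijective] at this
      apply hinj
      rw [Ideal.map_map, hcomp, Ideal.map_pow, hmax]
      exact map_maximalIdeal_eq_pow A V hV0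
    rw [hS, IsDiscreteValuationRing.length_quotient_pow_maximalIdeal, ENat.toNat_natCast]
  · rw [Ideal.inertiaDegIn_eq_inertiaDeg m P (L ≃ₐ[K] L), Ideal.inertiaDeg_eq_of_isMaximal m P]
    let i2 : B ⧸ P ≃+* ResidueField V :=
      (IsLocalization.AtPrime.equivQuotMaximalIdeal P S).trans (ResidueField.mapEquiv e)
    let i1 : A ⧸ m ≃+* ResidueField A := RingEquiv.refl _
    refine (Algebra.finrank_eq_of_equiv_equiv i1 i2 ?_).symm
    refine Ideal.Quotient.ringHom_ext (RingHom.ext fun a => ?_)
    show algebraMap (ResidueField A) (ResidueField V) (residue A a) = i2 (algebraMap (A ⧸ m) (B ⧸ P) (Ideal.Quotient.mk m a))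
    rw [Ideal.Quotient.algebraMap_mk_of_liesOver, RingEquiv.trans_apply, IsLocalization.AtPrime.equivQuotMaximalIdeal_apply_mk]
    show residue V (algebraMap A V a) = residue V (e (algebraMap B S (algebraMap A B a)))
    rw [← IsScalarTower.algebraMap_apply, ← RingHom.congr_fun hcomp a]
    rfl

end Groth.Agent.HensEt88
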