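import Groth.Agent.EtMil7.Presented
import Mathlib.RingTheory.Flat.Stability
import Mathlib.RingTheory.FinitePresentation
import Mathlib.Algebra.MvPolynomial.Basic

/-!
# Finite presentation of glued modules in the relative situation
-/

set_option autoImplicit false
set_option linter.style.haveILetI false

namespace Groth.Agent.HensEt88

universe u

open TensorProduct

section Pushout

/-- Base change along a pushout of the coefficient ring. -/
theorem bijective_liftBaseChange_of_pushout (B' P T S : Type u) [CommRing B'] [CommRing P] [CommRing T] [CommRing S]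
    [Algebra B' P] [Algebra B' T] [Algebra T S] [Algebra P S] [Algebra B' S]
    [IsScalarTower B' T S] [IsScalarTower B' P S] [Algebra.IsPushout B' T P S]
    (D' DT : Type u) [CommRing D'] [CommRing DT]
    [Algebra B' D'] [Algebra T DT] [Algebra D' DT] [Algebra B' DT] [IsScalarTower B' T DT] [IsScalarTower B' D' DT]
    [Algebra.IsPushout B' T D' DT] [Algebra P D'] [IsScalarTower B' P D'] [Algebra S DT] [IsScalarTower T S DT]
    {X N : Type u} [AddCommGroup X] [Module D' X] [Module P X] [IsScalarTower P D' X] [Module B' X]
    [IsScalarTower B' P X] [IsScalarTower B' D' X]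
    [AddCommGroup N] [Module DT N] [Module D' N] [IsScalarTower D' DT N] [Module S N] [IsScalarTower S DT N]
    [Module P N] [IsScalarTower P S N]
    (u : X →ₗ[D'] N) (hu : Function.Bijective (u.liftBaseChange DT))
    (v : X →ₗ[P] N) (hv : ∀ x, v x = u x) : Function.Bijective (v.liftBaseChange S) := by
  let c₁ : S ⊗[P] X ≃ₗ[T] T ⊗[B'] X := Algebra.IsPushout.cancelBaseChange B' T P S X
  let c₂ : DT ⊗[D'] X ≃ₗ[T] T ⊗[B'] X := Algebra.IsPushout.cancelBaseChange B' T D' DT X
  have key : ∀ y, v.liftBaseChange S (c₁.symm y) = u.liftBaseChange DT (c₂.symm y) := by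
    intro y
    induction y with
    | zero => simp
    | add a b ha hb => simp only [map_add, ha, hb]
    | tmul t x =>
      simp only [c₁, c₂, Algebra.IsPushout.cancelBaseChange_symm_tmul, LinearMap.liftBaseChange_tmul, hv]
      rw [← algebraMap_smul DT (algebraMap T S t) (u x), ← IsScalarTower.algebraMap_apply]
  have h : (v.liftBaseChange S : S ⊗[P] X → N) = u.liftBaseChange DT ∘ c₂.symm ∘ c₁ := funext fun z => by
    rw [Function.comp_apply, Function.comp_apply, ← key, c₁.symm_apply_apply]
  rw [h]
  exact hu.comp (c₂.symm.bijective.comp c₁.bijective)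

/-- The base change of a kernel with flat quotient is finite. -/
theorem finite_baseChange_ker_of_pushout (B' P T S : Type u) [CommRing B'] [CommRing P] [CommRing T] [CommRing S]
    [Algebra B' P] [Algebra B' T] [Algebra T S] [Algebra P S] [Algebra B' S]
    [IsScalarTower B' T S] [IsScalarTower B' P S] [Algebra.IsPushout B' T P S]
    {F L : Type u} [AddCommGroup F] [Module P F] [Module.Finite P F]
    [Module B' F] [IsScalarTower B' P F] [AddCommGroup L] [Module P L] [Module B' L] [IsScalarTower B' P L]
    [Module.Flat B' L] (π : F →ₗ[P] L) (hπ : Function.Surjective π) [Module.FinitePresentation S (S ⊗[P] L)] :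
    Module.Finite S (S ⊗[P] LinearMap.ker π) := by
  let cK : S ⊗[P] LinearMap.ker π ≃ₗ[T] T ⊗[B'] LinearMap.ker π := Algebra.IsPushout.cancelBaseChange B' T P S _
  let cF : S ⊗[P] F ≃ₗ[T] T ⊗[B'] F := Algebra.IsPushout.cancelBaseChange B' T P S _
  let ι : LinearMap.ker π →ₗ[B'] F := (LinearMap.ker π).subtype.restrictScalars B'
  have hinj0 : Function.Injective (ι.lTensor T) :=
    W4Lib.lTensor_injective_of_flat_quotient (f := ι) (g := π.restrictScalars B') Subtype.val_injective
      (LinearMap.exact_subtype_ker_map π) hπ T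
  have key : ∀ y, cF ((LinearMap.ker π).subtype.baseChange S (cK.symm y)) = ι.lTensor T y := by
    intro y
    induction y with
    | zero => simp
    | add a b ha hb => simp only [map_add, ha, hb]
    | tmul t x =>
      apply cF.symm.injective
      simp [cK, cF, ι]
  have hinj : Function.Injective ((LinearMap.ker π).subtype.baseChange S) := by
    intro x y hxy
    apply cK.injective
    apply hinj0
    rw [← key, ← key, cK.symm_apply_apply, cK.symm_apply_apply, hxy]
  have hex : Function.Exact (LinearMap.ker π).subtype π := LinearMap.exact_subtype_ker_map π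
  have hexT : Function.Exact ((LinearMap.ker π).subtype.baseChange S) (π.baseChange S) := lTensor_exact S hex hπ
  have hfg := Module.FinitePresentation.fg_ker (π.baseChange S) (LinearMap.lTensor_surjective S hπ)
  rw [LinearMap.exact_iff.mp hexT] at hfg
  have : Module.Finite S (LinearMap.range ((LinearMap.ker π).subtype.baseChange S)) := Module.Finite.iff_fg.mpr hfg
  exact Module.Finite.equiv (LinearEquiv.ofInjective _ hinj).symm

/-- Finitely many elements spanning after base change. -/
theorem exists_finset_of_finite_baseChange (B' P T S : Type u) [CommRing B'] [CommRing P] [CommRing T] [CommRing S]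
    [Algebra B' P] [Algebra B' T] [Algebra T S] [Algebra P S] [Algebra B' S]
    [IsScalarTower B' T S] [IsScalarTower B' P S] [Algebra.IsPushout B' T P S]
    {K : Type u} [AddCommGroup K] [Module P K] [Module B' K]
    [IsScalarTower B' P K] [Module.Finite S (S ⊗[P] K)] :
    ∃ s : Finset K, ∀ W : Submodule P K, (s : Set K) ⊆ W → Subsingleton (T ⊗[B'] (K ⧸ W)) := by
  classical
  obtain ⟨g, hg⟩ := (inferInstance : Module.Finite S (S ⊗[P] K)).fg_top
  have hspan : ∀ z : S ⊗[P] K, ∃ s : Finset K, z ∈ Submodule.span S ((fun k => (1 : S) ⊗ₜ[P] k) '' (s : Set K)) := by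
    intro z
    induction z with
    | zero => exact ⟨∅, zero_mem _⟩
    | tmul a k =>
      refine ⟨{k}, ?_⟩
      rw [show a ⊗ₜ[P] k = a • ((1 : S) ⊗ₜ[P] k) by rw [TensorProduct.smul_tmul', smul_eq_mul, mul_one]]
      exact Submodule.smul_mem _ _ (Submodule.subset_span ⟨k, by simp, rfl⟩)
    | add a b ha hb =>
      obtain ⟨s, hs⟩ := ha
      obtain ⟨s', hs'⟩ := hb
      exact ⟨s ∪ s', add_mem (Submodule.span_mono (Set.image_mono (by simp)) hs)
        (Submodule.span_mono (Set.image_mono (by simp)) hs')⟩
  choose σ hσ using hspan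
  refine ⟨g.biUnion σ, fun W hW => ?_⟩
  have htop : (⊤ : Submodule S (S ⊗[P] K)) ≤ LinearMap.ker (W.mkQ.baseChange S) := by
    rw [← hg, Submodule.span_le]
    intro z hz
    refine (Submodule.span_le.mpr ?_) (hσ z)
    rintro _ ⟨k, hk, rfl⟩
    have hkW : k ∈ W := hW (Finset.mem_biUnion.mpr ⟨z, hz, hk⟩)
    rw [SetLike.mem_coe, LinearMap.mem_ker, LinearMap.baseChange_tmul, Submodule.mkQ_apply,
      (Submodule.Quotient.mk_eq_zero W).mpr hkW, tmul_zero]
  have : Subsingleton (S ⊗[P] (K ⧸ W)) := subsingleton_of_forall_eq 0 fun y => by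
    obtain ⟨x, rfl⟩ := LinearMap.lTensor_surjective S (Submodule.mkQ_surjective W) y
    exact htop (Submodule.mem_top (x := x))
  exact (Algebra.IsPushout.cancelBaseChange B' T P S (K ⧸ W)).symm.toEquiv.subsingleton

end Pushout

section Component

variable (B' P D' T DT : Type u) [CommRing B'] [CommRing P] [CommRing D'] [CommRing T] [CommRing DT]
  [Algebra B' P] [Algebra B' D'] [Algebra P D'] [IsScalarTower B' P D']
  [Algebra B' T] [Algebra T DT] [Algebra D' DT] [Algebra B' DT] [IsScalarTower B' T DT] [IsScalarTower B' D' DT]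
  [Algebra.IsPushout B' T D' DT]

/-- The kernel of a presentation of the glued module becomes finite on one side. -/
theorem exists_finset_component [Module.FinitePresentation P D'] {N L : Type u} [AddCommGroup N] [Module DT N]
    [Module D' N] [IsScalarTower D' DT N] [Module.FinitePresentation DT N]
    [AddCommGroup L] [Module D' L] [Module P L] [IsScalarTower P D' L] [Module B' L] [IsScalarTower B' P L]
    [IsScalarTower B' D' L] [Module.Flat B' L] (u : L →ₗ[D'] N) (hu : Function.Bijective (u.liftBaseChange DT))
    {F : Type u} [AddCommGroup F] [Module P F] [Module.Finite P F] [Module B' F] [IsScalarTower B' P F]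
    (π : F →ₗ[P] L) (hπ : Function.Surjective π) :
    ∃ s : Finset (LinearMap.ker π), ∀ W : Submodule P (LinearMap.ker π), (s : Set (LinearMap.ker π)) ⊆ W →
      Subsingleton (T ⊗[B'] (LinearMap.ker π ⧸ W)) := by
  let S := T ⊗[B'] P
  letI : Algebra P S := Algebra.TensorProduct.rightAlgebra
  let jP : P →ₐ[B'] DT := (IsScalarTower.toAlgHom B' D' DT).comp (IsScalarTower.toAlgHom B' P D')
  let θ : S →ₐ[B'] DT := Algebra.TensorProduct.lift (IsScalarTower.toAlgHom B' T DT) jP fun _ _ => Commute.all _ _
  have hθ : ∀ (t : T) (q : P), θ (t ⊗ₜ[B'] q) = algebraMap T DT t * algebraMap D' DT (algebraMap P D' q) :=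
    fun t q => rfl
  letI : Algebra S DT := θ.toRingHom.toAlgebra
  haveI : IsScalarTower T S DT := .of_algebraMap_eq fun t => by
    show algebraMap T DT t = θ (t ⊗ₜ 1)
    rw [hθ, map_one, map_one, mul_one]
  letI : Module S N := Module.compHom N (algebraMap S DT)
  haveI : IsScalarTower S DT N := ⟨fun s d n => by
    show (algebraMap S DT s * d) • n = algebraMap S DT s • (d • n)
    rw [mul_smul]⟩
  letI : Module P N := Module.compHom N (algebraMap P S)
  haveI : IsScalarTower P S N := ⟨fun q s n => by
    show (algebraMap P S q * s) • n = algebraMap P S q • (s • n)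
    rw [mul_smul]⟩
  have hPN : ∀ (q : P) (n : N), q • n = algebraMap P D' q • n := fun q n => by
    show θ ((1 : T) ⊗ₜ q) • n = _
    rw [hθ, map_one, one_mul, algebraMap_smul]
  letI : Algebra P DT := ((algebraMap D' DT).comp (algebraMap P D')).toAlgebra
  haveI : IsScalarTower P D' DT := .of_algebraMap_eq fun q => rfl
  haveI : IsScalarTower P S DT := .of_algebraMap_eq fun q => by
    show algebraMap D' DT (algebraMap P D' q) = θ ((1 : T) ⊗ₜ q)
    rw [hθ, map_one, one_mul]
  haveI : Module.FinitePresentation S DT := by
    have hb : Function.Bijective ((Algebra.linearMap D' DT).liftBaseChange DT) := by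
      have h : ((Algebra.linearMap D' DT).liftBaseChange DT : DT ⊗[D'] D' → DT) = TensorProduct.rid D' DT := funext fun z => by
        induction z with
        | zero => simp
        | add a b ha hb => simp only [map_add, ha, hb]
        | tmul a b => simp [Algebra.smul_def, mul_comm]
      rw [h]
      exact (TensorProduct.rid D' DT).bijective
    have h2 := bijective_liftBaseChange_of_pushout B' P T S D' DT (Algebra.linearMap D' DT) hb
      ((Algebra.linearMap D' DT).restrictScalars P) fun x => rfl
    exact Module.FinitePresentation.of_equiv (LinearEquiv.ofBijective _ h2)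
  haveI : Module.FinitePresentation S N := Module.FinitePresentation.trans S N DT
  let v : L →ₗ[P] N :=
    { toFun := u
      map_add' := map_add u
      map_smul' := fun q x => by
        rw [← algebraMap_smul D' q x, map_smul, RingHom.id_apply, hPN] }
  have h3 := bijective_liftBaseChange_of_pushout B' P T S D' DT u hu v fun x => rfl
  haveI : Module.FinitePresentation S (S ⊗[P] L) := Module.FinitePresentation.of_equiv (LinearEquiv.ofBijective _ h3).symm
  haveI := finite_baseChange_ker_of_pushout B' P T S π hπ
  exact exists_finset_of_finite_baseChange B' P T S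

end Component

/-- Flatness of one base change of the glued module. -/
theorem flat_baseChange_of_bijective (B' D' T DT : Type u) [CommRing B'] [CommRing D'] [CommRing T] [CommRing DT]
    [Algebra B' D'] [Algebra B' T] [Algebra T DT] [Algebra D' DT] [Algebra B' DT] [IsScalarTower B' T DT]
    [IsScalarTower B' D' DT] [Algebra.IsPushout B' T D' DT] {N L : Type u} [AddCommGroup N] [Module DT N]
    [Module D' N] [IsScalarTower D' DT N] [Module T N] [IsScalarTower T DT N] [Module.Flat T N]
    [AddCommGroup L] [Module D' L] [Module B' L] [IsScalarTower B' D' L]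
    (u : L →ₗ[D'] N) (hu : Function.Bijective (u.liftBaseChange DT)) : Module.Flat T (T ⊗[B'] L) := by
  let e : DT ⊗[D'] L ≃ₗ[T] N := (LinearEquiv.ofBijective _ hu).restrictScalars T
  exact Module.Flat.of_linearEquiv ((Algebra.IsPushout.cancelBaseChange B' T D' DT L).symm.trans e)

/-- The glued module is finitely presented in the relative situation. -/
theorem finitePresentation_glue_relative (B' B A' A : Type u) [CommRing B'] [CommRing B] [CommRing A'] [CommRing A]
    [Algebra B' B] [Algebra B' A'] [Algebra B A] [Algebra A' A] [Algebra B' A] [IsScalarTower B' B A] [IsScalarTower B' A' A]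
    (hsq : EtMil.IsFibreSquare B' B A' A)
    (D' D C' C : Type u) [CommRing D'] [CommRing D] [CommRing C'] [CommRing C]
    [Algebra B' D'] [Algebra B D] [Algebra A' C'] [Algebra A C]
    [Algebra D' D] [Algebra B' D] [IsScalarTower B' B D] [IsScalarTower B' D' D] [Algebra.IsPushout B' B D' D]
    [Algebra D' C'] [Algebra B' C'] [IsScalarTower B' A' C'] [IsScalarTower B' D' C'] [Algebra.IsPushout B' A' D' C']
    [Algebra D' C] [Algebra B' C] [IsScalarTower B' A C] [IsScalarTower B' D' C] [Algebra.IsPushout B' A D' C]
    [Algebra D C] [IsScalarTower D' D C] [Algebra B C] [IsScalarTower B A C] [IsScalarTower B D C]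
    [Algebra C' C] [IsScalarTower D' C' C] [Algebra A' C] [IsScalarTower A' A C] [IsScalarTower A' C' C]
    {N M' : Type u} [AddCommGroup N] [Module D N] [Module D' N] [IsScalarTower D' D N]
    [AddCommGroup M'] [Module C' M'] [Module D' M'] [IsScalarTower D' C' M'] (φ : C ⊗[D] N ≃ₗ[C] C ⊗[C'] M')
    [Module B N] [IsScalarTower B D N] [Module A' M'] [IsScalarTower A' C' M']
    [Module.FinitePresentation D N] [Module.Flat B N] [Module.FinitePresentation C' M'] [Module.Flat A' M']
    (D'' : Type u) [CommRing D''] [Algebra B' D''] [Algebra D'' D'] [IsScalarTower B' D'' D'] [Module.Flat B' D'']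
    [Algebra.FinitePresentation D'' D'] :
    Module.FinitePresentation D' ↥(EtMil.glue D' φ) := by
  classical
  let L := EtMil.glue D' φ
  have hw := EtMil7.isWeakSquare_of_isPushout hsq D' D C' C
  letI : Module B' L := Module.compHom L (algebraMap B' D')
  haveI : IsScalarTower B' D' L := ⟨fun b d l => by
    show (b • d) • l = algebraMap B' D' b • (d • l)
    rw [Algebra.smul_def, mul_smul]⟩
  have hB := EtMil7.bijective_liftBaseChange_glueFst φ hw
  have hA := EtMil7.bijective_liftBaseChange_glueSnd φ hw
  haveI := flat_baseChange_of_bijective B' D' B D (EtMil.glueFst D' φ) hB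
  haveI := flat_baseChange_of_bijective B' D' A' C' (EtMil.glueSnd D' φ) hA
  haveI : Module.Flat B' L := EtMil7.flat_of_flat_baseChange_pair hsq L
  haveI : Module.Finite D' L := EtMil7.finite_glue φ hw
  obtain ⟨n, ρ, hρ, hρker⟩ := (inferInstance : Algebra.FinitePresentation D'' D').out
  let P := MvPolynomial (Fin n) D''
  letI : Algebra P D' := ρ.toRingHom.toAlgebra
  haveI : IsScalarTower D'' P D' := .of_algebraMap_eq fun d => (ρ.commutes d).symm
  haveI : IsScalarTower B' P D' := .of_algebraMap_eq fun b => by
    show algebraMap B' D' b = ρ (algebraMap B' P b)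
    rw [IsScalarTower.algebraMap_apply B' D'' P, ρ.commutes, ← IsScalarTower.algebraMap_apply]
  haveI : Module.Flat B' P := Module.Flat.trans B' D'' P
  haveI : Module.FinitePresentation P D' :=
    Module.finitePresentation_of_surjective (Algebra.linearMap P D') hρ hρker
  haveI : Module.Finite P D' := inferInstance
  letI : Module P L := Module.compHom L (algebraMap P D')
  haveI : IsScalarTower P D' L := ⟨fun q d l => by
    show (q • d) • l = algebraMap P D' q • (d • l)
    rw [Algebra.smul_def, mul_smul]⟩
  haveI : IsScalarTower B' P L := ⟨fun b q l => by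
    show algebraMap P D' (b • q) • l = algebraMap B' D' b • (algebraMap P D' q • l)
    rw [Algebra.smul_def, map_mul, ← IsScalarTower.algebraMap_apply, mul_smul]⟩
  haveI : Module.Finite P L := Module.Finite.trans D' L
  obtain ⟨r, π, hπ⟩ := Module.Finite.exists_fin' P L
  obtain ⟨s₁, h₁⟩ := exists_finset_component B' P D' B D (EtMil.glueFst D' φ) hB π hπ
  obtain ⟨s₂, h₂⟩ := exists_finset_component B' P D' A' C' (EtMil.glueSnd D' φ) hA π hπ
  let W : Submodule P (LinearMap.ker π) := Submodule.span P (↑(s₁ ∪ s₂) : Set (LinearMap.ker π))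
  haveI := h₁ W (fun k hk => Submodule.subset_span (by simp [Finset.mem_coe.mp hk]))
  haveI := h₂ W (fun k hk => Submodule.subset_span (by simp [Finset.mem_coe.mp hk]))
  haveI := EtMil7.subsingleton_of_pair hsq (LinearMap.ker π ⧸ W)
  have hWtop : W = ⊤ := Submodule.Quotient.subsingleton_iff.mp inferInstance
  haveI : Module.FinitePresentation P L := Module.finitePresentation_of_surjective π hπ
    (Submodule.fg_top _ |>.mp ⟨s₁ ∪ s₂, hWtop⟩)
  let πD : D' ⊗[P] L →ₗ[D'] L := (LinearMap.id : L →ₗ[P] L).liftBaseChange D'
  have hπD : Function.Surjective πD := fun l => ⟨1 ⊗ₜ l, by simp [πD]⟩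
  have hinj : Function.Injective πD := by
    refine (injective_iff_map_eq_zero πD).mpr fun z hz => ?_
    obtain ⟨l, rfl⟩ : ∃ l : L, z = (1 : D') ⊗ₜ[P] l := by
      clear hz
      induction z with
      | zero => exact ⟨0, by simp⟩
      | add a b ha hb => obtain ⟨x, rfl⟩ := ha; obtain ⟨y, rfl⟩ := hb; exact ⟨x + y, by rw [tmul_add]⟩
      | tmul d l =>
        obtain ⟨q, rfl⟩ := hρ d
        exact ⟨q • l, by rw [← smul_tmul, Algebra.smul_def, mul_one]; rfl⟩
    simp only [πD, LinearMap.liftBaseChange_tmul, one_smul, LinearMap.id_apply] at hz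
    rw [hz, tmul_zero]
  exact Module.FinitePresentation.of_equiv (LinearEquiv.ofBijective πD ⟨hinj, hπD⟩)

end Groth.Agent.HensEt88
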