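import Mathlib

/-!
# Unramifiedness of the inertia ring at the distinguished prime
-/

set_option autoImplicit false
set_option linter.style.haveILetI false

namespace Groth.Agent.HensEt88

universe u

open TensorProduct

variable {A K L B B' : Type u} [CommRing A] [IsDomain A] [Field K] [Field L] [Algebra A K] [IsFractionRing A K]
  [Algebra K L] [Algebra A L] [IsScalarTower A K L] [CommRing B] [Algebra A B] [Algebra B L] [IsScalarTower A B L]
  [CommRing B'] [Algebra A B'] [Algebra B' B] [IsScalarTower A B' B] [Algebra B' L] [IsScalarTower B' B L]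
  [IsScalarTower A B' L]

/-- The map `B ⊗[A] B' → L` attached to an automorphism. -/
noncomputable abbrev galEval (σ : L ≃ₐ[K] L) : B ⊗[A] B' →ₐ[A] L :=
  Algebra.TensorProduct.lift (IsScalarTower.toAlgHom A B L)
    ((σ.toAlgHom.restrictScalars A).comp (IsScalarTower.toAlgHom A B' L)) fun _ _ => Commute.all _ _

/-- The evaluations at all automorphisms separate the points of `B ⊗[A] B'`. -/
theorem eq_zero_of_forall_galEval [FiniteDimensional K L] [IsGalois K L] [Module.Free A B'] [Module.Finite A B']
    (hB : Function.Injective (algebraMap B L)) (hB' : Function.Injective (algebraMap B' L))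
    (x : B ⊗[A] B') (hx : ∀ σ : L ≃ₐ[K] L, galEval σ x = 0) : x = 0 := by
  classical
  let e := Module.Free.chooseBasis A B'
  let eB := Algebra.TensorProduct.basis B e
  apply eB.ext_elem
  intro i
  rw [map_zero, Finsupp.zero_apply]
  apply hB
  rw [map_zero]
  have hli : LinearIndependent A fun j => algebraMap B' L (e j) :=
    e.linearIndependent.map' (IsScalarTower.toAlgHom A B' L).toLinearMap (LinearMap.ker_eq_bot.mpr hB')
  have hliK := hli.localization K (nonZeroDivisors A)
  let b := Module.Basis.sumExtend hliK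
  haveI := FiniteDimensional.fintypeBasisIndex b
  have hb : ∀ j, b (Sum.inl j) = algebraMap B' L (e j) := fun j => by
    simp [b, Module.Basis.sumExtend]
    rfl
  let d := b.traceDual
  have hd : ∀ j, Algebra.trace K L (d (Sum.inl i) * algebraMap B' L (e j)) = if j = i then 1 else 0 := fun j => by
    rw [← hb]
    simp [d, Module.Basis.trace_traceDual_mul]
  have h1 : ∀ σ : L ≃ₐ[K] L, ∑ j, algebraMap B L (eB.repr x j) * σ (algebraMap B' L (e j)) = 0 := fun σ => by
    rw [← hx σ]
    conv_rhs => rw [← eB.sum_repr x]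
    rw [map_sum]
    refine Finset.sum_congr rfl fun j _ => ?_
    simp [eB, TensorProduct.smul_tmul']
  have h2 : ∑ j, algebraMap B L (eB.repr x j) *
      algebraMap K L (Algebra.trace K L (d (Sum.inl i) * algebraMap B' L (e j))) = 0 := by
    simp only [trace_eq_sum_automorphisms, map_mul, Finset.mul_sum]
    rw [Finset.sum_comm]
    refine Finset.sum_eq_zero fun σ _ => ?_
    calc ∑ j, algebraMap B L (eB.repr x j) * (σ (d (Sum.inl i)) * σ (algebraMap B' L (e j)))
        = σ (d (Sum.inl i)) * ∑ j, algebraMap B L (eB.repr x j) * σ (algebraMap B' L (e j)) := by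
          rw [Finset.mul_sum]; exact Finset.sum_congr rfl fun j _ => by ring
      _ = 0 := by rw [h1, mul_zero]
  simpa [hd, apply_ite (algebraMap K L)] using h2

section Diagonal

variable (k : Type u) [CommRing k] [Algebra B k] [Algebra B' k] [IsScalarTower B' B k] [Algebra A k]
  [IsScalarTower A B k] [IsScalarTower A B' k]

omit [IsDomain A] [Field K] [Field L] in
/-- An element of `B ⊗[A] B'` killing the diagonal ideal and not vanishing at a point kills the cotangent space. -/
theorem tmul_D_eq_zero_of_mul_eq_zero (s : B ⊗[A] B') (c : B')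
    (hs : s * ((1 : B) ⊗ₜ[A] c - algebraMap B' B c ⊗ₜ[A] (1 : B')) = 0)
    (hu : IsUnit (Algebra.TensorProduct.lift (IsScalarTower.toAlgHom A B k) (IsScalarTower.toAlgHom A B' k)
      (fun _ _ => Commute.all _ _) s)) :
    (1 : k) ⊗ₜ[B'] KaehlerDifferential.D A B' c = 0 := by
  let ψ : B ⊗[A] B' →ₐ[A] k := Algebra.TensorProduct.lift (IsScalarTower.toAlgHom A B k)
    (IsScalarTower.toAlgHom A B' k) (fun _ _ => Commute.all _ _)
  let δ : B ⊗[A] B' →ₗ[A] k ⊗[B'] Ω[B'⁄A] := TensorProduct.lift
    (LinearMap.mk₂ A (fun (r : B) (b : B') => algebraMap B k r • ((1 : k) ⊗ₜ[B'] KaehlerDifferential.D A B' b))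
      (fun r₁ r₂ b => by rw [map_add, add_smul])
      (fun a r b => by rw [Algebra.smul_def, map_mul, ← IsScalarTower.algebraMap_apply A B k, mul_smul,
        algebraMap_smul])
      (fun r b₁ b₂ => by rw [map_add, TensorProduct.tmul_add, smul_add])
      (fun a r b => by rw [Derivation.map_smul, TensorProduct.tmul_smul, smul_comm]))
  have hδ : ∀ r b, δ (r ⊗ₜ[A] b) = algebraMap B k r • ((1 : k) ⊗ₜ[B'] KaehlerDifferential.D A B' b) := fun r b => rfl
  have key : ∀ t, δ (t * ((1 : B) ⊗ₜ[A] c - algebraMap B' B c ⊗ₜ[A] (1 : B'))) =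
      ψ t • ((1 : k) ⊗ₜ[B'] KaehlerDifferential.D A B' c) := fun t => by
    induction t with
    | zero => simp
    | add t₁ t₂ h₁ h₂ => rw [add_mul, map_add, h₁, h₂, map_add, add_smul]
    | tmul r b =>
      rw [mul_sub, Algebra.TensorProduct.tmul_mul_tmul, Algebra.TensorProduct.tmul_mul_tmul, map_sub, hδ, hδ,
        mul_one, mul_one, Algebra.TensorProduct.lift_tmul, Derivation.leibniz, map_mul, TensorProduct.tmul_add,
        TensorProduct.tmul_smul, TensorProduct.tmul_smul, ← IsScalarTower.algebraMap_apply B' B k,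
        ← algebraMap_smul k b, ← algebraMap_smul k c, smul_add, smul_smul, smul_smul]
      simp only [IsScalarTower.toAlgHom_apply]
      abel
  have h0 := key s
  rw [hs, map_zero] at h0
  exact (IsUnit.smul_eq_zero hu).mp h0.symm

end Diagonal

end Groth.Agent.HensEt88
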