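import Groth.Agent.HensEt88.ArtinSchreierReduce
import Groth.Agent.EGA41Lib.FieldFS

/-!
# Perturbing a purely inseparable equation of degree `p`
-/

set_option autoImplicit false
set_option linter.style.haveILetI false
set_option linter.unusedSectionVars false

namespace Groth.Agent.HensEt88

universe u

open IsLocalRing Polynomial TensorProduct

section Comap

variable {L F : Type u} [Field L] [Field F] (W : ValuationSubring F) (f : L →+* F)

/-- Comparison of valuations along a comap. -/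
theorem comap_valuation_le_iff (a b : L) :
    (W.comap f).valuation a ≤ (W.comap f).valuation b ↔ W.valuation (f a) ≤ W.valuation (f b) := by
  rcases eq_or_ne b 0 with rfl | hb
  · simp
  have h1 : ∀ {E : Type u} [Field E] (V : ValuationSubring E) (x y : E), y ≠ 0 →
      (V.valuation x ≤ V.valuation y ↔ x / y ∈ V) := fun V x y hy => by
    rw [← V.valuation_le_one_iff, map_div₀, div_le_one₀ (zero_lt_iff.mpr ((_root_.map_ne_zero V.valuation).mpr hy))]
  rw [h1 _ a b hb, h1 _ (f a) (f b) ((_root_.map_ne_zero f).mpr hb), ← map_div₀]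
  rfl

theorem comap_valuation_lt_iff (a b : L) :
    (W.comap f).valuation a < (W.comap f).valuation b ↔ W.valuation (f a) < W.valuation (f b) := by
  rw [← not_le, ← not_le, comap_valuation_le_iff]

theorem comap_valuation_eq_iff (a b : L) :
    (W.comap f).valuation a = (W.comap f).valuation b ↔ W.valuation (f a) = W.valuation (f b) := by
  rw [le_antisymm_iff, le_antisymm_iff, comap_valuation_le_iff, comap_valuation_le_iff]

theorem le_one_of_comap {a : L} (h : (W.comap f).valuation a ≤ 1) : W.valuation (f a) ≤ 1 := by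
  rw [← map_one (W.comap f).valuation, comap_valuation_le_iff, map_one, map_one] at h
  exact h

end Comap

/-- Geometric reducedness is invariant under compatible isomorphisms. -/
theorem isGeometricallyReduced_of_iso {k₁ k₂ L T : Type u} [Field k₁] [Field k₂] [Field L] [Field T]
    [Algebra k₁ L] [Algebra k₂ T] (ek : k₁ ≃+* k₂) (eS : L ≃+* T)
    (h : ∀ x, eS (algebraMap k₁ L x) = algebraMap k₂ T (ek x)) (hT : Algebra.IsGeometricallyReduced k₂ T) :
    Algebra.IsGeometricallyReduced k₁ L := by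
  letI : Algebra k₁ k₂ := ek.toRingHom.toAlgebra
  letI : Algebra k₂ L := (eS.symm.toRingHom.comp (algebraMap k₂ T)).toAlgebra
  haveI : IsScalarTower k₁ k₂ L := IsScalarTower.of_algebraMap_eq fun x =>
    (eS.symm_apply_apply _).symm.trans (congrArg eS.symm (h x))
  let f : L ≃ₐ[k₂] T := AlgEquiv.ofRingEquiv (f := eS) fun x => eS.apply_symm_apply _
  haveI : Algebra.IsGeometricallyReduced k₂ L :=
    Algebra.IsGeometricallyReduced.of_injective f.toAlgHom f.injective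
  haveI := EGA41Lib.FieldFS.formallySmooth_of_isGeometricallyReduced k₂ L
  haveI : Algebra.FormallySmooth k₁ k₂ :=
    Algebra.FormallySmooth.of_equiv (AlgEquiv.ofBijective (Algebra.ofId k₁ k₂) ek.bijective)
  haveI := Algebra.FormallySmooth.comp k₁ k₂ L
  exact EGA41Lib.FieldFS.isGeometricallyReduced_of_formallySmooth k₁ L

/-- The data comparing `y ^ p = a` with `x ^ p = a + c x` over a valued field. -/
structure Perturbation (p : ℕ) {Φ F₂ F₃ : Type u} [Field Φ] [Field F₂] [Field F₃] (W₁ : ValuationSubring Φ)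
    (g₂ : Φ →+* F₂) (g₃ : Φ →+* F₃) (W₂ : ValuationSubring F₂) (W₃ : ValuationSubring F₃) (y : F₂) (x : F₃) : Prop where
  comap₂ : W₂.comap g₂ = W₁
  comap₃ : W₃.comap g₃ = W₁
  span : ∀ z : F₂, ∃ m : Fin p → Φ, ∑ i, g₂ (m i) * y ^ (i : ℕ) = z
  indep : ∀ m : Fin p → Φ, ∑ i, g₂ (m i) * y ^ (i : ℕ) = 0 → ∀ i, m i = 0
  approx : ∃ a c ϖ π : Φ, ∃ k : ℕ, y ^ p = g₂ a ∧ x ^ p = g₃ a + g₃ c * x ∧ W₁.valuation a ≤ 1 ∧
    ϖ ≠ 0 ∧ W₁.valuation ϖ < 1 ∧ W₁.valuation π ≤ W₁.valuation ϖ ∧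
    W₁.valuation c ≤ W₁.valuation π ^ (p * k + p + 1) ∧
    (∀ w : Φ, w ≠ 0 → ∃ j : ℤ, W₁.valuation w = W₁.valuation ϖ ^ j) ∧
    ∀ m : Fin p → Φ, W₁.valuation (∑ i, m i ^ p * a ^ (i : ℕ)) ≤ 1 → ∀ i, W₁.valuation (m i) * W₁.valuation π ^ k ≤ 1

namespace Perturbation

variable {p : ℕ} {Φ F₂ F₃ : Type u} [Field Φ] [Field F₂] [Field F₃] {W₁ : ValuationSubring Φ}
  {g₂ : Φ →+* F₂} {g₃ : Φ →+* F₃} {W₂ : ValuationSubring F₂} {W₃ : ValuationSubring F₃} {y : F₂} {x : F₃}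

/-- The isometry between the two sides. -/
theorem isometry [Fact p.Prime] [CharP Φ p] (h : Perturbation p W₁ g₂ g₃ W₂ W₃ y x) (m : Fin p → Φ) :
    ∃ P : Φ, (∑ i, g₂ (m i) * y ^ (i : ℕ)) ^ p = g₂ P ∧
      W₃.valuation (∑ i, g₃ (m i) * x ^ (i : ℕ)) ^ p = W₃.valuation (g₃ P) ∧
      (W₁.valuation P ≤ 1 → W₃.valuation ((∑ i, g₃ (m i) * x ^ (i : ℕ)) ^ p - g₃ P) < 1) ∧
      (P = 0 → ∀ i, m i = 0) := by
  have hp : p.Prime := Fact.out
  haveI : CharP F₂ p := charP_of_injective_ringHom g₂.injective p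
  haveI : CharP F₃ p := charP_of_injective_ringHom g₃.injective p
  obtain ⟨a, c, ϖ, π, k, hy, hx, ha, hϖ0, hϖ1, hπ, hc, hval, hbound⟩ := h.approx
  have hle : ∀ u v : Φ, W₁.valuation u ≤ W₁.valuation v → W₃.valuation (g₃ u) ≤ W₃.valuation (g₃ v) := by
    intro u v huv
    rw [← comap_valuation_le_iff, h.comap₃]; exact huv
  have hle1 : ∀ u : Φ, W₁.valuation u ≤ 1 → W₃.valuation (g₃ u) ≤ 1 := fun u hu => by
    have := hle u 1 (by rwa [map_one])
    rwa [map_one, map_one] at this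
  have hP : ∀ m : Fin p → Φ, (∑ i, g₂ (m i) * y ^ (i : ℕ)) ^ p = g₂ (∑ i, m i ^ p * a ^ (i : ℕ)) := fun m => by
    rw [sum_pow_char, map_sum]
    refine Finset.sum_congr rfl fun i _ => ?_
    rw [map_mul, map_pow, map_pow, mul_pow, ← pow_mul, mul_comm (i : ℕ), pow_mul, hy]
  have hzero : ∀ m : Fin p → Φ, ∑ i, m i ^ p * a ^ (i : ℕ) = 0 → ∀ i, m i = 0 := fun m h0 => h.indep m (by
    have h1 := hP m
    rw [h0, map_zero] at h1
    exact eq_zero_of_pow_eq_zero h1)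
  have hπ1 : W₁.valuation π < 1 := hπ.trans_lt hϖ1
  have hc1 : W₁.valuation c ≤ 1 := hc.trans (pow_le_one₀ zero_le hπ1.le)
  have hx1 : x ∈ W₃ := by
    rw [← W₃.valuation_le_one_iff]
    by_contra hlt
    rw [not_le] at hlt
    have h1 : W₃.valuation (g₃ a + g₃ c * x) < W₃.valuation x ^ p := by
      refine (W₃.valuation.map_add _ _).trans_lt (max_lt ((hle1 a ha).trans_lt (one_lt_pow₀ hlt hp.ne_zero)) ?_)
      rw [map_mul]
      exact (mul_le_of_le_one_left' (hle1 c hc1)).trans_lt (lt_self_pow₀ hlt hp.one_lt)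
    rw [← hx, map_pow] at h1
    exact lt_irrefl _ h1
  have hclose : ∀ m : Fin p → Φ, W₁.valuation (∑ i, m i ^ p * a ^ (i : ℕ)) ≤ 1 →
      W₃.valuation ((∑ i, g₃ (m i) * x ^ (i : ℕ)) ^ p - g₃ (∑ i, m i ^ p * a ^ (i : ℕ))) ≤ W₃.valuation (g₃ π) ^ (p + 1) := by
    intro m hm
    rw [sum_pow_char, map_sum, ← Finset.sum_sub_distrib]
    refine W₃.valuation.map_sum_le fun i _ => ?_
    have hA : g₃ a + g₃ c * x ∈ W₃ :=
      add_mem ((W₃.valuation_le_one_iff _).mp (hle1 a ha)) (mul_mem ((W₃.valuation_le_one_iff _).mp (hle1 c hc1)) hx1)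
    obtain ⟨q, hq⟩ := sub_dvd_pow_sub_pow (⟨g₃ a + g₃ c * x, hA⟩ : W₃)
      ⟨g₃ a, (W₃.valuation_le_one_iff _).mp (hle1 a ha)⟩ (i : ℕ)
    have hq' := congrArg Subtype.val hq
    simp only [AddSubgroupClass.coe_sub, SubmonoidClass.coe_pow, MulMemClass.coe_mul, add_sub_cancel_left] at hq'
    rw [mul_pow, ← pow_mul, mul_comm (i : ℕ), pow_mul, hx, map_mul, map_pow, map_pow, ← mul_sub, hq', map_mul, map_mul,
      map_mul, map_pow]
    have h1 : W₃.valuation (g₃ (m i)) ^ p * W₃.valuation (g₃ π) ^ (p * k) ≤ 1 := by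
      have h2 := hle1 (m i * π ^ k) (by rw [map_mul, map_pow]; exact hbound m hm i)
      rw [map_mul, map_pow, map_mul, map_pow] at h2
      rw [mul_comm p k, pow_mul, ← mul_pow]
      exact pow_le_one₀ zero_le h2
    have h2 : W₃.valuation (g₃ c) ≤ W₃.valuation (g₃ π) ^ (p * k) * W₃.valuation (g₃ π) ^ (p + 1) := by
      rw [← pow_add, ← map_pow, ← map_pow, show p * k + (p + 1) = p * k + p + 1 by ring]
      exact hle _ _ (by rw [map_pow]; exact hc)
    calc W₃.valuation (g₃ (m i)) ^ p * (W₃.valuation (g₃ c) * W₃.valuation x * W₃.valuation (q : F₃))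
        ≤ W₃.valuation (g₃ (m i)) ^ p * (W₃.valuation (g₃ π) ^ (p * k) * W₃.valuation (g₃ π) ^ (p + 1) * 1 * 1) := by
          gcongr
          · exact (W₃.valuation_le_one_iff _).mpr hx1
          · exact (W₃.valuation_le_one_iff _).mpr q.2
      _ = W₃.valuation (g₃ (m i)) ^ p * W₃.valuation (g₃ π) ^ (p * k) * W₃.valuation (g₃ π) ^ (p + 1) := by
          rw [mul_one, mul_one, mul_assoc]
      _ ≤ _ := mul_le_of_le_one_left' h1
  have hπϖ : W₃.valuation (g₃ π) ≤ W₃.valuation (g₃ ϖ) := hle _ _ hπ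
  have hϖ3 : W₃.valuation (g₃ ϖ) < 1 := by
    have := (comap_valuation_lt_iff W₃ g₃ ϖ 1).mp (by rw [h.comap₃, map_one]; exact hϖ1)
    rwa [map_one, map_one] at this
  refine ⟨_, hP m, ?_, fun hm => (hclose m hm).trans_lt (pow_lt_one₀ zero_le (hπϖ.trans_lt hϖ3) (Nat.succ_ne_zero p)),
    hzero m⟩
  rcases eq_or_ne (∑ i, m i ^ p * a ^ (i : ℕ)) 0 with h0 | h0
  · rw [h0, map_zero, map_zero]
    simp [hzero m h0, zero_pow hp.ne_zero]
  obtain ⟨n, hn⟩ := hval _ h0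
  let j := n / (p : ℤ)
  obtain ⟨i₀, hi₀⟩ := Int.eq_ofNat_of_zero_le (Int.emod_nonneg n (by exact_mod_cast hp.ne_zero : (p : ℤ) ≠ 0))
  have hi₀p : i₀ < p := by
    have := Int.emod_lt_of_pos n (show (0 : ℤ) < p by exact_mod_cast hp.pos)
    omega
  have hvϖ0 : W₁.valuation ϖ ≠ 0 := (_root_.map_ne_zero W₁.valuation).mpr hϖ0
  let m₀ : Fin p → Φ := fun i => m i / ϖ ^ j
  have hP₀ : ∑ i, m₀ i ^ p * a ^ (i : ℕ) = (∑ i, m i ^ p * a ^ (i : ℕ)) / (ϖ ^ j) ^ p := by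
    rw [Finset.sum_div]
    exact Finset.sum_congr rfl fun i _ => by simp only [m₀, div_pow]; ring
  have hv₀ : W₁.valuation (∑ i, m₀ i ^ p * a ^ (i : ℕ)) = W₁.valuation (ϖ ^ i₀) := by
    rw [hP₀, map_div₀, map_pow, map_zpow₀, hn, map_pow, div_eq_iff (pow_ne_zero _ (zpow_ne_zero _ hvϖ0)),
      ← zpow_natCast, ← zpow_natCast, ← zpow_mul, ← zpow_add₀ hvϖ0]
    congr 1
    have := Int.emod_add_mul_ediv n (p : ℤ)
    simp only [j]
    rw [← hi₀]
    linarith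
  have hv3 : W₃.valuation (g₃ (∑ i, m₀ i ^ p * a ^ (i : ℕ))) = W₃.valuation (g₃ ϖ) ^ i₀ := by
    rw [← map_pow W₃.valuation, ← map_pow g₃, ← comap_valuation_eq_iff, h.comap₃]; exact hv₀
  have hd := hclose m₀ (by rw [hv₀, map_pow]; exact pow_le_one₀ zero_le hϖ1.le)
  have hlt : W₃.valuation (g₃ π) ^ (p + 1) < W₃.valuation (g₃ ϖ) ^ i₀ :=
    (pow_le_pow_left₀ zero_le hπϖ _).trans_lt (pow_lt_pow_right_of_lt_one₀
      (zero_lt_iff.mpr ((_root_.map_ne_zero W₃.valuation).mpr ((_root_.map_ne_zero g₃).mpr hϖ0))) hϖ3 (by omega))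
  have heq : W₃.valuation ((∑ i, g₃ (m₀ i) * x ^ (i : ℕ)) ^ p) = W₃.valuation (g₃ (∑ i, m₀ i ^ p * a ^ (i : ℕ))) := by
    have := W₃.valuation.map_add_eq_of_lt_left (x := g₃ (∑ i, m₀ i ^ p * a ^ (i : ℕ)))
      (y := (∑ i, g₃ (m₀ i) * x ^ (i : ℕ)) ^ p - g₃ (∑ i, m₀ i ^ p * a ^ (i : ℕ))) (by rw [hv3]; exact hd.trans_lt hlt)
    rwa [add_sub_cancel] at this
  have hscale : ∑ i, g₃ (m i) * x ^ (i : ℕ) = g₃ (ϖ ^ j) * ∑ i, g₃ (m₀ i) * x ^ (i : ℕ) := by
    rw [Finset.mul_sum]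
    refine Finset.sum_congr rfl fun i _ => ?_
    simp only [m₀]
    rw [map_div₀, ← mul_assoc, mul_div_cancel₀ _ ((_root_.map_ne_zero g₃).mpr (zpow_ne_zero _ hϖ0))]
  rw [hscale, map_mul, mul_pow, ← map_pow W₃.valuation (∑ i, g₃ (m₀ i) * x ^ (i : ℕ)), heq, ← map_pow, ← map_pow,
    ← map_mul, ← map_mul, hP₀, mul_div_cancel₀ _ (pow_ne_zero _ (zpow_ne_zero _ hϖ0))]

theorem valuation₂ (h : Perturbation p W₁ g₂ g₃ W₂ W₃ y x) {z z' : F₂} {P P' : Φ}
    (hz : z ^ p = g₂ P) (hz' : z' ^ p = g₂ P') (hp : p ≠ 0) :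
    W₂.valuation z ≤ W₂.valuation z' ↔ W₁.valuation P ≤ W₁.valuation P' := by
  rw [← h.comap₂, comap_valuation_le_iff, ← hz, ← hz', map_pow, map_pow, pow_le_pow_iff_left₀ zero_le zero_le hp]

/-- Solutions pass along a perturbation. -/
theorem solution_transfer [Fact p.Prime] [CharP Φ p] (h : Perturbation p W₁ g₂ g₃ W₂ W₃ y x)
    (hspan₃ : ∀ z : F₃, ∃ m : Fin p → Φ, ∑ i, g₃ (m i) * x ^ (i : ℕ) = z)
    {J E₂ E₃ : Type u} [Field J] [Field E₂] [Field E₃] (ι : J →+* Φ) (f₂ : E₂ →+* F₂) (f₃ : E₃ →+* F₃)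
    (hE₂ : ∀ e, ∃ m : Fin p → J, f₂ e = ∑ i, g₂ (ι (m i)) * y ^ (i : ℕ))
    (hE₂' : ∀ m : Fin p → J, ∃ e, f₂ e = ∑ i, g₂ (ι (m i)) * y ^ (i : ℕ))
    (hE₃ : ∀ e, ∃ m : Fin p → J, f₃ e = ∑ i, g₃ (ι (m i)) * x ^ (i : ℕ))
    (hE₃' : ∀ m : Fin p → J, ∃ e, f₃ e = ∑ i, g₃ (ι (m i)) * x ^ (i : ℕ))
    (hw : letI : Algebra (W₂.comap f₂) W₂ := (EtRam.inclOfComap W₂ f₂).toAlgebra
      EtRam.IsWeaklyUnramified (W₂.comap f₂) W₂)
    (hval₂ : ∀ z : F₂, z ≠ 0 → ∃ e, W₂.valuation (f₂ e) = W₂.valuation z)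
    (hg : @Algebra.IsGeometricallyReduced (ResidueField (W₂.comap f₂)) (ResidueField W₂) _ _
      (ResidueField.map (EtRam.inclOfComap W₂ f₂)).toAlgebra) :
    (letI : Algebra (W₃.comap f₃) W₃ := (EtRam.inclOfComap W₃ f₃).toAlgebra;
      EtRam.IsWeaklyUnramified (W₃.comap f₃) W₃) ∧
    @Algebra.IsGeometricallyReduced (ResidueField (W₃.comap f₃)) (ResidueField W₃) _ _
      (ResidueField.map (EtRam.inclOfComap W₃ f₃)).toAlgebra := by
  classical
  have hp : p.Prime := Fact.out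
  haveI : CharP F₂ p := charP_of_injective_ringHom g₂.injective p
  haveI : CharP F₃ p := charP_of_injective_ringHom g₃.injective p
  choose co hco using h.span
  let φ : F₂ → F₃ := fun z => ∑ i, g₃ (co z i) * x ^ (i : ℕ)
  have hφ : ∀ m : Fin p → Φ, φ (∑ i, g₂ (m i) * y ^ (i : ℕ)) = ∑ i, g₃ (m i) * x ^ (i : ℕ) := fun m => by
    refine Finset.sum_congr rfl fun i _ => ?_
    have h0 := h.indep (fun i => co (∑ i, g₂ (m i) * y ^ (i : ℕ)) i - m i) (by
      simp only [map_sub, sub_mul, Finset.sum_sub_distrib, hco, sub_self]) i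
    rw [sub_eq_zero.mp h0]
  have hφadd : ∀ z z', φ (z + z') = φ z + φ z' := fun z z' => by
    conv_lhs => rw [← hco z, ← hco z', ← Finset.sum_add_distrib]
    rw [show (∑ i, (g₂ (co z i) * y ^ (i : ℕ) + g₂ (co z' i) * y ^ (i : ℕ))) =
      ∑ i, g₂ (co z i + co z' i) * y ^ (i : ℕ) by simp [add_mul], hφ]
    simp [φ, add_mul, Finset.sum_add_distrib]
  choose Pz hPz₂ hPz₃ hPzc hPz0 using fun z => h.isometry (co z)
  simp only [hco] at hPz₂
  have hone2 : (1 : F₂) ^ p = g₂ 1 := by simp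
  -- comparison of valuations
  have hiso : ∀ z z', W₂.valuation z ≤ W₂.valuation z' ↔ W₃.valuation (φ z) ≤ W₃.valuation (φ z') := fun z z' => by
    rw [h.valuation₂ (hPz₂ z) (hPz₂ z') hp.ne_zero, ← pow_le_pow_iff_left₀ (zero_le (a := W₃.valuation (φ z)))
      zero_le hp.ne_zero, hPz₃, hPz₃, ← comap_valuation_le_iff, h.comap₃]
  have hiso1 : ∀ z, W₂.valuation z ≤ 1 ↔ W₃.valuation (φ z) ≤ 1 := fun z => by
    rw [← map_one W₂.valuation, h.valuation₂ (hPz₂ z) hone2 hp.ne_zero,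
      ← pow_le_one_iff (x := W₃.valuation (φ z)) hp.ne_zero, hPz₃, ← h.comap₃, comap_valuation_le_iff, map_one, map_one]
  have hiso1' : ∀ z, W₂.valuation z < 1 ↔ W₃.valuation (φ z) < 1 := fun z => by
    have h2 : W₂.valuation z < 1 ↔ W₁.valuation (Pz z) < 1 := by
      rw [← map_one W₂.valuation, ← not_le, h.valuation₂ hone2 (hPz₂ z) hp.ne_zero, map_one, not_le]
    have h3 : (W₃.valuation (φ z) < 1 ↔ W₃.valuation (φ z) ^ p < 1) := (pow_lt_one_iff hp.ne_zero).symm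
    rw [h2, h3, hPz₃, ← h.comap₃, ← map_one (W₃.comap g₃).valuation, comap_valuation_lt_iff, map_one, map_one]
  have hφE : ∀ e, ∃ e', f₃ e' = φ (f₂ e) := fun e => by
    obtain ⟨m, hm⟩ := hE₂ e
    obtain ⟨e', he'⟩ := hE₃' m
    exact ⟨e', by rw [he', hm, hφ]⟩
  have hφE' : ∀ e', ∃ e, f₃ e' = φ (f₂ e) := fun e' => by
    obtain ⟨m, hm⟩ := hE₃ e'
    obtain ⟨e, he⟩ := hE₂' m
    exact ⟨e, by rw [hm, he, hφ]⟩
  refine ⟨isWeaklyUnramified_of_valuation f₃ fun ζ hζ => ?_, ?_⟩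
  · obtain ⟨m, rfl⟩ := hspan₃ ζ
    obtain ⟨e, he⟩ := hval₂ (∑ i, g₂ (m i) * y ^ (i : ℕ)) (fun h0 => hζ (by simp [h.indep m h0]))
    obtain ⟨e', he'⟩ := hφE e
    refine ⟨e', ?_⟩
    rw [he', ← hφ]
    exact le_antisymm ((hiso _ _).mp he.le) ((hiso _ _).mp he.ge)
  -- residue fields
  haveI : CharP (ResidueField W₃) p := by
    refine (CharP.charP_iff_prime_eq_zero hp).mpr ?_
    have h0 : (p : W₃) = 0 := Subtype.ext (by push_cast; exact CharP.cast_eq_zero F₃ p)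
    rw [← map_natCast (residue W₃), h0, map_zero]
  let ψ₀ : W₂ → ResidueField W₃ := fun z =>
    residue W₃ ⟨φ (z : F₂), (W₃.valuation_le_one_iff _).mp ((hiso1 _).mp ((W₂.valuation_le_one_iff _).mpr z.2))⟩
  have hPle : ∀ z : W₂, W₁.valuation (Pz (z : F₂)) ≤ 1 := fun z => by
    have := (h.valuation₂ (hPz₂ (z : F₂)) hone2 hp.ne_zero).mp (by rw [map_one]; exact (W₂.valuation_le_one_iff _).mpr z.2)
    rwa [map_one] at this
  have hψP : ∀ z : W₂, ∃ hm : g₃ (Pz (z : F₂)) ∈ W₃, ψ₀ z ^ p = residue W₃ ⟨_, hm⟩ := fun z => by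
    have hm : g₃ (Pz (z : F₂)) ∈ W₃ := (W₃.valuation_le_one_iff _).mp (le_one_of_comap W₃ g₃ (by rw [h.comap₃]; exact hPle z))
    refine ⟨hm, ?_⟩
    rw [← map_pow, ← sub_eq_zero, ← map_sub, residue_eq_zero_iff]
    exact (W₃.valuation_lt_one_iff _).mpr (hPzc _ (hPle z))
  have hPmul : ∀ z z', Pz (z * z') = Pz z * Pz z' := fun z z' => g₂.injective (by
    rw [map_mul, ← hPz₂, ← hPz₂, ← hPz₂, mul_pow])
  have hP1 : Pz 1 = 1 := g₂.injective (by rw [map_one, ← hPz₂, one_pow])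
  let ψ : W₂ →+* ResidueField W₃ :=
    { toFun := ψ₀
      map_one' := frobenius_inj (ResidueField W₃) p (by
        obtain ⟨hm, he⟩ := hψP 1
        rw [frobenius_def, frobenius_def, one_pow, he, ← map_one (residue W₃)]
        exact congrArg _ (Subtype.ext (by simp [hP1])))
      map_mul' := fun z z' => frobenius_inj (ResidueField W₃) p (by
        obtain ⟨hm, he⟩ := hψP (z * z')
        obtain ⟨hm₁, he₁⟩ := hψP z
        obtain ⟨hm₂, he₂⟩ := hψP z'
        rw [frobenius_def, frobenius_def, mul_pow, he, he₁, he₂, ← map_mul]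
        exact congrArg _ (Subtype.ext (by simp [hPmul])))
      map_zero' := by
        show residue W₃ _ = 0
        rw [residue_eq_zero_iff]
        refine (W₃.valuation_lt_one_iff _).mpr ((hiso1' _).mp ?_)
        simp
      map_add' := fun z z' => by
        show residue W₃ _ = residue W₃ _ + residue W₃ _
        rw [← map_add]
        exact congrArg _ (Subtype.ext (hφadd _ _)) }
  haveI : IsLocalHom ψ := ⟨fun z hz => by
    by_contra hu
    refine hz.ne_zero ?_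
    show residue W₃ _ = 0
    rw [residue_eq_zero_iff]
    exact (W₃.valuation_lt_one_iff _).mpr ((hiso1' _).mp ((W₂.valuation_lt_one_iff z).mp hu))⟩
  let Ψ : ResidueField W₂ →+* ResidueField W₃ := ResidueField.lift ψ
  have hΨsurj : Function.Surjective Ψ := fun c => by
    obtain ⟨w, rfl⟩ := residue_surjective c
    obtain ⟨m, hm⟩ := hspan₃ (w : F₃)
    have hz : (∑ i, g₂ (m i) * y ^ (i : ℕ)) ∈ W₂ := (W₂.valuation_le_one_iff _).mp ((hiso1 _).mpr (by
      rw [hφ, hm]; exact (W₃.valuation_le_one_iff _).mpr w.2))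
    refine ⟨residue W₂ ⟨_, hz⟩, ?_⟩
    show residue W₃ _ = residue W₃ w
    exact congrArg _ (Subtype.ext ((hφ m).trans hm))
  let eW : ResidueField W₂ ≃+* ResidueField W₃ := RingEquiv.ofBijective Ψ ⟨Ψ.injective, hΨsurj⟩
  let i₂ := ResidueField.map (EtRam.inclOfComap W₂ f₂)
  let i₃ := ResidueField.map (EtRam.inclOfComap W₃ f₃)
  have hr₁ : ∀ c, ∃ c', i₃ c' = eW (i₂ c) := fun c => by
    obtain ⟨e, rfl⟩ := residue_surjective c
    obtain ⟨e', he'⟩ := hφE (e : E₂)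
    have hmem : e' ∈ W₃.comap f₃ := by
      show f₃ e' ∈ W₃
      rw [he', ← W₃.valuation_le_one_iff]
      exact (hiso1 _).mp ((W₂.valuation_le_one_iff _).mpr e.2)
    exact ⟨residue _ ⟨e', hmem⟩, congrArg (residue W₃) (Subtype.ext he')⟩
  have hr₂ : ∀ c', ∃ c, i₃ c' = eW (i₂ c) := fun c' => by
    obtain ⟨e', rfl⟩ := residue_surjective c'
    obtain ⟨e, he⟩ := hφE' (e' : E₃)
    have hmem : e ∈ W₂.comap f₂ := by
      show f₂ e ∈ W₂
      rw [← W₂.valuation_le_one_iff, hiso1, ← he]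
      exact (W₃.valuation_le_one_iff _).mpr e'.2
    exact ⟨residue _ ⟨e, hmem⟩, congrArg (residue W₃) (Subtype.ext he)⟩
  choose χ hχ using hr₁
  let χh : ResidueField (W₂.comap f₂) →+* ResidueField (W₃.comap f₃) :=
    { toFun := χ
      map_one' := i₃.injective (by rw [hχ]; simp)
      map_mul' := fun a b => i₃.injective (by simp [hχ])
      map_zero' := i₃.injective (by rw [hχ]; simp)
      map_add' := fun a b => i₃.injective (by simp [hχ]) }
  let eU : ResidueField (W₂.comap f₂) ≃+* ResidueField (W₃.comap f₃) := RingEquiv.ofBijective χh ⟨χh.injective, fun c' => by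
    obtain ⟨c, hc⟩ := hr₂ c'
    exact ⟨c, i₃.injective ((hχ c).trans hc.symm)⟩⟩
  letI : Algebra (ResidueField (W₂.comap f₂)) (ResidueField W₂) := i₂.toAlgebra
  letI : Algebra (ResidueField (W₃.comap f₃)) (ResidueField W₃) := i₃.toAlgebra
  refine isGeometricallyReduced_of_iso eU.symm eW.symm (fun c' => eW.injective ?_) hg
  rw [eW.apply_symm_apply]
  show i₃ c' = eW (i₂ (eU.symm c'))
  rw [← hχ]
  exact congrArg i₃ (eU.apply_symm_apply c').symm

end Perturbation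

end Groth.Agent.HensEt88
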