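import Groth.Agent.HensEt88.EisensteinRam
import Groth.Agent.N12Aux.Nagata

/-!
# Purely inseparable steps of prime degree over a discrete valuation ring
-/

set_option autoImplicit false
set_option linter.style.haveILetI false
set_option linter.unusedSectionVars false

namespace Groth.Agent.HensEt88

universe u

open IsLocalRing Polynomial

section Valuation

variable {C M F : Type u} [CommRing C] [IsDomain C] [IsDiscreteValuationRing C] [Field M] [Algebra C M]
  [IsFractionRing C M] [Field F] (g : M →+* F) {W : ValuationSubring F}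

/-- A dominated DVR contains every element of its fraction field landing in the valuation subring. -/
theorem exists_of_map_mem (hW : EtRam.Dominates C (g.comp (algebraMap C M)) W) {m : M} (hm : g m ∈ W) :
    ∃ a : C, algebraMap C M a = m := by
  rcases ValuationRing.isInteger_or_isInteger C m with h | h
  · exact h
  obtain ⟨a, ha⟩ := h
  rcases eq_or_ne m 0 with rfl | hm0
  · exact ⟨0, map_zero _⟩
  by_cases hu : IsUnit a
  · exact ⟨(hu.unit⁻¹ : Cˣ), by
      rw [map_units_inv, IsUnit.unit_spec, ha, inv_inv]⟩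
  · have h1 : W.valuation (g m⁻¹) < 1 := ha ▸ hW.2 a hu
    have h2 : W.valuation (g m) ≤ 1 := (W.valuation_le_one_iff _).mpr hm
    have h3 : W.valuation (g m) * W.valuation (g m⁻¹) = 1 := by
      rw [← map_mul, ← map_mul, mul_inv_cancel₀ hm0, map_one, map_one]
    exact absurd h3 (ne_of_lt ((mul_le_of_le_one_left' h2).trans_lt h1))

theorem valuation_map_unit (hW : EtRam.Dominates C (g.comp (algebraMap C M)) W) (u : Cˣ) :
    W.valuation (g (algebraMap C M u)) = 1 := by
  have h1 : W.valuation (g (algebraMap C M u)) * W.valuation (g (algebraMap C M ↑u⁻¹)) = 1 := by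
    rw [← map_mul, ← map_mul, ← map_mul, Units.mul_inv, map_one, map_one, map_one]
  exact le_antisymm ((W.valuation_le_one_iff _).mpr (hW.1 _))
    (h1.ge.trans (mul_le_of_le_one_right' ((W.valuation_le_one_iff _).mpr (hW.1 _))))

theorem valuation_map_eq_zpow (hW : EtRam.Dominates C (g.comp (algebraMap C M)) W) {c : C} (hc : Irreducible c)
    {m : M} (hm : m ≠ 0) : ∃ k : ℤ, W.valuation (g m) = W.valuation (g (algebraMap C M c)) ^ k := by
  obtain ⟨a, b, hb, rfl⟩ := IsFractionRing.div_surjective (A := C) m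
  have ha : a ≠ 0 := fun h => hm (by rw [h, map_zero, zero_div])
  obtain ⟨i, u, rfl⟩ := IsDiscreteValuationRing.eq_unit_mul_pow_irreducible ha hc
  obtain ⟨j, v, rfl⟩ := IsDiscreteValuationRing.eq_unit_mul_pow_irreducible (nonZeroDivisors.ne_zero hb) hc
  refine ⟨(i : ℤ) - j, ?_⟩
  have hc0 : W.valuation (g (algebraMap C M c)) ≠ 0 :=
    (map_ne_zero W.valuation).mpr ((map_ne_zero g).mpr
      ((map_ne_zero_iff _ (IsFractionRing.injective C M)).mpr hc.ne_zero))
  rw [map_div₀ g, map_div₀ W.valuation, zpow_sub₀ hc0, zpow_natCast, zpow_natCast]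
  simp only [map_mul, map_pow, valuation_map_unit g hW, one_mul]

/-- Valuation of a combination of powers with pairwise distinct valuations. -/
theorem valuation_sum_ramified (hW : EtRam.Dominates C (g.comp (algebraMap C M)) W) {t : C} (ht : Irreducible t)
    {x : F} {p : ℕ} (hp : 0 < p) (hx : W.valuation x ^ p = W.valuation (g (algebraMap C M t))) (a : Fin p → M) :
    ∃ j : Fin p, W.valuation (∑ i, g (a i) * x ^ (i : ℕ)) = W.valuation (g (a j) * x ^ (j : ℕ)) ∧
      ∀ i, W.valuation (g (a i) * x ^ (i : ℕ)) ≤ W.valuation (g (a j) * x ^ (j : ℕ)) := by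
  classical
  have ht0 : W.valuation (g (algebraMap C M t)) ≠ 0 :=
    (map_ne_zero W.valuation).mpr ((map_ne_zero g).mpr
      ((map_ne_zero_iff _ (IsFractionRing.injective C M)).mpr ht.ne_zero))
  have hx0 : W.valuation x ≠ 0 := fun h => ht0 (by rw [← hx, h, zero_pow hp.ne'])
  have hx1 : W.valuation x < 1 := (pow_lt_one_iff hp.ne').mp (hx ▸ hW.2 t ht.not_isUnit)
  obtain ⟨j, -, hj⟩ := Finset.exists_max_image (Finset.univ : Finset (Fin p))
    (fun i => W.valuation (g (a i) * x ^ (i : ℕ))) ⟨⟨0, hp⟩, Finset.mem_univ _⟩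
  refine ⟨j, ?_, fun i => hj i (Finset.mem_univ i)⟩
  rcases eq_or_ne (W.valuation (g (a j) * x ^ (j : ℕ))) 0 with h0 | h0
  · rw [h0]
    refine le_antisymm (W.valuation.map_sum_le fun i hi => ?_) zero_le
    exact h0 ▸ hj i hi
  refine W.valuation.map_sum_eq_of_lt (Finset.mem_univ j) fun i hi => ?_
  have hij : i ≠ j := by simpa using hi
  refine lt_of_le_of_ne (hj i (Finset.mem_univ i)) fun he => hij ?_
  have key : ∀ l : Fin p, W.valuation (g (a l) * x ^ (l : ℕ)) ≠ 0 →
      ∃ k : ℤ, W.valuation (g (a l) * x ^ (l : ℕ)) = W.valuation x ^ ((p : ℤ) * k + l) := by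
    intro l hl
    have hal : a l ≠ 0 := fun h => hl (by rw [h, map_zero, zero_mul, map_zero])
    obtain ⟨k, hk⟩ := valuation_map_eq_zpow g hW ht hal
    refine ⟨k, ?_⟩
    rw [map_mul, map_pow, hk, zpow_add₀ hx0, zpow_mul, zpow_natCast, zpow_natCast, hx]
  obtain ⟨k, hk⟩ := key i (he.symm ▸ h0)
  obtain ⟨l, hl⟩ := key j h0
  have h1 := zpow_right_injective₀ (zero_lt_iff.mpr hx0) hx1.ne (hk.symm.trans (he.trans hl))
  have h2 := congrArg (fun n : ℤ => n % p) h1
  simp only [Int.add_emod, Int.mul_emod_right, zero_add, Int.emod_emod] at h2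
  rw [Int.emod_eq_of_lt (by positivity) (by exact_mod_cast i.2),
    Int.emod_eq_of_lt (by positivity) (by exact_mod_cast j.2)] at h2
  exact Fin.ext (by exact_mod_cast h2)

theorem eq_zero_of_sum_ramified (hW : EtRam.Dominates C (g.comp (algebraMap C M)) W) {t : C} (ht : Irreducible t)
    {x : F} {p : ℕ} (hp : 0 < p) (hx : W.valuation x ^ p = W.valuation (g (algebraMap C M t))) (a : Fin p → M)
    (h : ∑ i, g (a i) * x ^ (i : ℕ) = 0) (i : Fin p) : a i = 0 := by
  have hx0 : x ≠ 0 := fun h0 => (map_ne_zero g).mpr ((map_ne_zero_iff _ (IsFractionRing.injective C M)).mpr ht.ne_zero)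
    (by rw [← W.valuation.zero_iff, ← hx, h0, map_zero, zero_pow hp.ne'])
  obtain ⟨j, hj, hle⟩ := valuation_sum_ramified g hW ht hp hx a
  rw [h, map_zero] at hj
  have h1 := hle i
  rw [← hj, le_zero_iff, map_eq_zero, mul_eq_zero] at h1
  rcases h1 with h1 | h1
  · exact (map_eq_zero g).mp h1
  · exact absurd (eq_zero_of_pow_eq_zero h1) hx0

/-- Valuation of a combination of powers with independent residues. -/
theorem valuation_sum_residual (hW : EtRam.Dominates C (g.comp (algebraMap C M)) W) {z : F} (hz : z ∈ W)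
    {p : ℕ} (hp : 0 < p)
    (hind : ∀ b : Fin p → C, W.valuation (∑ i, g (algebraMap C M (b i)) * z ^ (i : ℕ)) < 1 → ∀ i, b i ∈ maximalIdeal C)
    (a : Fin p → M) :
    ∃ j : Fin p, W.valuation (∑ i, g (a i) * z ^ (i : ℕ)) = W.valuation (g (a j)) ∧
      ∀ i, W.valuation (g (a i)) ≤ W.valuation (g (a j)) := by
  classical
  obtain ⟨j, -, hj⟩ := Finset.exists_max_image (Finset.univ : Finset (Fin p))
    (fun i => W.valuation (g (a i))) ⟨⟨0, hp⟩, Finset.mem_univ _⟩
  refine ⟨j, ?_, fun i => hj i (Finset.mem_univ i)⟩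
  rcases eq_or_ne (a j) 0 with h0 | h0
  · have : ∀ i, a i = 0 := fun i => by
      have h1 := hj i (Finset.mem_univ i)
      rwa [h0, map_zero, map_zero, le_zero_iff, map_eq_zero, map_eq_zero] at h1
    simp [this]
  have hb : ∀ i, ∃ b : C, algebraMap C M b = a i / a j := fun i => exists_of_map_mem g hW (by
    rw [← W.valuation_le_one_iff, map_div₀, map_div₀]
    exact div_le_one_of_le₀ (hj i (Finset.mem_univ i)) zero_le)
  choose b hb using hb
  have hfac : ∑ i, g (a i) * z ^ (i : ℕ) = g (a j) * ∑ i, g (algebraMap C M (b i)) * z ^ (i : ℕ) := by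
    rw [Finset.mul_sum]
    refine Finset.sum_congr rfl fun i _ => ?_
    rw [hb, map_div₀, ← mul_assoc, mul_div_cancel₀ _ ((map_ne_zero g).mpr h0)]
  rw [hfac, map_mul]
  refine mul_right_eq_self₀.mpr (Or.inl (le_antisymm ?_ (not_lt.mp fun hlt => ?_)))
  · rw [W.valuation_le_one_iff]
    exact sum_mem fun i _ => mul_mem (hW.1 _) (pow_mem hz _)
  · have h1 := hW.2 _ (hind b hlt j)
    rw [RingHom.comp_apply, hb, div_self h0, map_one, map_one] at h1
    exact lt_irrefl _ h1

theorem eq_zero_of_sum_residual (hW : EtRam.Dominates C (g.comp (algebraMap C M)) W) {z : F} (hz : z ∈ W)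
    {p : ℕ} (hp : 0 < p)
    (hind : ∀ b : Fin p → C, W.valuation (∑ i, g (algebraMap C M (b i)) * z ^ (i : ℕ)) < 1 → ∀ i, b i ∈ maximalIdeal C)
    (a : Fin p → M) (h : ∑ i, g (a i) * z ^ (i : ℕ) = 0) (i : Fin p) : a i = 0 := by
  obtain ⟨j, hj, hle⟩ := valuation_sum_residual g hW hz hp hind a
  rw [h, map_zero] at hj
  have h1 := hle i
  rwa [← hj, le_zero_iff, map_eq_zero, map_eq_zero] at h1

/-- Residual independence from an irreducible equation of the residue. -/
theorem residual_independent (hW : EtRam.Dominates C (g.comp (algebraMap C M)) W) {p : ℕ} (hp : p.Prime)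
    {z : F} (hz : z ∈ W) (w : C) (hzw : W.valuation (z ^ p - g (algebraMap C M w)) < 1)
    (hw : ∀ r : C, residue C r ^ p ≠ residue C w) (b : Fin p → C)
    (h : W.valuation (∑ i, g (algebraMap C M (b i)) * z ^ (i : ℕ)) < 1) (i : Fin p) : b i ∈ maximalIdeal C := by
  classical
  let φ : C →+* W := (g.comp (algebraMap C M)).codRestrict W hW.1
  haveI : IsLocalHom φ := Dominates.isLocalHom hW
  letI : Algebra (ResidueField C) (ResidueField W) := (ResidueField.map φ).toAlgebra
  have hφ : ∀ r, algebraMap (ResidueField C) (ResidueField W) (residue C r) = residue W (φ r) := fun r => rfl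
  have hirr : Irreducible (X ^ p - Polynomial.C (residue C w)) := X_pow_sub_C_irreducible_of_prime hp fun r hr => by
    obtain ⟨r, rfl⟩ := residue_surjective r
    exact hw r hr
  let ζ : ResidueField W := residue W ⟨z, hz⟩
  have hζ : aeval ζ (X ^ p - Polynomial.C (residue C w)) = 0 := by
    rw [map_sub, map_pow, aeval_X, aeval_C, hφ, ← map_pow, ← map_sub, residue_eq_zero_iff]
    exact (W.valuation_lt_one_iff _).mpr hzw
  have hmin := minpoly.eq_of_irreducible_of_monic hirr hζ (monic_X_pow_sub_C _ hp.ne_zero)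
  let Q : (ResidueField C)[X] := ∑ k : Fin p, Polynomial.C (residue C (b k)) * X ^ (k : ℕ)
  have hQ : aeval ζ Q = 0 := by
    have h1 : residue W (∑ k : Fin p, φ (b k) * ⟨z, hz⟩ ^ (k : ℕ)) = 0 := by
      rw [residue_eq_zero_iff]
      refine (W.valuation_lt_one_iff _).mpr ?_
      simpa [φ] using h
    rw [map_sum] at h1 ⊢
    simpa only [ζ, hφ, map_mul, map_pow, aeval_C, aeval_X] using h1
  have hQ0 : Q = 0 := by
    by_contra hne
    have h1 : (minpoly (ResidueField C) ζ).natDegree ≤ Q.natDegree := natDegree_le_of_dvd (minpoly.dvd _ _ hQ) hne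
    rw [← hmin, natDegree_X_pow_sub_C] at h1
    have h2 : Q.natDegree ≤ p - 1 := natDegree_sum_le_of_forall_le _ _ fun k _ =>
      (natDegree_C_mul_X_pow_le _ _).trans (Nat.le_sub_one_of_lt k.2)
    have := hp.pos
    omega
  have h3 : Q.coeff i = residue C (b i) := by
    simp only [Q, finsetSum_coeff, coeff_C_mul, coeff_X_pow]
    rw [Finset.sum_eq_single i]
    · simp
    · exact fun k _ hk => by simp [Fin.val_inj, Ne.symm hk]
    · simp
  rw [← residue_eq_zero_iff, ← h3, hQ0, coeff_zero]

/-- Weak unramifiedness over a comap from the value group. -/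
theorem isWeaklyUnramified_of_valuation {K₁ : Type u} [Field K₁] (f : K₁ →+* F)
    (h : ∀ y : F, y ≠ 0 → ∃ k : K₁, W.valuation (f k) = W.valuation y) :
    letI : Algebra (W.comap f) W := (EtRam.inclOfComap W f).toAlgebra
    EtRam.IsWeaklyUnramified (W.comap f) W := by
  show (maximalIdeal (W.comap f)).map (EtRam.inclOfComap W f) = maximalIdeal W
  refine le_antisymm (((local_hom_TFAE _).out 0 2).mp (EtRam.isLocalHom_inclOfComap W f)) fun y hy => ?_
  rcases eq_or_ne y 0 with rfl | hy0
  · exact zero_mem _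
  have hy' : (y : F) ≠ 0 := fun h0 => hy0 (Subtype.ext h0)
  obtain ⟨k, hk⟩ := h _ hy'
  have hlt : W.valuation (f k) < 1 := hk ▸ (W.valuation_lt_one_iff y).mp hy
  have hkW : k ∈ W.comap f := (W.valuation_le_one_iff _).mp hlt.le
  have hk0 : f k ≠ 0 := (map_ne_zero W.valuation).mp (hk.symm ▸ (map_ne_zero W.valuation).mpr hy')
  have hq : (y : F) / f k ∈ W := by
    rw [← W.valuation_le_one_iff, map_div₀, hk, div_self ((map_ne_zero W.valuation).mpr hy')]
  have he : y = EtRam.inclOfComap W f ⟨k, hkW⟩ * ⟨_, hq⟩ := Subtype.ext (mul_div_cancel₀ _ hk0).symm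
  rw [he]
  refine Ideal.mul_mem_right _ _ (Ideal.mem_map_of_mem _ ?_)
  exact fun hu => ((W.valuation_lt_one_iff (EtRam.inclOfComap W f ⟨k, hkW⟩)).mpr hlt) (hu.map _)

/-- Independent powers in an extension generated by a root of degree at most `p`. -/
theorem exists_sum_eq [Algebra M F] {p : ℕ} (hd : Module.finrank M F ≤ p) [FiniteDimensional M F] (z : F)
    (hind : ∀ a : Fin p → M, ∑ i, algebraMap M F (a i) * z ^ (i : ℕ) = 0 → ∀ i, a i = 0) (y : F) :
    ∃ a : Fin p → M, ∑ i, algebraMap M F (a i) * z ^ (i : ℕ) = y := by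
  have hli : LinearIndependent M fun i : Fin p => z ^ (i : ℕ) :=
    Fintype.linearIndependent_iff.mpr fun a ha => hind a (by simpa [Algebra.smul_def] using ha)
  have hp : Fintype.card (Fin p) = Module.finrank M F :=
    le_antisymm hli.fintype_card_le_finrank (by simpa using hd)
  have htop : y ∈ Submodule.span M (Set.range fun i : Fin p => z ^ (i : ℕ)) := by
    rw [hli.span_eq_top_of_card_eq_finrank' hp]
    trivial
  obtain ⟨a, ha⟩ := (Submodule.mem_span_range_iff_exists_fun M).mp htop
  exact ⟨a, by simpa [Algebra.smul_def] using ha⟩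

theorem le_finrank_of_independent [Algebra M F] {p : ℕ} [FiniteDimensional M F] (z : F)
    (hind : ∀ a : Fin p → M, ∑ i, algebraMap M F (a i) * z ^ (i : ℕ) = 0 → ∀ i, a i = 0) :
    p ≤ Module.finrank M F := by
  have hli : LinearIndependent M fun i : Fin p => z ^ (i : ℕ) :=
    Fintype.linearIndependent_iff.mpr fun a ha => hind a (by simpa [Algebra.smul_def] using ha)
  simpa using hli.fintype_card_le_finrank

end Valuation

end Groth.Agent.HensEt88
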