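import Groth.Agent.HensEt88.InsepStep

/-!
# The trichotomy for purely inseparable steps of prime degree
-/

set_option autoImplicit false
set_option linter.style.haveILetI false
set_option linter.unusedSectionVars false

namespace Groth.Agent.HensEt88

universe u

open IsLocalRing Polynomial TensorProduct

/-- Purely inseparable extensions of prime degree `p` live in characteristic `p` and have exponent one. -/
theorem charP_and_pow_mem (L M : Type u) [Field L] [Field M] [Algebra L M] [IsPurelyInseparable L M]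
    {p : ℕ} (hp : p.Prime) (hd : Module.finrank L M = p) :
    CharP L p ∧ ∀ m : M, ∃ l : L, algebraMap L M l = m ^ p := by
  haveI : FiniteDimensional L M := Module.finite_of_finrank_pos (hd ▸ hp.pos)
  obtain ⟨q, hq⟩ := ExpChar.exists L
  haveI := hq
  obtain ⟨n, hn⟩ := IsPurelyInseparable.finrank_eq_pow L M q
  rw [hd] at hn
  have hn1 : n = 1 := Nat.Prime.eq_one_of_pow (hn ▸ hp)
  have hqp : q = p := by rw [hn, hn1, pow_one]
  subst hqp
  refine ⟨?_, fun m => ?_⟩
  · cases hq with
    | zero => exact absurd rfl hp.one_lt.ne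
    | prime _ => assumption
  obtain ⟨k, y, hk⟩ := IsPurelyInseparable.minpoly_eq_X_pow_sub_C L q m
  have hdeg := minpoly.degree_dvd (K := L) (x := m) (IsPurelyInseparable.isIntegral' L m)
  rw [hk, natDegree_X_pow_sub_C, hd] at hdeg
  have hm : m ^ q ^ k = algebraMap L M y := by
    have := minpoly.aeval L m
    rw [hk, map_sub, map_pow, aeval_X, aeval_C, sub_eq_zero] at this
    exact this
  rcases (Nat.dvd_prime hp).mp hdeg with h | h
  · exact ⟨y ^ q, by rw [map_pow, ← hm, h, pow_one]⟩
  · exact ⟨y, by rw [← hm, h]⟩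

section Base

variable {p : ℕ} {A B C K L M : Type u}
  [CommRing A] [IsDomain A] [IsDiscreteValuationRing A] [CommRing B] [IsDomain B] [IsDiscreteValuationRing B]
  [CommRing C] [IsDomain C] [IsDiscreteValuationRing C]
  [Algebra B C] [IsLocalHom (algebraMap B C)]
  [Field L] [Field M] [Algebra B L] [IsFractionRing B L] [Algebra C M] [IsFractionRing C M] [Algebra L M]
  [Algebra B M] [IsScalarTower B L M] [IsScalarTower B C M] [FiniteDimensional L M]

/-- Decomposition along a root of a uniformizer. -/
theorem decompose_of_root (hp : p.Prime) (hd : Module.finrank L M = p) {π : B} (hπ : Irreducible π) (c : C) (u : Cˣ)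
    (hc : c ^ p = u * algebraMap B C π) :
    Algebra.adjoin B {c} = ⊤ ∧ (∀ y : C, ∃ (b : B) (r : C), y = algebraMap B C b + c * r) ∧
      ∀ y : C, (∀ m : M, ∃ l : L, algebraMap L M l = m ^ p) → IsIntegral B (algebraMap C M y) := by
  classical
  obtain ⟨W, hW⟩ := exists_dominates (algebraMap C M)
  have hWC : EtRam.Dominates C ((RingHom.id M).comp (algebraMap C M)) W := by rwa [RingHom.id_comp]
  have hWB : EtRam.Dominates B ((algebraMap L M).comp (algebraMap B L)) W := by
    rw [← IsScalarTower.algebraMap_eq, IsScalarTower.algebraMap_eq B C M]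
    exact ⟨fun b => hW.1 _, fun b hb => hW.2 _ (map_nonunit _ b hb)⟩
  have hx : W.valuation (algebraMap C M c) ^ p = W.valuation (algebraMap L M (algebraMap B L π)) := by
    rw [← map_pow, ← map_pow, hc, map_mul, map_mul, ← IsScalarTower.algebraMap_apply B L M,
      ← IsScalarTower.algebraMap_apply B C M]
    have := valuation_map_unit (RingHom.id M) hWC u
    rw [RingHom.id_apply] at this
    rw [this, one_mul]
  have hmem : ∀ y : C, ∃ b : Fin p → B, y = ∑ i, algebraMap B C (b i) * c ^ (i : ℕ) := by
    intro y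
    obtain ⟨a, ha⟩ := exists_sum_eq hd.le (algebraMap C M c)
      (fun a h => eq_zero_of_sum_ramified (algebraMap L M) hWB hπ hp.pos hx a h) (algebraMap C M y)
    obtain ⟨j, hj, hle⟩ := valuation_sum_ramified (algebraMap L M) hWB hπ hp.pos hx a
    rw [ha] at hj
    have hb : ∀ i, ∃ b : B, algebraMap B L b = a i := fun i => by
      have h1 : W.valuation (algebraMap L M (a i) * algebraMap C M c ^ (i : ℕ)) ≤ 1 :=
        (hle i).trans (hj ▸ (W.valuation_le_one_iff _).mpr (hW.1 y))
      rcases eq_or_ne (a i) 0 with h0 | h0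
      · exact ⟨0, by rw [h0, map_zero]⟩
      obtain ⟨k, hk⟩ := valuation_map_eq_zpow (algebraMap L M) hWB hπ h0
      have hc0 : W.valuation (algebraMap C M c) ≠ 0 := fun h => by
        rw [h, zero_pow hp.ne_zero] at hx
        exact (_root_.map_ne_zero W.valuation).mpr ((_root_.map_ne_zero (algebraMap L M)).mpr
          ((_root_.map_ne_zero_iff _ (IsFractionRing.injective B L)).mpr hπ.ne_zero)) hx.symm
      have hc1 : W.valuation (algebraMap C M c) < 1 := (pow_lt_one_iff hp.ne_zero).mp (hx ▸ hWB.2 π hπ.not_isUnit)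
      rw [map_mul, map_pow, hk, ← hx, ← zpow_natCast, ← zpow_mul, ← zpow_natCast, ← zpow_add₀ hc0] at h1
      have h2 : 0 ≤ (p : ℤ) * k + (i : ℕ) := by
        by_contra hneg
        push Not at hneg
        exact not_lt.mpr h1 (one_lt_zpow_of_neg₀ (zero_lt_iff.mpr hc0) hc1 hneg)
      have h3 : 0 ≤ k := by
        by_contra hneg
        have := i.2
        nlinarith
      refine exists_of_map_mem (algebraMap L M) hWB ((W.valuation_le_one_iff _).mp ?_)
      rw [hk]
      exact zpow_le_one₀ (hx ▸ pow_pos (zero_lt_iff.mpr hc0) p) (hWB.2 π hπ.not_isUnit).le h3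
    choose b hb using hb
    refine ⟨b, IsFractionRing.injective C M ?_⟩
    rw [← ha, map_sum]
    refine Finset.sum_congr rfl fun i _ => ?_
    rw [map_mul, map_pow, ← IsScalarTower.algebraMap_apply B C M, IsScalarTower.algebraMap_apply B L M, hb]
  refine ⟨eq_top_iff.mpr fun y _ => ?_, fun y => ?_, fun y hpow => ?_⟩
  · obtain ⟨b, rfl⟩ := hmem y
    exact Subalgebra.sum_mem _ fun i _ => Subalgebra.mul_mem _ (Subalgebra.algebraMap_mem _ _)
      (Subalgebra.pow_mem _ (Algebra.subset_adjoin (Set.mem_singleton c)) _)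
  · obtain ⟨b, rfl⟩ := hmem y
    obtain ⟨q, rfl⟩ := Nat.exists_eq_succ_of_ne_zero hp.ne_zero
    refine ⟨b 0, ∑ i : Fin q, algebraMap B C (b i.succ) * c ^ (i : ℕ), ?_⟩
    rw [Fin.sum_univ_succ, Finset.mul_sum]
    simp [pow_succ', mul_left_comm]
  · obtain ⟨l, hl⟩ := hpow (algebraMap C M y)
    obtain ⟨b, hb⟩ := exists_of_map_mem (algebraMap L M) hWB (m := l) (hl ▸ pow_mem (hW.1 y) p)
    refine IsIntegral.of_pow hp.pos ?_
    rw [← hl, ← hb, ← IsScalarTower.algebraMap_apply]
    exact isIntegral_algebraMap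

/-- A non-`p`-th power residue produced from finiteness of normalization. -/
theorem exists_residue_witness (hp : p.Prime) [CharP L p] (hd : Module.finrank L M = p)
    (hpow : ∀ m : M, ∃ l : L, algebraMap L M l = m ^ p) (hB : CAlg.IsNagata B) {π : B}
    (hπ : maximalIdeal B = Ideal.span {π}) (c : C) (u : Cˣ) (hc : c ^ p = u * algebraMap B C π)
    (hno : ∀ m : M, m ^ p ≠ algebraMap B M π) :
    ∃ (w : B) (m : Fin p → M), algebraMap B M w = ∑ i, m i ^ p * algebraMap B M π ^ (i : ℕ) ∧
      ∀ r : C, residue C r ^ p ≠ residue C (algebraMap B C w) := by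
  classical
  haveI := Fact.mk hp
  haveI : CharP M p := charP_of_injective_algebraMap (algebraMap L M).injective p
  have hirrπ : Irreducible π := (IsDiscreteValuationRing.irreducible_iff_uniformizer π).mpr hπ
  have hdec := decompose_of_root hp hd hirrπ c u hc
  let f : M[X] := X ^ p - Polynomial.C (algebraMap B M π)
  have hirr : Irreducible f := X_pow_sub_C_irreducible_of_prime hp fun m => hno m
  haveI := Fact.mk hirr
  let M' := AdjoinRoot f
  haveI : FiniteDimensional M M' := (AdjoinRoot.powerBasis hirr.ne_zero).finite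
  haveI : FiniteDimensional L M' := Module.Finite.trans M M'
  haveI : CharP M' p := charP_of_injective_algebraMap (algebraMap M M').injective p
  let s : M' := AdjoinRoot.root f
  have hs : s ^ p = algebraMap B M' π := by
    have h := AdjoinRoot.eval₂_root f
    simp only [f, eval₂_sub, eval₂_pow, eval₂_X, eval₂_C, sub_eq_zero] at h
    rw [h, IsScalarTower.algebraMap_apply B M M']
    rfl
  have hexp : ∀ z : M', ∃ m : Fin p → M, z = ∑ i, algebraMap M M' (m i) * s ^ (i : ℕ) := by
    intro z
    let pb := AdjoinRoot.powerBasis hirr.ne_zero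
    have hdim : pb.dim = p := by rw [AdjoinRoot.powerBasis_dim, natDegree_X_pow_sub_C]
    refine ⟨fun i => pb.basis.repr z (Fin.cast hdim.symm i), ?_⟩
    conv_lhs => rw [← pb.basis.sum_repr z]
    refine Fintype.sum_equiv (finCongr hdim) _ _ fun i => ?_
    simp only [Algebra.smul_def, pb, s, AdjoinRoot.powerBasis_gen, PowerBasis.coe_basis, finCongr_apply, Fin.val_cast, Fin.cast_cast, Fin.cast_eq_self]
    rfl
  let O := Subalgebra.toSubmodule (integralClosure B M')
  haveI : Module.Finite B (integralClosure B M') := N12Aux.finite_of_isN2 (N12Aux.isN2_of_isNagata hB) L M'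
  have hcase : ∀ z : M', IsIntegral B z → ∃ (w : B) (m : Fin p → M),
      algebraMap B M' w = z ^ p ∧ algebraMap B M w = ∑ i, m i ^ p * algebraMap B M π ^ (i : ℕ) := by
    intro z hz
    obtain ⟨m, rfl⟩ := hexp z
    choose l hl using fun i => hpow (m i)
    let l₀ : L := ∑ i, l i * algebraMap B L π ^ (i : ℕ)
    have hl₀ : algebraMap L M l₀ = ∑ i, m i ^ p * algebraMap B M π ^ (i : ℕ) := by
      simp only [l₀, map_sum, map_mul, map_pow, hl, ← IsScalarTower.algebraMap_apply B L M]
    have hz' : algebraMap L M' l₀ = (∑ i, algebraMap M M' (m i) * s ^ (i : ℕ)) ^ p := by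
      rw [IsScalarTower.algebraMap_apply L M M', hl₀, map_sum, sum_pow_char]
      refine Finset.sum_congr rfl fun i _ => ?_
      rw [map_mul, map_pow, map_pow, mul_pow, ← pow_mul, mul_comm _ p, pow_mul, hs,
        ← IsScalarTower.algebraMap_apply B M M']
    have hint : IsIntegral B l₀ := (isIntegral_algebraMap_iff (algebraMap L M').injective).mp
      (hz' ▸ hz.pow p)
    obtain ⟨w, hw⟩ := IsIntegrallyClosed.isIntegral_iff.mp hint
    refine ⟨w, m, ?_, ?_⟩
    · rw [← hz', ← hw, ← IsScalarTower.algebraMap_apply]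
    · rw [← hl₀, ← hw, ← IsScalarTower.algebraMap_apply]
  by_contra hcon
  push Not at hcon
  let cM : M' := algebraMap M M' (algebraMap C M c)
  let N : Submodule B M' := LinearMap.range ((IsScalarTower.toAlgHom B M M').toLinearMap.comp
    (IsScalarTower.toAlgHom B C M).toLinearMap)
  have hcM : cM ^ p = algebraMap M M' (algebraMap C M u) * algebraMap B M' π := by
    simp only [cM, ← map_pow, hc, map_mul, ← IsScalarTower.algebraMap_apply B C M, ← IsScalarTower.algebraMap_apply B M M']
  have hπ0 : algebraMap B M' π ≠ 0 := by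
    rw [IsScalarTower.algebraMap_apply B L M']
    exact (_root_.map_ne_zero _).mpr ((_root_.map_ne_zero_iff _ (IsFractionRing.injective B L)).mpr hirrπ.ne_zero)
  have hu0 : algebraMap M M' (algebraMap C M u) * algebraMap M M' (algebraMap C M ↑u⁻¹) = 1 := by
    rw [← map_mul, ← map_mul, Units.mul_inv, map_one, map_one]
  have hcM0 : cM ≠ 0 := fun h => mul_ne_zero (left_ne_zero_of_mul_eq_one hu0) hπ0
    (by rw [← hcM, h, zero_pow hp.ne_zero])
  have hstep : ∀ z ∈ O, ∃ (b : B) (y : M'), y ∈ O ∧ z = algebraMap B M' b + cM * y := by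
    intro z hz
    obtain ⟨w, m, hw, hwm⟩ := hcase z hz
    obtain ⟨r, hr⟩ := hcon w m hwm
    obtain ⟨b, r', rfl⟩ := hdec.2.1 r
    have h1 : algebraMap B C (w - b ^ p) ∈ maximalIdeal C := by
      rw [← residue_eq_zero_iff, map_sub, map_sub, map_pow, map_pow, sub_eq_zero, ← hr, map_add, map_mul]
      have : residue C c = 0 := (residue_eq_zero_iff c).mpr fun hu => hirrπ.not_isUnit (by
        have h2 : IsUnit (algebraMap B C π) := isUnit_of_mul_isUnit_right (hc ▸ hu.pow p)
        exact h2.of_map)
      rw [this, zero_mul, add_zero]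
    have h2 : w - b ^ p ∈ maximalIdeal B := fun hu => h1 (hu.map _)
    rw [hπ, Ideal.mem_span_singleton'] at h2
    obtain ⟨d, hd'⟩ := h2
    refine ⟨b, (z - algebraMap B M' b) / cM, ?_, ?_⟩
    · refine IsIntegral.of_pow hp.pos ?_
      have h3 : ((z - algebraMap B M' b) / cM) ^ p =
          algebraMap M M' (algebraMap C M (algebraMap B C d * ↑u⁻¹)) := by
        rw [div_pow, hcM, sub_pow_char, ← hw, ← map_pow (algebraMap B M'), ← map_sub (algebraMap B M'), ← hd', map_mul (algebraMap B M')]
        rw [map_mul (algebraMap C M), map_mul (algebraMap M M'), ← IsScalarTower.algebraMap_apply B C M,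
          ← IsScalarTower.algebraMap_apply B M M']
        rw [div_eq_iff (mul_ne_zero (left_ne_zero_of_mul_eq_one hu0) hπ0)]
        linear_combination (-(algebraMap B M' d) * algebraMap B M' π) * hu0
      rw [h3]
      exact (hdec.2.2 _ hpow).map (IsScalarTower.toAlgHom B M M')
    · rw [mul_div_cancel₀]
      · ring
      · exact hcM0
  -- iterate and apply Nakayama
  have hNmem : ∀ y : C, algebraMap M M' (algebraMap C M y) ∈ N := fun y => ⟨y, rfl⟩
  have hiter : ∀ k : ℕ, ∀ z ∈ O, ∃ (r : C) (y : M'), y ∈ O ∧ z = algebraMap M M' (algebraMap C M r) + cM ^ k * y := by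
    intro k
    induction k with
    | zero => exact fun z hz => ⟨0, z, hz, by simp⟩
    | succ k ih =>
      intro z hz
      obtain ⟨r, y, hy, rfl⟩ := ih z hz
      obtain ⟨b, y', hy', rfl⟩ := hstep y hy
      refine ⟨r + c ^ k * algebraMap B C b, y', hy', ?_⟩
      simp only [cM, map_add, map_mul, map_pow, ← IsScalarTower.algebraMap_apply B C M,
        ← IsScalarTower.algebraMap_apply B M M']
      ring
  have hintC : ∀ y : C, algebraMap M M' (algebraMap C M y) ∈ O := fun y =>
    (hdec.2.2 y hpow).map (IsScalarTower.toAlgHom B M M')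
  have hle : O ≤ N := by
    refine Submodule.le_of_le_smul_of_le_jacobson_bot (I := maximalIdeal B) (Module.Finite.iff_fg.mp ‹_›)
      (IsLocalRing.maximalIdeal_le_jacobson ⊥) fun z hz => ?_
    obtain ⟨r, y, hy, rfl⟩ := hiter p z hz
    refine Submodule.add_mem_sup (hNmem r) ?_
    rw [hcM, mul_comm (algebraMap M M' _), mul_assoc, ← Algebra.smul_def]
    exact Submodule.smul_mem_smul (hπ ▸ Ideal.mem_span_singleton_self π)
      ((integralClosure B M').mul_mem (hintC u) hy)
  obtain ⟨y, hy⟩ : s ∈ N := hle (IsIntegral.of_pow hp.pos (hs ▸ isIntegral_algebraMap))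
  have hy' : algebraMap M M' (algebraMap C M y) = s := hy
  refine hno (algebraMap C M y) ((algebraMap M M').injective ?_)
  rw [map_pow, hy', hs, ← IsScalarTower.algebraMap_apply]

end Base

section Root

variable {M F : Type u} [Field M] [Field F]

/-- The valuation of a root of `X ^ p + c X - π`. -/
theorem valuation_root (W : ValuationSubring F) {p : ℕ} (hp : 1 < p) {x π' c' : F} (hx : x ^ p = π' - c' * x)
    (hπ1 : W.valuation π' < 1) (hc : W.valuation c' < 1) (hcπ : W.valuation c' ≤ W.valuation π') (hπ0 : π' ≠ 0) :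
    W.valuation x ^ p = W.valuation π' ∧ W.valuation x < 1 := by
  have hx1 : W.valuation x < 1 := by
    by_contra h
    rw [not_lt] at h
    have h1 : W.valuation (π' - c' * x) < W.valuation x ^ p := by
      refine (W.valuation.map_sub _ _).trans_lt (max_lt (hπ1.trans_le (one_le_pow₀ h)) ?_)
      rw [map_mul]
      refine ((mul_lt_mul_of_pos_right hc (zero_lt_one.trans_le h)).trans_eq (one_mul _)).trans_le ?_
      exact le_self_pow₀ h (Nat.ne_zero_of_lt hp)
    rw [← hx, map_pow] at h1
    exact lt_irrefl _ h1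
  refine ⟨?_, hx1⟩
  rw [← map_pow, hx]
  refine W.valuation.map_sub_eq_of_lt_left ?_
  rw [map_mul]
  calc W.valuation c' * W.valuation x ≤ W.valuation π' * W.valuation x := mul_le_mul_left hcπ _
    _ < W.valuation π' * 1 := mul_lt_mul_of_pos_left hx1 (zero_lt_iff.mpr ((_root_.map_ne_zero W.valuation).mpr hπ0))
    _ = W.valuation π' := mul_one _

/-- An extension generated by a root of `X ^ p + c X - π` has degree at most `p`. -/
theorem finrank_le_of_root [Algebra M F] {p : ℕ} (hp : 1 < p) {x : F} {π' c' : M}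
    (hx : x ^ p = algebraMap M F π' - algebraMap M F c' * x) (hgen : Algebra.adjoin M {x} = ⊤) :
    FiniteDimensional M F ∧ Module.finrank M F ≤ p := by
  let P : M[X] := X ^ p + (Polynomial.C c' * X - Polynomial.C π')
  have hdeg : (Polynomial.C c' * X - Polynomial.C π').degree < (p : WithBot ℕ) :=
    lt_of_le_of_lt ((degree_sub_le _ _).trans (max_le (degree_C_mul_X_le c') (degree_C_le.trans (by exact_mod_cast zero_le_one))))
      (by exact_mod_cast hp)
  have hP : P.Monic := monic_X_pow_add hdeg
  have hnd : P.natDegree = p := natDegree_eq_of_degree_eq_some (by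
    rw [degree_add_eq_left_of_degree_lt (by rwa [degree_X_pow]), degree_X_pow])
  have hroot : aeval x P = 0 := by
    simp only [P, map_add, map_sub, map_mul, map_pow, aeval_X, aeval_C]
    rw [hx]; ring
  have hint : IsIntegral M x := ⟨P, hP, hroot⟩
  have htop : IntermediateField.adjoin M {x} = ⊤ := by
    apply IntermediateField.toSubalgebra_injective
    rw [IntermediateField.adjoin_simple_toSubalgebra_of_isAlgebraic hint.isAlgebraic, hgen, IntermediateField.top_toSubalgebra]
  haveI := IntermediateField.adjoin.finiteDimensional hint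
  refine ⟨((IntermediateField.equivOfEq htop).trans IntermediateField.topEquiv).toLinearEquiv.finiteDimensional, ?_⟩
  rw [← IntermediateField.finrank_top', ← htop, IntermediateField.adjoin.finrank hint, ← hnd]
  exact natDegree_le_of_dvd (minpoly.dvd M x hroot) hP.ne_zero

theorem adjoin_image_of_generator {K K₁ : Type u} [Field K] [Field K₁] [Algebra K K₁] [Algebra K M] [Algebra K F]
    [Algebra M F] [Algebra K₁ F] [IsScalarTower K M F] [IsScalarTower K K₁ F] {x : K₁}
    (hx : Algebra.adjoin K {x} = ⊤) (hgen : Algebra.adjoin M (Set.range (algebraMap K₁ F)) = ⊤) :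
    Algebra.adjoin M {algebraMap K₁ F x} = ⊤ := by
  rw [eq_top_iff, ← hgen]
  refine Algebra.adjoin_le ?_
  rintro _ ⟨k, rfl⟩
  have h1 : k ∈ Algebra.adjoin K {x} := hx ▸ Algebra.mem_top
  induction h1 using Algebra.adjoin_induction with
  | mem y hy => exact Algebra.subset_adjoin (by rw [Set.mem_singleton_iff.mp hy]; exact Set.mem_singleton _)
  | algebraMap r =>
    rw [← IsScalarTower.algebraMap_apply K K₁ F, IsScalarTower.algebraMap_apply K M F]
    exact Subalgebra.algebraMap_mem _ _
  | add a b _ _ ha hb => rw [map_add]; exact Subalgebra.add_mem _ ha hb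
  | mul a b _ _ ha hb => rw [map_mul]; exact Subalgebra.mul_mem _ ha hb

/-- A base change of degree `p` mapping onto a field of degree at least `p` is a field. -/
theorem isField_tensor_of_forall {K K₁ : Type u} [Field K] [Field K₁] [Algebra K K₁] [Algebra K M]
    [FiniteDimensional K K₁] (h : ∀ (E : Type u) [Field E] [Algebra K E] [Algebra M E] [Algebra K₁ E]
      [IsScalarTower K M E] [IsScalarTower K K₁ E], Algebra.adjoin M (Set.range (algebraMap K₁ E)) = ⊤ →
        Module.finrank K K₁ ≤ Module.finrank M E) :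
    IsField (M ⊗[K] K₁) := by
  haveI : Nontrivial (M ⊗[K] K₁) := inferInstance
  obtain ⟨m, hm⟩ := Ideal.exists_maximal (M ⊗[K] K₁)
  letI : Field ((M ⊗[K] K₁) ⧸ m) := Ideal.Quotient.field m
  letI : Algebra K₁ ((M ⊗[K] K₁) ⧸ m) :=
    ((Ideal.Quotient.mk m).comp (Algebra.TensorProduct.includeRight : K₁ →ₐ[K] M ⊗[K] K₁).toRingHom).toAlgebra
  haveI : IsScalarTower K K₁ ((M ⊗[K] K₁) ⧸ m) := .of_algebraMap_eq fun k => by
    show _ = Ideal.Quotient.mk m (Algebra.TensorProduct.includeRight (algebraMap K K₁ k))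
    rw [AlgHom.commutes]
    rfl
  have hgen : Algebra.adjoin M (Set.range (algebraMap K₁ ((M ⊗[K] K₁) ⧸ m))) = ⊤ := by
    rw [eq_top_iff]
    intro y hy
    clear hy
    obtain ⟨z, rfl⟩ := Ideal.Quotient.mk_surjective y
    induction z with
    | zero => rw [map_zero]; exact Subalgebra.zero_mem _
    | add a b ha hb => rw [map_add]; exact Subalgebra.add_mem _ ha hb
    | tmul a k =>
      have : Ideal.Quotient.mk m (a ⊗ₜ[K] k) = algebraMap M ((M ⊗[K] K₁) ⧸ m) a * algebraMap K₁ _ k := by
        show _ = Ideal.Quotient.mk m (a ⊗ₜ 1) * Ideal.Quotient.mk m (1 ⊗ₜ k)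
        rw [← map_mul, Algebra.TensorProduct.tmul_mul_tmul, mul_one, one_mul]
      rw [this]
      exact Subalgebra.mul_mem _ (Subalgebra.algebraMap_mem _ _) (Algebra.subset_adjoin ⟨k, rfl⟩)
  have hle := h ((M ⊗[K] K₁) ⧸ m) hgen
  let π := (Ideal.Quotient.mkₐ M m).toLinearMap
  have hsurj : Function.Surjective π := Ideal.Quotient.mk_surjective
  have hdim : Module.finrank M (M ⊗[K] K₁) = Module.finrank M ((M ⊗[K] K₁) ⧸ m) := by
    refine le_antisymm ?_ ?_
    · rw [Module.finrank_baseChange]; exact hle
    · exact π.finrank_le_finrank_of_surjective hsurj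
  have hinj : Function.Injective π := (LinearMap.injective_iff_surjective_of_finrank_eq_finrank hdim).mpr hsurj
  exact MulEquiv.isField (Field.toIsField ((M ⊗[K] K₁) ⧸ m))
    (RingEquiv.ofBijective (Ideal.Quotient.mk m) ⟨hinj, hsurj⟩).toMulEquiv

end Root

end Groth.Agent.HensEt88
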