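import Mathlib

/-!
# Faithfully flat descent of integrality for fractions
-/

set_option autoImplicit false

namespace Groth.Agent.HensEt88

universe u

open Polynomial

/-- A fraction `δ / α` of `D` which is integral over a faithfully flat extension is integral over `D`. -/
theorem isIntegral_fraction_descend {D E K : Type u} [CommRing D] [CommRing E] [CommRing K] [Algebra D E]
    [Module.FaithfullyFlat D E] [Algebra E K] [Algebra D K] [IsScalarTower D E K]
    (hinj : Function.Injective (algebraMap E K)) {u : K} {α δ : D} (hα : IsUnit (algebraMap D K α))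
    (hu : algebraMap D K α * u = algebraMap D K δ) (hint : IsIntegral E u) : IsIntegral D u := by
  obtain ⟨P, hP, hPu⟩ := hint
  set n := P.natDegree
  set g : Fin n → D := fun i => α ^ (n - i : ℕ) * δ ^ (i : ℕ)
  have hpow : ∀ i : Fin n, algebraMap D K (g i) = algebraMap D K α ^ n * u ^ (i : ℕ) := fun i => by
    simp only [g]
    rw [map_mul, map_pow, map_pow, ← hu, mul_pow, ← mul_assoc, ← pow_add, Nat.sub_add_cancel i.2.le]
  have hmem : algebraMap D E (δ ^ n) ∈ (Ideal.span (Set.range g)).map (algebraMap D E) := by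
    have h1 : eval₂ (algebraMap E K) u P = u ^ n + ∑ i : Fin n, algebraMap E K (P.coeff i) * u ^ (i : ℕ) := by
      rw [eval₂_eq_sum_range, Finset.sum_range_succ, ← Fin.sum_univ_eq_sum_range (fun i => algebraMap E K (P.coeff i) * u ^ i),
        hP.coeff_natDegree, map_one, one_mul, add_comm]
    have h2 : algebraMap D E (δ ^ n) = -∑ i : Fin n, P.coeff i * algebraMap D E (g i) := by
      apply hinj
      rw [map_neg, map_sum, ← IsScalarTower.algebraMap_apply, map_pow, ← hu, mul_pow, eq_neg_iff_add_eq_zero]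
      simp only [map_mul, ← IsScalarTower.algebraMap_apply, hpow]
      rw [Finset.sum_congr rfl (fun i _ => mul_left_comm _ _ _), ← Finset.mul_sum, ← mul_add, ← h1, hPu, mul_zero]
    rw [h2, Ideal.map_span]
    exact neg_mem (sum_mem fun i _ => Ideal.mul_mem_left _ _ (Ideal.subset_span ⟨g i, ⟨i, rfl⟩, rfl⟩))
  have hmem' : δ ^ n ∈ Ideal.span (Set.range g) := by
    rw [← Ideal.comap_map_eq_self_of_faithfullyFlat (B := E) (Ideal.span (Set.range g))]
    exact Ideal.mem_comap.mpr hmem
  obtain ⟨c, hc⟩ := (Submodule.mem_span_range_iff_exists_fun D).mp hmem'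
  refine ⟨X ^ n - ∑ i : Fin n, C (c i) * X ^ (i : ℕ), ?_, ?_⟩
  · refine monic_X_pow_sub ((degree_sum_le _ _).trans_lt ?_)
    refine (Finset.sup_lt_iff (WithBot.bot_lt_coe n)).mpr ?_
    exact fun i _ => (degree_C_mul_X_pow_le _ _).trans_lt (WithBot.coe_lt_coe.mpr i.2)
  · rw [eval₂_sub, eval₂_X_pow, eval₂_finsetSum]
    simp only [eval₂_mul, eval₂_C, eval₂_X_pow]
    refine (hα.pow n).mul_left_cancel ?_
    rw [mul_zero, mul_sub, ← mul_pow, hu, ← map_pow, ← hc, map_sum, Finset.mul_sum, sub_eq_zero]
    refine Finset.sum_congr rfl fun i _ => ?_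
    rw [smul_eq_mul, map_mul, hpow, mul_left_comm]

end Groth.Agent.HensEt88
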