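import Mathlib
import Groth.Agent.KrullAki.Basic

/-!
# Krull–Akizuki for subrings of a finite extension
-/

set_option autoImplicit false
set_option linter.style.haveILetI false

namespace Groth.Agent.HensEt88

universe u

/-- A subring of a finite extension of the fraction field, generating it as a field of fractions, is Noetherian. -/
theorem isNoetherianRing_of_finite_extension (B L M : Type u) [CommRing B] [IsDomain B] [IsNoetherianRing B]
    [Ring.DimensionLEOne B] [Field L] [Algebra B L] [IsFractionRing B L] [Field M] [Algebra L M]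
    [FiniteDimensional L M] [Algebra B M] [IsScalarTower B L M] (R : Subalgebra B M)
    (hfrac : ∀ y : M, ∃ a ∈ R, ∃ b ∈ R, b ≠ 0 ∧ a = y * b) : IsNoetherianRing R := by
  classical
  have hBM : Function.Injective (algebraMap B M) := by
    rw [IsScalarTower.algebraMap_eq B L M]
    exact (algebraMap L M).injective.comp (IsFractionRing.injective B L)
  haveI : Algebra.IsAlgebraic B L := IsLocalization.isAlgebraic L (nonZeroDivisors B)
  haveI : Algebra.IsAlgebraic B M := Algebra.IsAlgebraic.trans B L M
  have hcl : ∀ y : M, ∃ c : B, c ≠ 0 ∧ c • y ∈ R := fun y => by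
    obtain ⟨a, ha, b, hb, hb0, hab⟩ := hfrac y
    have halg : IsAlgebraic B (⟨b, hb⟩ : R) :=
      (isAlgebraic_algHom_iff R.val Subtype.val_injective).mp (Algebra.IsAlgebraic.isAlgebraic b)
    obtain ⟨c, hc, ⟨d, hd⟩⟩ := halg.exists_nonzero_dvd
      (mem_nonZeroDivisors_of_ne_zero fun h => hb0 (congrArg Subtype.val h))
    refine ⟨c, hc, ?_⟩
    rw [Algebra.smul_def, show algebraMap B M c = b * (d : M) from congrArg Subtype.val hd, mul_comm b, mul_assoc,
      mul_comm b y, ← hab]
    exact mul_mem d.2 ha
  obtain ⟨s, bs, hbs⟩ := FiniteDimensional.exists_is_basis_integral B L M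
  choose c hc hcR using fun i => hcl (bs i)
  let A₀ : Subalgebra B M := Algebra.adjoin B (Set.range fun i => c i • bs i)
  haveI : Module.Finite B A₀ := by
    refine Module.Finite.iff_fg.mpr (fg_adjoin_of_finite (Set.finite_range _) ?_)
    rintro _ ⟨i, rfl⟩
    exact (hbs i).smul (c i)
  haveI : IsNoetherianRing A₀ := IsNoetherianRing.of_finite B A₀
  have hA₀R : A₀ ≤ R := Algebra.adjoin_le (by rintro _ ⟨i, rfl⟩; exact hcR i)
  haveI : Algebra.IsIntegral B A₀ := Algebra.IsIntegral.of_finite B A₀
  haveI : Ring.DimensionLEOne A₀ := ⟨fun {P} hP0 hP => by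
    haveI := hP
    refine Ideal.isMaximal_of_isIntegral_of_isMaximal_comap (R := B) P ?_
    refine (Ideal.comap_isPrime _ P).isMaximal ?_
    exact Ideal.comap_ne_bot_of_integral_mem (x := (Submodule.exists_mem_ne_zero_of_ne_bot hP0).choose)
      (Submodule.exists_mem_ne_zero_of_ne_bot hP0).choose_spec.2
      (Submodule.exists_mem_ne_zero_of_ne_bot hP0).choose_spec.1 (Algebra.IsIntegral.isIntegral _)⟩
  haveI : Ring.KrullDimLE 1 A₀ := Ring.krullDimLE_one_iff_of_noZeroDivisors.2 fun P hP0 hP =>
    Ideal.IsPrime.isMaximal hP hP0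
  haveI : IsFractionRing A₀ M := by
    refine IsFractionRing.of_field _ _ fun z => ?_
    -- `z` is an `L`-combination of the integral basis
    suffices h : ∀ z : M, ∃ p q : A₀, (q : M) ≠ 0 ∧ (p : M) = z * (q : M) by
      obtain ⟨p, q, hq, hpq⟩ := h z
      exact ⟨p, q, by
        show z = (p : M) / (q : M)
        rw [hpq, mul_div_assoc, div_self hq, mul_one]⟩
    intro z
    have hz := bs.mem_span z
    induction hz using Submodule.span_induction with
    | mem x hx =>
      obtain ⟨i, rfl⟩ := hx
      refine ⟨⟨c i • bs i, Algebra.subset_adjoin ⟨i, rfl⟩⟩, algebraMap B A₀ (c i), ?_, ?_⟩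
      · show algebraMap B M (c i) ≠ 0
        exact (map_ne_zero_iff _ hBM).mpr (hc i)
      · show c i • bs i = bs i * algebraMap B M (c i)
        rw [Algebra.smul_def, mul_comm]
    | zero => exact ⟨0, 1, one_ne_zero, by simp⟩
    | add x y _ _ hx hy =>
      obtain ⟨p, q, hq, h1⟩ := hx
      obtain ⟨p', q', hq', h2⟩ := hy
      exact ⟨p * q' + p' * q, q * q', mul_ne_zero hq hq', by push_cast; rw [h1, h2]; ring⟩
    | smul l x _ hx =>
      obtain ⟨p, q, hq, h1⟩ := hx
      obtain ⟨a, b, hb, rfl⟩ := IsFractionRing.div_surjective (A := B) l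
      have hb0 : algebraMap B M b ≠ 0 := (map_ne_zero_iff _ hBM).mpr (nonZeroDivisors.ne_zero hb)
      refine ⟨algebraMap B A₀ a * p, algebraMap B A₀ b * q, mul_ne_zero hb0 hq, ?_⟩
      show algebraMap B M a * (p : M) = ((algebraMap B L a / algebraMap B L b) • x) * (algebraMap B M b * (q : M))
      rw [Algebra.smul_def, map_div₀, ← IsScalarTower.algebraMap_apply, ← IsScalarTower.algebraMap_apply, h1]
      field_simp
  let R' : Subalgebra A₀ M :=
    { R with algebraMap_mem' := fun a => hA₀R a.2 }
  exact KrullAki.isNoetherianRing_subalgebra (A := A₀) (K := M) R'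

end Groth.Agent.HensEt88
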