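import Mathlib

/-!
# Lifting a finite birational extension along an isomorphism modulo a power
-/

set_option autoImplicit false
set_option linter.style.haveILetI false

namespace Groth.Agent.HensEt88

universe u

/-- A bound for the denominators. -/
theorem exists_pow_mul_mem_range {A' A : Type u} [CommRing A'] [CommRing A] [Algebra A' A]
    [Module.Finite A' A] (f : A') (hf : algebraMap A' A f ∈ nonZeroDivisors A)
    (hloc : Function.Bijective (IsLocalization.Away.map (Localization.Away f)
      (Localization.Away (algebraMap A' A f)) (algebraMap A' A) f)) :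
    ∃ m : ℕ, ∀ x : A, algebraMap A' A f ^ m * x ∈ (algebraMap A' A).range := by
  classical
  set F := algebraMap A' A f
  let Af := Localization.Away f
  let AF := Localization.Away F
  have hone : ∀ x : A, ∃ k, F ^ k * x ∈ (algebraMap A' A).range := fun x => by
    obtain ⟨w, hw⟩ := hloc.2 (algebraMap A AF x)
    obtain ⟨⟨a, ⟨_, k, rfl⟩⟩, e⟩ := IsLocalization.surj (Submonoid.powers f) w
    refine ⟨k, a, ?_⟩
    apply IsLocalization.injective AF (M := Submonoid.powers F)
      (Submonoid.powers_le.mpr hf)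
    have e' := congrArg (IsLocalization.Away.map Af AF (algebraMap A' A) f) e
    have hc : ∀ b, IsLocalization.Away.map Af AF (algebraMap A' A) f (algebraMap A' Af b) =
        algebraMap A AF (algebraMap A' A b) := fun b => IsLocalization.map_eq _ b
    rw [map_mul, hw, hc, hc, map_pow] at e'
    rw [← e', ← map_mul]
    congr 1
    exact mul_comm _ _
  choose k hk using hone
  obtain ⟨s, hs⟩ := (inferInstance : Module.Finite A' A).fg_top
  refine ⟨s.sup k, fun x => ?_⟩
  have hx : x ∈ Submodule.span A' (s : Set A) := hs ▸ Submodule.mem_top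
  induction hx using Submodule.span_induction with
  | mem y hy =>
    obtain ⟨a, ha⟩ := hk y
    obtain ⟨d, hd⟩ := Nat.exists_eq_add_of_le (Finset.le_sup (f := k) hy)
    exact ⟨f ^ d * a, by rw [map_mul, map_pow, ha, hd, pow_add]; ring⟩
  | zero => exact ⟨0, by simp⟩
  | add y z _ _ hy hz => rw [mul_add]; exact add_mem hy hz
  | smul c y _ hy =>
    obtain ⟨a, ha⟩ := hy
    exact ⟨c * a, by rw [map_mul, ha, Algebra.smul_def]; ring⟩

theorem exists_finite_extension_lifting (A' A : Type u) [CommRing A'] [CommRing A] [Algebra A' A]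
    (hinj : Function.Injective (algebraMap A' A)) [Module.Finite A' A] (f : A')
    (hf : algebraMap A' A f ∈ nonZeroDivisors A)
    (hloc : Function.Bijective (IsLocalization.Away.map (Localization.Away f)
      (Localization.Away (algebraMap A' A f)) (algebraMap A' A) f)) :
    ∃ n₀ : ℕ, 0 < n₀ ∧ ∀ n : ℕ, n₀ ≤ n →
      ∀ (B' : Type u) [CommRing B'] (g : B'), g ∈ nonZeroDivisors B' →
        ∀ φ' : (A' ⧸ Ideal.span {f ^ n}) ≃+* (B' ⧸ Ideal.span {g ^ n}),
        φ' (Ideal.Quotient.mk (Ideal.span {f ^ n}) f) = Ideal.Quotient.mk (Ideal.span {g ^ n}) g →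
        ∃ (B : Type u) (_ : CommRing B) (_ : Algebra B' B),
          Function.Injective (algebraMap B' B) ∧ Module.Finite B' B ∧
          ∃ φ : (A ⧸ Ideal.span {algebraMap A' A f}) ≃+* (B ⧸ Ideal.span {algebraMap B' B g}),
            ∀ (a' : A') (b' : B'),
              φ' (Ideal.Quotient.mk (Ideal.span {f ^ n}) a') = Ideal.Quotient.mk (Ideal.span {g ^ n}) b' →
              φ (Ideal.Quotient.mk (Ideal.span {algebraMap A' A f}) (algebraMap A' A a')) =
                Ideal.Quotient.mk (Ideal.span {algebraMap B' B g}) (algebraMap B' B b') := by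
  classical
  obtain ⟨m, hm⟩ := exists_pow_mul_mem_range f hf hloc
  refine ⟨2 * m + 1, by omega, fun n hn B' _ g hg φ' hφ' => ?_⟩
  obtain ⟨d, rfl⟩ : ∃ d, n = 2 * m + 1 + d := Nat.exists_eq_add_of_le hn
  set F := algebraMap A' A f with hFdef
  choose ν hν using hm
  have hνadd : ∀ x y, ν (x + y) = ν x + ν y := fun x y => hinj (by rw [map_add, hν, hν, hν, mul_add])
  have hνsmul : ∀ (c : A') x, ν (c • x) = c * ν x := fun c x => hinj (by
    rw [map_mul, hν, hν, Algebra.smul_def]; ring)
  have hνmul : ∀ x y, ν x * ν y = f ^ m * ν (x * y) := fun x y => hinj (by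
    rw [map_mul, map_mul, map_pow, hν, hν, hν, ← hFdef]; ring)
  have hν1 : ν 1 = f ^ m := hinj (by rw [hν, mul_one, map_pow])
  let N := Ideal.span {g ^ (2 * m + 1 + d)}
  let μ : A → B' ⧸ N := fun x => φ' (Ideal.Quotient.mk _ (ν x))
  have hg' : ∀ i : ℕ, φ' (Ideal.Quotient.mk _ (f ^ i)) = Ideal.Quotient.mk N (g ^ i) := fun i => by
    rw [map_pow, map_pow, hφ', ← map_pow]
  have hμadd : ∀ x y, μ (x + y) = μ x + μ y := fun x y => by simp only [μ, hνadd, map_add]
  have hμmul : ∀ x y, μ x * μ y = Ideal.Quotient.mk N (g ^ m) * μ (x * y) := fun x y => by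
    simp only [μ]; rw [← map_mul φ', ← map_mul, hνmul, map_mul, map_mul, hg']
  have hμ1 : μ 1 = Ideal.Quotient.mk N (g ^ m) := by simp only [μ, hν1, hg']
  let jl : A → B' := fun x => (Ideal.Quotient.mk_surjective (μ x)).choose
  have hjl : ∀ x, Ideal.Quotient.mk N (jl x) = μ x := fun x => (Ideal.Quotient.mk_surjective (μ x)).choose_spec
  -- the ring `B = J'/g^m`
  let L := Localization.Away g
  have hgL : IsUnit (algebraMap B' L g) := IsLocalization.Away.algebraMap_isUnit g
  have hLinj : Function.Injective (algebraMap B' L) :=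
    IsLocalization.injective L (M := Submonoid.powers g) (Submonoid.powers_le.mpr hg)
  let J : Ideal B' :=
    { carrier := {j | ∃ x, Ideal.Quotient.mk N j = μ x}
      add_mem' := fun {a b} ⟨x, hx⟩ ⟨y, hy⟩ => ⟨x + y, by rw [map_add, hx, hy, hμadd]⟩
      zero_mem' := ⟨0, by
        have h := hμadd 0 0
        rw [add_zero] at h
        rw [map_zero]
        exact (left_eq_add.mp h).symm⟩
      smul_mem' := fun c j ⟨x, hx⟩ => by
        obtain ⟨a, ha⟩ := Ideal.Quotient.mk_surjective (φ'.symm (Ideal.Quotient.mk N c))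
        refine ⟨a • x, ?_⟩
        simp only [μ, hνsmul, map_mul, ha, RingEquiv.apply_symm_apply, smul_eq_mul]
        rw [hx] }
  have hgN : ∀ i, m ≤ i → g ^ i ∈ J := fun i hi => by
    obtain ⟨r, rfl⟩ := Nat.exists_eq_add_of_le hi
    refine ⟨(f ^ r) • (1 : A), ?_⟩
    simp only [μ, hνsmul, hν1, map_mul, hg']
    rw [map_pow, map_pow, map_pow, ← pow_add, add_comm]
  let B : Subalgebra B' L :=
    { carrier := {z | ∃ j ∈ J, z * algebraMap B' L g ^ m = algebraMap B' L j}
      mul_mem' := fun {a b} ⟨i, ⟨x, hx⟩, ha⟩ ⟨j, ⟨y, hy⟩, hb⟩ => by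
        obtain ⟨c, hc⟩ := Ideal.Quotient.mk_surjective (μ (x * y))
        have h1 : i * j - g ^ m * c ∈ N := by
          rw [← Ideal.Quotient.eq_zero_iff_mem, map_sub, map_mul, map_mul, hx, hy, hμmul, hc, sub_self]
        obtain ⟨e, he⟩ := Ideal.mem_span_singleton'.mp h1
        refine ⟨c + e * g ^ (m + 1 + d), J.add_mem ⟨x * y, hc⟩ (J.mul_mem_left _ (hgN _ (by omega))), ?_⟩
        refine (hgL.pow m).mul_right_cancel ?_
        calc a * b * algebraMap B' L g ^ m * algebraMap B' L g ^ m
            = algebraMap B' L (i * j) := by rw [map_mul, ← ha, ← hb]; ring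
          _ = algebraMap B' L (c + e * g ^ (m + 1 + d)) * algebraMap B' L g ^ m := by
            rw [← map_pow, ← map_mul]
            congr 1
            rw [show i * j = e * g ^ (2 * m + 1 + d) + g ^ m * c by linear_combination -he]
            ring
      add_mem' := fun {a b} ⟨i, hi, ha⟩ ⟨j, hj, hb⟩ => ⟨i + j, J.add_mem hi hj, by rw [add_mul, ha, hb, map_add]⟩
      algebraMap_mem' := fun b => ⟨b * g ^ m, J.mul_mem_left _ (hgN m le_rfl), by rw [map_mul, map_pow]⟩ }
  have hel : ∀ j ∈ J, ∃ z : B, (z : L) * algebraMap B' L g ^ m = algebraMap B' L j := fun j hj => by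
    obtain ⟨z, hz⟩ := ((hgL.pow m).dvd (a := algebraMap B' L j))
    exact ⟨⟨z, j, hj, (mul_comm _ _).trans hz.symm⟩, (mul_comm _ _).trans hz.symm⟩
  choose bj hbj using hel
  have hbeq : ∀ (z : B) j (hj : j ∈ J), (z : L) * algebraMap B' L g ^ m = algebraMap B' L j → z = bj j hj :=
    fun z j hj h => Subtype.ext ((hgL.pow m).mul_right_cancel (h.trans (hbj j hj).symm))
  let G := Ideal.span {algebraMap B' B g}
  -- the map
  have key : ∀ (j : B') (hj : j ∈ J) (z : B) x, Ideal.Quotient.mk N j = μ x →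
      (z : L) * algebraMap B' L g ^ m = algebraMap B' L (jl x) → Ideal.Quotient.mk G (bj j hj) = Ideal.Quotient.mk G z := by
    intro j hj z x hjx hz
    rw [Ideal.Quotient.eq]
    have h1 : j - jl x ∈ N := by rw [← Ideal.Quotient.eq_zero_iff_mem, map_sub, hjx, hjl, sub_self]
    obtain ⟨e, he⟩ := Ideal.mem_span_singleton'.mp h1
    refine Ideal.mem_span_singleton'.mpr ⟨algebraMap B' B (e * g ^ (m + d)), Subtype.ext ((hgL.pow m).mul_right_cancel ?_)⟩
    show algebraMap B' L (e * g ^ (m + d)) * algebraMap B' L g * algebraMap B' L g ^ m =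
      ((bj j hj : L) - (z : L)) * algebraMap B' L g ^ m
    rw [sub_mul, hbj, hz, ← map_sub, ← he, ← map_pow, ← map_mul, ← map_mul]
    congr 1
    ring
  let β : A → B ⧸ G := fun x => Ideal.Quotient.mk G (bj (jl x) ⟨x, hjl x⟩)
  have hβ : ∀ (j : B') (hj : j ∈ J) x, Ideal.Quotient.mk N j = μ x → Ideal.Quotient.mk G (bj j hj) = β x :=
    fun j hj x hjx => key j hj _ x hjx (hbj _ _)
  let ψ : A →+* B ⧸ G := RingHom.mk' {
      toFun := β
      map_one' := by
        have h : Ideal.Quotient.mk N (g ^ m) = μ 1 := hμ1.symm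
        rw [← hβ (g ^ m) (hgN m le_rfl) 1 h, ← hbeq 1 (g ^ m) (hgN m le_rfl) (by rw [OneMemClass.coe_one, one_mul, map_pow]), map_one]
      map_mul' := fun x y => by
        obtain ⟨c, hc, hz⟩ := (bj (jl x) ⟨x, hjl x⟩ * bj (jl y) ⟨y, hjl y⟩).2
        show β (x * y) = Ideal.Quotient.mk G _ * Ideal.Quotient.mk G _
        rw [← map_mul, hbeq _ c hc hz]
        have h2 : c * g ^ m = jl x * jl y := hLinj (by
          rw [map_mul, map_mul, map_pow, ← hz, ← hbj (jl x) ⟨x, hjl x⟩, ← hbj (jl y) ⟨y, hjl y⟩, MulMemClass.coe_mul]; ring)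
        have h1 : jl x * jl y - g ^ m * jl (x * y) ∈ N := by
          rw [← Ideal.Quotient.eq_zero_iff_mem, map_sub, map_mul, map_mul, hjl, hjl, hjl, hμmul, sub_self]
        obtain ⟨e, he⟩ := Ideal.mem_span_singleton'.mp h1
        -- `c = jl (x * y) + e * g ^ (m + 1 + d)`
        have h3 : c = jl (x * y) + e * g ^ (m + 1 + d) := by
          have h4 : g ^ m * (c - (jl (x * y) + e * g ^ (m + 1 + d))) = 0 := by
            linear_combination h2 - he
          exact sub_eq_zero.mp ((mul_right_mem_nonZeroDivisors_eq_zero_iff (pow_mem hg m)).mp (by rw [mul_comm]; exact h4))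
        symm
        rw [Ideal.Quotient.eq]
        refine Ideal.mem_span_singleton'.mpr ⟨algebraMap B' B (e * g ^ d), Subtype.ext ((hgL.pow m).mul_right_cancel ?_)⟩
        show algebraMap B' L (e * g ^ d) * algebraMap B' L g * algebraMap B' L g ^ m =
          ((bj c hc : L) - (bj (jl (x * y)) ⟨x * y, hjl _⟩ : L)) * algebraMap B' L g ^ m
        rw [sub_mul, hbj, hbj, ← map_sub, h3, add_sub_cancel_left, ← map_pow, ← map_mul, ← map_mul]
        congr 1
        ring }
    fun x y => by
      have hj : jl x + jl y ∈ J := ⟨x + y, by rw [map_add, hjl, hjl, hμadd]⟩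
      show β (x + y) = Ideal.Quotient.mk G _ + Ideal.Quotient.mk G _
      rw [← hβ _ hj (x + y) (by rw [map_add, hjl, hjl, hμadd]), ← map_add]
      congr 1
      exact (hbeq _ _ hj (by rw [AddMemClass.coe_add, add_mul, hbj, hbj, map_add])).symm
  have hψs : Function.Surjective ψ := fun z => by
    obtain ⟨z, rfl⟩ := Ideal.Quotient.mk_surjective z
    obtain ⟨j, ⟨x, hjx⟩, hz⟩ := z.2
    refine ⟨x, ?_⟩
    show β x = _
    rw [← hβ j ⟨x, hjx⟩ x hjx]
    exact congrArg _ (hbeq z j _ hz).symm
  have hsq : ∀ (a' : A') (b' : B'), φ' (Ideal.Quotient.mk _ a') = Ideal.Quotient.mk N b' →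
      ψ (algebraMap A' A a') = Ideal.Quotient.mk G (algebraMap B' B b') := fun a' b' h => by
    have hj : Ideal.Quotient.mk N (b' * g ^ m) = μ (algebraMap A' A a') := by
      simp only [μ]
      rw [show ν (algebraMap A' A a') = a' * f ^ m from hinj (by rw [hν, map_mul, map_pow, mul_comm]),
        map_mul, map_mul, map_mul φ', h, hg']
    show β _ = _
    rw [← hβ (b' * g ^ m) ⟨_, hj⟩ _ hj]
    refine congrArg _ (hbeq _ _ _ ?_).symm
    show algebraMap B' L b' * algebraMap B' L g ^ m = _
    rw [map_mul, map_pow]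
  have hker : RingHom.ker ψ = Ideal.span {F} := by
    refine le_antisymm (fun x hx => ?_) ?_
    · have h0 : Ideal.Quotient.mk G (bj (jl x) ⟨x, hjl x⟩) = 0 := hx
      obtain ⟨w, hw⟩ := Ideal.mem_span_singleton'.mp (Ideal.Quotient.eq_zero_iff_mem.mp h0)
      obtain ⟨i, ⟨y, hy⟩, hi⟩ := w.2
      have h1 : jl x = i * g := hLinj (by
        rw [map_mul, ← hbj (jl x) ⟨x, hjl x⟩, ← hw, ← hi, MulMemClass.coe_mul]
        show (w : L) * algebraMap B' L g * _ = _
        ring)
      have h2 : μ x = μ (F * y) := by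
        rw [show F * y = f • y from (Algebra.smul_def f y).symm, ← hjl x, h1, map_mul, hy]
        simp only [μ, hνsmul, map_mul, hφ']
        rw [mul_comm]
      have h3 : ν x - ν (F * y) ∈ Ideal.span {f ^ (2 * m + 1 + d)} :=
        Ideal.Quotient.eq.mp (φ'.injective h2)
      obtain ⟨e, he⟩ := Ideal.mem_span_singleton'.mp h3
      have h4 : F ^ m * (x - F * y - algebraMap A' A e * F ^ (m + 1 + d)) = 0 := by
        have h5 := congrArg (algebraMap A' A) he
        rw [map_mul, map_sub, map_pow, hν, hν, ← hFdef] at h5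
        linear_combination -h5
      have h6 := (mul_right_mem_nonZeroDivisors_eq_zero_iff (pow_mem hf m)).mp (by rw [mul_comm]; exact h4)
      refine Ideal.mem_span_singleton'.mpr ⟨y + algebraMap A' A e * F ^ (m + d), ?_⟩
      linear_combination -h6
    · rw [Ideal.span_singleton_le_iff_mem, RingHom.mem_ker, hsq f g hφ', Ideal.Quotient.eq_zero_iff_mem]
      exact Ideal.mem_span_singleton_self _
  haveI : Module.Finite B' B := by
    obtain ⟨s, hs⟩ := (inferInstance : Module.Finite A' A).fg_top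
    let z₀ : B := bj (g ^ (2 * m + 1 + d)) (hgN _ (by omega))
    let S : Submodule B' B := Submodule.span B' ({z₀} ∪ (fun x => bj (jl x) ⟨x, hjl x⟩) '' (s : Set A))
    refine ⟨⟨insert z₀ (s.image fun x => bj (jl x) ⟨x, hjl x⟩), ?_⟩⟩
    rw [Finset.coe_insert, Finset.coe_image, ← Set.singleton_union, eq_top_iff]
    intro z _
    obtain ⟨j, ⟨x, hjx⟩, hz⟩ := z.2
    have main : ∀ x : A, x ∈ Submodule.span A' (s : Set A) → ∀ j (hj : j ∈ J), Ideal.Quotient.mk N j = μ x → bj j hj ∈ S := by
      intro x hx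
      induction hx using Submodule.span_induction with
      | mem y hy =>
        intro j hj hjy
        have h1 : j - jl y ∈ N := by rw [← Ideal.Quotient.eq_zero_iff_mem, map_sub, hjy, hjl, sub_self]
        obtain ⟨e, he⟩ := Ideal.mem_span_singleton'.mp h1
        rw [show bj j hj = bj (jl y) ⟨y, hjl y⟩ + e • z₀ from (hbeq _ j hj (by
          rw [AddMemClass.coe_add, Subalgebra.coe_smul, add_mul, hbj, Algebra.smul_def, mul_assoc, hbj, ← map_mul, ← map_add, he, add_sub_cancel])).symm]
        exact S.add_mem (Submodule.subset_span (Or.inr ⟨y, hy, rfl⟩)) (S.smul_mem _ (Submodule.subset_span (Or.inl rfl)))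
      | zero =>
        intro j hj hjy
        have h1 : j ∈ N := by
          rw [← Ideal.Quotient.eq_zero_iff_mem, hjy]
          have h := hμadd 0 0
          rw [add_zero] at h
          exact left_eq_add.mp h
        obtain ⟨e, he⟩ := Ideal.mem_span_singleton'.mp h1
        rw [show bj j hj = e • z₀ from (hbeq _ j hj (by
          rw [Subalgebra.coe_smul, Algebra.smul_def, mul_assoc, hbj, ← map_mul, he])).symm]
        exact S.smul_mem _ (Submodule.subset_span (Or.inl rfl))
      | add y y' _ _ ih ih' =>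
        intro j hj hjy
        obtain ⟨i, hi⟩ := Ideal.Quotient.mk_surjective (μ y)
        have hi2 : Ideal.Quotient.mk N (j - i) = μ y' := by rw [map_sub, hjy, hi, hμadd, add_sub_cancel_left]
        rw [show bj j hj = bj i ⟨y, hi⟩ + bj (j - i) ⟨y', hi2⟩ from (hbeq _ j hj (by
          rw [AddMemClass.coe_add, add_mul, hbj, hbj, ← map_add, add_sub_cancel])).symm]
        exact S.add_mem (ih i _ hi) (ih' _ _ hi2)
      | smul a y _ ih =>
        intro j hj hjy
        obtain ⟨i, hi⟩ := Ideal.Quotient.mk_surjective (μ y)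
        obtain ⟨c, hc⟩ := Ideal.Quotient.mk_surjective (φ' (Ideal.Quotient.mk _ a))
        have hμs : μ (a • y) = Ideal.Quotient.mk N c * μ y := by simp only [μ, hνsmul, map_mul, ← hc]; rfl
        have h1 : j - c * i ∈ N := by
          rw [← Ideal.Quotient.eq_zero_iff_mem, map_sub, map_mul, hjy, hμs, hi, sub_self]
        obtain ⟨e, he⟩ := Ideal.mem_span_singleton'.mp h1
        rw [show bj j hj = c • bj i ⟨y, hi⟩ + e • z₀ from (hbeq _ j hj (by
          rw [AddMemClass.coe_add, Subalgebra.coe_smul, Subalgebra.coe_smul, add_mul, Algebra.smul_def, Algebra.smul_def,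
            mul_assoc, mul_assoc, hbj, hbj, ← map_mul, ← map_mul, ← map_add, he, add_sub_cancel])).symm]
        exact S.add_mem (S.smul_mem _ (ih i _ hi)) (S.smul_mem _ (Submodule.subset_span (Or.inl rfl)))
    rw [hbeq z j ⟨x, hjx⟩ hz]
    exact main x (hs ▸ Submodule.mem_top) j _ hjx
  refine ⟨B, inferInstance, inferInstance, fun a b h => hLinj (congrArg Subtype.val h), inferInstance,
    (Ideal.quotEquivOfEq hker.symm).trans (RingHom.quotientKerEquivOfSurjective hψs), fun a' b' h => ?_⟩
  rw [RingEquiv.trans_apply, Ideal.quotEquivOfEq_mk, RingHom.quotientKerEquivOfSurjective_apply_mk]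
  exact hsq a' b' h

end Groth.Agent.HensEt88
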