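import Groth.Agent.EtAlgMax.Basic
import Groth.Agent.GrpSchLib.TensorDomain
import Mathlib.RingTheory.Etale.Descent
import Mathlib.RingTheory.Idempotents
import Mathlib.FieldTheory.PurelyInseparable.PerfectClosure
import Mathlib.FieldTheory.Normal.Closure

/-!
# The largest weakly étale subalgebra commutes with field extensions
-/

set_option autoImplicit false
set_option linter.style.haveILetI false

namespace Groth.Agent.HensEt88

universe u

open TensorProduct

/-- Idempotents lie in the largest weakly étale subalgebra. -/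
theorem idem_mem_max {K A : Type u} [Field K] [CommRing A] [Algebra K A] {e : A} (he : IsIdempotentElem e) :
    e ∈ EtAlgD.maxWeaklyEtale K A := by
  let φ : K × K →ₐ[K] A := AlgHom.ofLinearMap
    ((LinearMap.fst K K K).smulRight e + (LinearMap.snd K K K).smulRight (1 - e))
    (by simp)
    (fun x y => by
      have h1 : e * e = e := he
      simp only [LinearMap.add_apply, LinearMap.smulRight_apply, LinearMap.fst_apply, LinearMap.snd_apply,
        Prod.fst_mul, Prod.snd_mul, Algebra.smul_def, map_mul]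
      linear_combination (-(algebraMap K A x.1 * algebraMap K A y.1) + algebraMap K A x.1 * algebraMap K A y.2
        + algebraMap K A x.2 * algebraMap K A y.1 - algebraMap K A x.2 * algebraMap K A y.2) * h1)
  haveI : Algebra.Etale K (K × K) := Algebra.Etale.of_equiv
    (AlgEquiv.ofRingEquiv (f := RingEquiv.piFinTwo fun _ => K) fun _ => rfl : (Fin 2 → K) ≃ₐ[K] K × K)
  have h : φ (1, 0) = e := by simp [φ]
  exact EtAlgMax.le_max K (EtAlgMax.weaklyEtale_range K φ) ⟨(1, 0), h⟩

/-- Descent of membership along a field extension. -/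
theorem mem_max_of_tmul_mem {K E A : Type u} [Field K] [Field E] [Algebra K E] [CommRing A] [Algebra K A] {a : A}
    (h : (1 : E) ⊗ₜ[K] a ∈ EtAlgD.maxWeaklyEtale E (E ⊗[K] A)) : a ∈ EtAlgD.maxWeaklyEtale K A := by
  haveI := EtAlgMax.weaklyEtale_max E (A := E ⊗[K] A)
  let S : Subalgebra K A := Algebra.adjoin K {a}
  let j : E ⊗[K] S →ₐ[E] E ⊗[K] A := Algebra.TensorProduct.map (AlgHom.id E E) S.val
  have hjinj : Function.Injective j :=
    Module.Flat.lTensor_preserves_injective_linearMap (M := E) S.val.toLinearMap Subtype.val_injective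
  have hjM : ∀ x, j x ∈ EtAlgD.maxWeaklyEtale E (E ⊗[K] A) := by
    intro x
    induction x with
    | zero => simp
    | add p q hp hq => rw [map_add]; exact add_mem hp hq
    | tmul c s =>
      have h1 : j (c ⊗ₜ s) = algebraMap E (E ⊗[K] A) c * Algebra.TensorProduct.includeRight (R := K) (A := E) (s : A) := by
        simp [j]
      rw [h1]
      refine mul_mem (Subalgebra.algebraMap_mem _ c) ?_
      have : S ≤ ((EtAlgD.maxWeaklyEtale E (E ⊗[K] A)).restrictScalars K).comap Algebra.TensorProduct.includeRight :=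
        Algebra.adjoin_le (Set.singleton_subset_iff.mpr h)
      exact this s.2
  let j' : E ⊗[K] S →ₐ[E] EtAlgD.maxWeaklyEtale E (E ⊗[K] A) := j.codRestrict _ hjM
  have hj'inj : Function.Injective j' := fun x y hxy => hjinj (congrArg Subtype.val hxy)
  haveI : Algebra.FiniteType K S := S.fg_iff_finiteType.1 ⟨{a}, by simp [S]⟩
  haveI : Algebra.FiniteType E j'.range :=
    Algebra.FiniteType.of_surjective j'.rangeRestrict j'.rangeRestrict_surjective
  haveI := WEtLib.etale_subalgebra_of_fg (K := E) (B := EtAlgD.maxWeaklyEtale E (E ⊗[K] A)) j'.range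
    (j'.range.fg_iff_finiteType.2 inferInstance)
  haveI : Algebra.Etale E (E ⊗[K] S) := Algebra.Etale.of_equiv (A := j'.range) (AlgEquiv.ofInjective j' hj'inj).symm
  haveI : Algebra.Etale K S := Algebra.Etale.of_etale_tensorProduct_of_faithfullyFlat (R := K) (T := E)
  exact EtAlgMax.le_max K (S := S) inferInstance (Algebra.subset_adjoin rfl)

/-- The Galois step. -/
theorem mem_range_of_idem_galois {K A E : Type u} [Field K] [CommRing A] [Algebra K A] [Field E] [Algebra K E]
    [FiniteDimensional K E] [IsGalois K E] {e : E ⊗[K] A} (he : IsIdempotentElem e) :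
    e ∈ (Algebra.TensorProduct.map (AlgHom.id E E) (EtAlgD.maxWeaklyEtale K A).val).range := by
  classical
  let M := EtAlgD.maxWeaklyEtale K A
  let b := Module.finBasis K E
  let d := b.traceDual
  let bA := Algebra.TensorProduct.basis A b
  obtain ⟨c, hc⟩ : ∃ c : Fin (Module.finrank K E) → A, e = ∑ j, b j ⊗ₜ[K] c j := by
    clear he
    induction e with
    | zero => exact ⟨0, by simp⟩
    | add x y hx hy =>
      obtain ⟨c, rfl⟩ := hx
      obtain ⟨c', rfl⟩ := hy
      exact ⟨c + c', by simp [tmul_add, Finset.sum_add_distrib]⟩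
    | tmul x a =>
      refine ⟨fun j => b.repr x j • a, ?_⟩
      conv_lhs => rw [← b.sum_repr x, sum_tmul]
      exact Finset.sum_congr rfl fun j _ => smul_tmul _ _ _
  have hmem : ∀ i, c i ∈ M := by
    intro i
    refine mem_max_of_tmul_mem (E := E) ?_
    have h1 : (1 : E) ⊗ₜ[K] c i = ∑ σ : E ≃ₐ[K] E,
        algebraMap E (E ⊗[K] A) (σ (d i)) * Algebra.TensorProduct.map σ.toAlgHom (AlgHom.id K A) e := by
      rw [hc]
      simp only [map_sum, Algebra.TensorProduct.map_tmul, Finset.mul_sum, Algebra.TensorProduct.algebraMap_apply,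
        Algebra.algebraMap_self_apply, Algebra.TensorProduct.tmul_mul_tmul, one_mul, AlgHom.coe_id, id_eq,
        AlgEquiv.coe_toAlgHom, ← map_mul]
      rw [Finset.sum_comm]
      simp only [← sum_tmul, ← trace_eq_sum_automorphisms]
      rw [Finset.sum_eq_single i]
      · simp [d]
      · intro j _ hji
        simp [d, hji]
      · intro h; exact absurd (Finset.mem_univ i) h
    rw [h1]
    refine sum_mem fun σ _ => mul_mem (Subalgebra.algebraMap_mem _ _) (idem_mem_max ?_)
    exact he.map _
  exact ⟨∑ j, b j ⊗ₜ[K] (⟨c j, hmem j⟩ : M), by simp [hc, M]⟩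

/-- Idempotents over a normal extension. -/
theorem mem_range_of_idem_normal {K A E : Type u} [Field K] [CommRing A] [Algebra K A] [Field E] [Algebra K E]
    [FiniteDimensional K E] [Normal K E] {e : E ⊗[K] A} (he : IsIdempotentElem e) :
    e ∈ (Algebra.TensorProduct.map (AlgHom.id E E) (EtAlgD.maxWeaklyEtale K A).val).range := by
  classical
  rcases subsingleton_or_nontrivial A with hA | hA
  · refine ⟨0, ?_⟩
    rw [map_zero]
    clear he
    induction e with
    | zero => rfl
    | add x y hx hy => rw [← hx, ← hy, add_zero]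
    | tmul x a => rw [Subsingleton.elim a 0, tmul_zero]
  let F := separableClosure K E
  haveI : IsGalois K F := separableClosure.isGalois K E
  obtain ⟨p, hp⟩ := ExpChar.exists K
  haveI := expChar_of_injective_algebraMap (algebraMap K E).injective p
  haveI : ExpChar F p := expChar_of_injective_algebraMap (algebraMap K F).injective p
  haveI : Nontrivial (E ⊗[K] A) :=
    (Algebra.TensorProduct.includeRight_injective (R := K) (A := E) (B := A) (algebraMap K E).injective).nontrivial
  haveI : ExpChar (E ⊗[K] A) p :=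
    expChar_of_injective_algebraMap (algebraMap E (E ⊗[K] A)).injective p
  haveI : IsPurelyInseparable F E := inferInstance
  let ι : F ⊗[K] A →ₐ[K] E ⊗[K] A := Algebra.TensorProduct.map F.val (AlgHom.id K A)
  have hpow : ∀ z : E ⊗[K] A, ∃ n, z ^ p ^ n ∈ ι.range := by
    intro z
    induction z with
    | zero => exact ⟨0, by simp⟩
    | tmul x a =>
      obtain ⟨n, y, hy⟩ := IsPurelyInseparable.pow_mem F p x
      exact ⟨n, y ⊗ₜ (a ^ p ^ n), by
        rw [Algebra.TensorProduct.tmul_pow, ← hy]; rfl⟩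
    | add x y hx hy =>
      obtain ⟨n, hn⟩ := hx
      obtain ⟨m, hm⟩ := hy
      refine ⟨n + m, ?_⟩
      rw [add_pow_expChar_pow]
      refine add_mem ?_ ?_
      · rw [pow_add, pow_mul]; exact pow_mem hn _
      · rw [add_comm n m, pow_add, pow_mul]; exact pow_mem hm _
  obtain ⟨n, hn⟩ := hpow e
  rw [he.pow_eq (pow_ne_zero n (expChar_pos K p).ne')] at hn
  obtain ⟨e₀, rfl⟩ := hn
  have hιinj : Function.Injective ι :=
    Module.Flat.rTensor_preserves_injective_linearMap (M := A) F.val.toLinearMap Subtype.val_injective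
  have he₀ : IsIdempotentElem e₀ := hιinj (by rw [map_mul]; exact he)
  obtain ⟨w, hw⟩ := mem_range_of_idem_galois he₀
  refine ⟨Algebra.TensorProduct.map F.val (AlgHom.id K _) w, ?_⟩
  rw [← hw]
  clear hw
  induction w with
  | zero => simp
  | add x y hx hy => simp only [map_add, hx, hy]
  | tmul x y => simp [ι]

/-- Idempotents over an algebraic closure. -/
theorem mem_range_of_idem_algClosure {K A : Type u} [Field K] [CommRing A] [Algebra K A]
    {e : AlgebraicClosure K ⊗[K] A} (he : IsIdempotentElem e) :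
    e ∈ (Algebra.TensorProduct.map (AlgHom.id (AlgebraicClosure K) (AlgebraicClosure K))
      (EtAlgD.maxWeaklyEtale K A).val).range := by
  classical
  let Kb := AlgebraicClosure K
  have hfin : ∀ z : Kb ⊗[K] A, ∃ F : IntermediateField K Kb, FiniteDimensional K F ∧
      z ∈ Set.range (Algebra.TensorProduct.map F.val (AlgHom.id K A)) := by
    intro z
    induction z with
    | zero => exact ⟨⊥, inferInstance, 0, map_zero _⟩
    | tmul x a =>
      exact ⟨IntermediateField.adjoin K {x}, IntermediateField.adjoin.finiteDimensional (Algebra.IsIntegral.isIntegral x),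
        ⟨x, IntermediateField.mem_adjoin_simple_self K x⟩ ⊗ₜ a, rfl⟩
    | add x y hx hy =>
      obtain ⟨F, hF, x, rfl⟩ := hx
      obtain ⟨F', hF', y, rfl⟩ := hy
      haveI := hF
      haveI := hF'
      refine ⟨F ⊔ F', inferInstance,
        Algebra.TensorProduct.map (IntermediateField.inclusion (le_sup_left : F ≤ F ⊔ F')) (AlgHom.id K A) x +
        Algebra.TensorProduct.map (IntermediateField.inclusion (le_sup_right : F' ≤ F ⊔ F')) (AlgHom.id K A) y, ?_⟩
      rw [map_add, ← AlgHom.comp_apply, ← AlgHom.comp_apply, ← Algebra.TensorProduct.map_comp,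
        ← Algebra.TensorProduct.map_comp]
      rfl
  obtain ⟨F, hF, x, rfl⟩ := hfin e
  haveI := hF
  let N := IntermediateField.normalClosure K F Kb
  haveI : Normal K N := normalClosure.normal K F Kb
  haveI : FiniteDimensional K N := normalClosure.is_finiteDimensional K F Kb
  have hFN : F ≤ N := F.le_normalClosure
  let x' := Algebra.TensorProduct.map (IntermediateField.inclusion hFN) (AlgHom.id K A) x
  have hx' : Algebra.TensorProduct.map N.val (AlgHom.id K A) x' =
      Algebra.TensorProduct.map F.val (AlgHom.id K A) x := by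
    rw [← AlgHom.comp_apply, ← Algebra.TensorProduct.map_comp]; rfl
  have hNinj : Function.Injective (Algebra.TensorProduct.map N.val (AlgHom.id K A)) :=
    Module.Flat.rTensor_preserves_injective_linearMap (M := A) N.val.toLinearMap Subtype.val_injective
  have hx'i : IsIdempotentElem x' := hNinj (by rw [map_mul, hx']; exact he)
  obtain ⟨w, hw⟩ := mem_range_of_idem_normal hx'i
  refine ⟨Algebra.TensorProduct.map N.val (AlgHom.id K _) w, ?_⟩
  rw [← hx', ← hw]
  clear hw
  induction w with
  | zero => simp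
  | add x y hx hy => simp only [map_add, hx, hy]
  | tmul x y => simp

/-- Idempotents do not grow over an algebraically closed field. -/
theorem mem_range_of_idem_algClosed {k Ω B : Type u} [Field k] [IsAlgClosed k] [Field Ω] [Algebra k Ω]
    [CommRing B] [Algebra k B] {e : Ω ⊗[k] B} (he : IsIdempotentElem e) :
    ∃ b : B, IsIdempotentElem b ∧ e = 1 ⊗ₜ b := by
  classical
  obtain ⟨R, hR, x, rfl⟩ := GrpSchLib.exists_fg_mem_range_rTensor e
  haveI : Algebra.FiniteType k R := R.fg_iff_finiteType.1 hR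
  obtain ⟨φ⟩ : Nonempty (R →ₐ[k] k) := by
    obtain ⟨m, hm⟩ := Ideal.exists_maximal R
    haveI := hm
    letI := Ideal.Quotient.field m
    haveI : Algebra.FiniteType k (R ⧸ m) :=
      Algebra.FiniteType.of_surjective (Ideal.Quotient.mkₐ k m) Ideal.Quotient.mk_surjective
    haveI : Module.Finite k (R ⧸ m) := finite_of_finite_type_of_isJacobsonRing k (R ⧸ m)
    haveI : Algebra.IsIntegral k (R ⧸ m) := Algebra.IsIntegral.of_finite k _
    exact ⟨((AlgEquiv.ofBijective (Algebra.ofId k (R ⧸ m)) IsAlgClosed.algebraMap_bijective_of_isIntegral).symm.toAlgHom).comp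
      (Ideal.Quotient.mkₐ k m)⟩
  have hinj : Function.Injective (Algebra.TensorProduct.map R.val (AlgHom.id k B)) :=
    Module.Flat.rTensor_preserves_injective_linearMap (M := B) R.val.toLinearMap Subtype.val_injective
  have hxi : IsIdempotentElem x := hinj (by rw [map_mul]; exact he)
  let ev : R ⊗[k] B →ₐ[k] B :=
    Algebra.TensorProduct.lift ((Algebra.ofId k B).comp φ) (AlgHom.id k B) fun _ _ => Commute.all _ _
  refine ⟨ev x, hxi.map ev, ?_⟩
  suffices h : x = 1 ⊗ₜ ev x by
    conv_lhs => rw [h]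
    rw [Algebra.TensorProduct.map_tmul, map_one]; rfl
  refine eq_of_isNilpotent_sub_of_isIdempotentElem hxi
    ((hxi.map ev).map (Algebra.TensorProduct.includeRight : B →ₐ[k] R ⊗[k] B)) ?_
  rw [← mem_nilradical, nilradical_eq_sInf, Ideal.mem_sInf]
  intro Q hQ
  haveI : Q.IsPrime := hQ
  let p : Ideal B := Q.comap (Algebra.TensorProduct.includeRight : B →ₐ[k] R ⊗[k] B)
  haveI : p.IsPrime := Ideal.comap_isPrime _ _
  let g : R ⊗[k] B →ₐ[k] R ⊗[k] (B ⧸ p) := Algebra.TensorProduct.map (AlgHom.id k R) (Ideal.Quotient.mkₐ k p)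
  haveI : IsDomain (R ⊗[k] (B ⧸ p)) := by
    haveI : Nontrivial (R ⊗[k] (B ⧸ p)) :=
      (Algebra.TensorProduct.includeRight_injective (R := k) (A := R) (B := B ⧸ p) (algebraMap k R).injective).nontrivial
    haveI : NoZeroDivisors (R ⊗[k] (B ⧸ p)) := ⟨fun h => GrpSchLib.eq_zero_or_eq_zero_of_finiteType h⟩
    exact NoZeroDivisors.to_isDomain _
  have hgx : g x = 1 ⊗ₜ Ideal.Quotient.mk p (ev x) := by
    let ev' : R ⊗[k] (B ⧸ p) →ₐ[k] B ⧸ p :=
      Algebra.TensorProduct.lift ((Algebra.ofId k _).comp φ) (AlgHom.id k _) fun _ _ => Commute.all _ _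
    have hc : ev'.comp g = (Ideal.Quotient.mkₐ k p).comp ev := by
      refine Algebra.TensorProduct.ext (AlgHom.ext fun r => ?_) (AlgHom.ext fun b => ?_) <;> simp [ev', g, ev]
    have hc' : ev' (g x) = Ideal.Quotient.mk p (ev x) := AlgHom.congr_fun hc x
    rcases IsIdempotentElem.iff_eq_zero_or_one.mp (hxi.map g) with h | h
    · rw [← hc', h, map_zero, tmul_zero]
    · rw [← hc', h, map_one, Algebra.TensorProduct.one_def]
  have h0 : g (x - 1 ⊗ₜ ev x) = 0 := by
    rw [map_sub, hgx]; simp [g]
  have hker : RingHom.ker g = p.map (Algebra.TensorProduct.includeRight : B →ₐ[k] R ⊗[k] B) := by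
    rw [Algebra.TensorProduct.lTensor_ker _ Ideal.Quotient.mk_surjective]
    congr 1
    exact Ideal.mk_ker
  exact Ideal.map_comap_le (hker ▸ h0 : x - 1 ⊗ₜ ev x ∈ p.map (Algebra.TensorProduct.includeRight : B →ₐ[k] R ⊗[k] B))

/-- Over an algebraically closed field weakly étale elements are combinations of idempotents. -/
theorem mem_adjoin_idem {Ω X : Type u} [Field Ω] [IsAlgClosed Ω] [CommRing X] [Algebra Ω X] {z : X}
    (hz : z ∈ EtAlgD.maxWeaklyEtale Ω X) : z ∈ Algebra.adjoin Ω {e : X | IsIdempotentElem e} := by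
  classical
  haveI := EtAlgMax.weaklyEtale_max Ω (A := X)
  let M := EtAlgD.maxWeaklyEtale Ω X
  let T : Subalgebra Ω M := Algebra.adjoin Ω {(⟨z, hz⟩ : M)}
  haveI : Algebra.Etale Ω T := WEtLib.etale_subalgebra_of_fg T ⟨{⟨z, hz⟩}, by simp [T]⟩
  obtain ⟨I, hI, Ai, hF, hA, f, hsep⟩ := (Algebra.Etale.iff_exists_algEquiv_prod Ω T).mp inferInstance
  haveI := Fintype.ofFinite I
  let t : T := ⟨⟨z, hz⟩, Algebra.subset_adjoin rfl⟩
  have hbij : ∀ i, Function.Bijective (algebraMap Ω (Ai i)) := fun i => by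
    haveI := (hsep i).1
    haveI : Algebra.IsIntegral Ω (Ai i) := Algebra.IsIntegral.of_finite Ω _
    exact IsAlgClosed.algebraMap_bijective_of_isIntegral
  choose c hc using fun i => (hbij i).2 (f t i)
  have hft : f t = ∑ i, c i • Pi.single (M := fun i => Ai i) i 1 := by
    funext j
    rw [Finset.sum_apply, Finset.sum_eq_single j]
    · simp [Algebra.smul_def, hc]
    · intro b _ hbj; simp [Pi.single_apply, Ne.symm hbj]
    · simp
  let ι : T →ₐ[Ω] X := M.val.comp T.val
  have hz' : z = ι (f.symm (f t)) := by rw [f.symm_apply_apply]; rfl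
  rw [hz', hft, map_sum, map_sum]
  refine sum_mem fun i _ => ?_
  rw [map_smul, map_smul]
  refine Subalgebra.smul_mem _ (Algebra.subset_adjoin ?_) _
  show IsIdempotentElem _
  refine (IsIdempotentElem.map ?_ f.symm).map ι
  show _ * _ = _
  rw [← Pi.single_mul, one_mul]

/-- The largest weakly étale subalgebra commutes with extension of the base field. -/
theorem maxWeaklyEtale_baseChange (K L : Type u) [Field K] [Field L] [Algebra K L] (A : Type u) [CommRing A]
    [Algebra K A] :
    EtAlgD.maxWeaklyEtale L (L ⊗[K] A) =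
      Algebra.adjoin L ((Algebra.TensorProduct.includeRight : A →ₐ[K] L ⊗[K] A) '' (EtAlgD.maxWeaklyEtale K A : Set A)) := by
  classical
  let M := EtAlgD.maxWeaklyEtale K A
  haveI := EtAlgMax.weaklyEtale_max K (A := A)
  refine le_antisymm (fun z hz => ?_) ?_
  swap
  · rw [Algebra.adjoin_le_iff]
    rintro _ ⟨a, ha, rfl⟩
    exact EtAlgMax.le_max L (EtAlgMax.weaklyEtale_range L (Algebra.TensorProduct.map (AlgHom.id L L) M.val))
      ⟨1 ⊗ₜ ⟨a, ha⟩, by simp⟩
  haveI := EtAlgMax.weaklyEtale_max L (A := L ⊗[K] A)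
  let Ω := AlgebraicClosure L
  let Kb := AlgebraicClosure K
  let j : Kb →ₐ[K] Ω := IsAlgClosed.lift
  letI : Algebra Kb Ω := j.toRingHom.toAlgebra
  haveI : IsScalarTower K Kb Ω := .of_algebraMap_eq fun x => (j.commutes x).symm
  -- the image over `Ω`
  let φ : Ω ⊗[L] EtAlgD.maxWeaklyEtale L (L ⊗[K] A) →ₐ[Ω] Ω ⊗[K] A :=
    (Algebra.TensorProduct.cancelBaseChange K L Ω Ω A).toAlgHom.comp
      (Algebra.TensorProduct.map (AlgHom.id Ω Ω) (EtAlgD.maxWeaklyEtale L (L ⊗[K] A)).val)
  let ιL : L ⊗[K] A →ₐ[K] Ω ⊗[K] A := Algebra.TensorProduct.map (IsScalarTower.toAlgHom K L Ω) (AlgHom.id K A)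
  have hφ : φ (1 ⊗ₜ ⟨z, hz⟩) = ιL z := by
    show Algebra.TensorProduct.cancelBaseChange K L Ω Ω A (1 ⊗ₜ z) = ιL z
    clear hz
    induction z with
    | zero => simp
    | add x y hx hy => simp only [tmul_add, map_add, hx, hy]
    | tmul c a => simp [ιL, Algebra.smul_def]
  have hzΩ : ιL z ∈ EtAlgD.maxWeaklyEtale Ω (Ω ⊗[K] A) :=
    EtAlgMax.le_max Ω (EtAlgMax.weaklyEtale_range Ω φ) ⟨_, hφ⟩
  -- every idempotent over `Ω` comes from `M`
  let jM : Ω ⊗[K] M →ₐ[Ω] Ω ⊗[K] A := Algebra.TensorProduct.map (AlgHom.id Ω Ω) M.val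
  have hidem : Algebra.adjoin Ω {e : Ω ⊗[K] A | IsIdempotentElem e} ≤ jM.range := by
    rw [Algebra.adjoin_le_iff]
    intro e he
    let cb := Algebra.TensorProduct.cancelBaseChange K Kb Ω Ω A
    obtain ⟨b, hb, hb'⟩ := mem_range_of_idem_algClosed (k := Kb) (Ω := Ω) (B := Kb ⊗[K] A)
      ((he : IsIdempotentElem e).map cb.symm)
    obtain ⟨w, rfl⟩ := mem_range_of_idem_algClosure hb
    rw [show e = cb (cb.symm e) from (cb.apply_symm_apply e).symm, hb']
    clear hb hb'
    induction w with
    | zero => exact ⟨0, by simp⟩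
    | add x y hx hy =>
      obtain ⟨p, hp⟩ := hx
      obtain ⟨q, hq⟩ := hy
      exact ⟨p + q, by simp only [map_add, hp, hq, tmul_add]⟩
    | tmul c m => exact ⟨algebraMap Kb Ω c ⊗ₜ m, by simp [jM, cb, Algebra.smul_def]⟩
  obtain ⟨w, hw⟩ := hidem (mem_adjoin_idem hzΩ)
  -- descend to `L`
  let q : A →ₗ[K] A ⧸ Subalgebra.toSubmodule M := (Subalgebra.toSubmodule M).mkQ
  have hMq : Function.Exact M.val.toLinearMap q := by
    intro a
    constructor
    · exact fun ha => ⟨⟨a, (Submodule.Quotient.mk_eq_zero _).mp ha⟩, rfl⟩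
    · rintro ⟨m, rfl⟩
      exact (Submodule.Quotient.mk_eq_zero _).mpr m.2
  have hex : Function.Exact (LinearMap.lTensor L M.val.toLinearMap) (LinearMap.lTensor L q) :=
    lTensor_exact L hMq (Submodule.mkQ_surjective _)
  have hqz : LinearMap.lTensor L q z = 0 := by
    refine Module.Flat.rTensor_preserves_injective_linearMap (M := A ⧸ Subalgebra.toSubmodule M)
      (IsScalarTower.toAlgHom K L Ω).toLinearMap (algebraMap L Ω).injective ?_
    rw [map_zero, ← LinearMap.comp_apply, LinearMap.rTensor_comp_lTensor, ← LinearMap.lTensor_comp_rTensor,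
      LinearMap.comp_apply]
    show LinearMap.lTensor Ω q (ιL z) = 0
    rw [← hw]
    clear hw
    induction w with
    | zero => simp
    | add x y hx hy => simp only [map_add, hx, hy, add_zero]
    | tmul c m =>
      show c ⊗ₜ[K] q (m : A) = 0
      rw [show q (m : A) = 0 from (Submodule.Quotient.mk_eq_zero _).mpr m.2, tmul_zero]
  obtain ⟨v, rfl⟩ := (hex z).mp hqz
  clear hz hφ hzΩ hw hqz
  induction v with
  | zero => simp
  | add x y hx hy => rw [map_add]; exact add_mem hx hy
  | tmul c m =>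
    show c ⊗ₜ[K] (m : A) ∈ _
    rw [show c ⊗ₜ[K] (m : A) = c • ((Algebra.TensorProduct.includeRight : A →ₐ[K] L ⊗[K] A) (m : A)) by
      simp [TensorProduct.smul_tmul']]
    exact Subalgebra.smul_mem _ (Algebra.subset_adjoin (Set.mem_image_of_mem _ m.2)) _

end Groth.Agent.HensEt88
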