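import Groth.Agent.HensEt88.InsepPerturb
import Groth.Agent.N12Aux.Nagata

/-!
# Valuation subrings over a Nagata discrete valuation ring
-/

set_option autoImplicit false
set_option linter.style.haveILetI false
set_option linter.unusedSectionVars false

namespace Groth.Agent.HensEt88

universe u

open IsLocalRing

variable {B L M : Type u} [CommRing B] [IsDomain B] [IsDiscreteValuationRing B] [Field L] [Algebra B L]
  [IsFractionRing B L] [Field M] [Algebra L M] [Algebra B M] [IsScalarTower B L M] [FiniteDimensional L M]

include L in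
/-- A valuation subring dominating a Nagata DVR in a finite extension is a localization of the normalization. -/
theorem dvr_of_dominates_nagata (hB : CAlg.IsNagata B) (W : ValuationSubring M)
    (hW : EtRam.Dominates B (algebraMap B M) W) :
    IsDiscreteValuationRing W ∧
      ∀ w ∈ W, ∃ d : M, IsIntegral B d ∧ W.valuation d = 1 ∧ IsIntegral B (d * w) := by
  classical
  let O := integralClosure B M
  haveI : Module.Finite B O := N12Aux.finite_of_isN2 (N12Aux.isN2_of_isNagata hB) L M
  haveI : IsFractionRing O M := integralClosure.isFractionRing_of_finite_extension L M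
  haveI : IsNoetherianRing O := IsNoetherianRing.of_finite B O
  haveI : IsIntegrallyClosed O := integralClosure.isIntegrallyClosedOfFiniteExtension L
  haveI : Algebra.IsIntegral B O := Algebra.IsIntegral.of_finite B O
  have hinjB : Function.Injective (algebraMap B M) := by
    rw [IsScalarTower.algebraMap_eq B L M]
    exact (algebraMap L M).injective.comp (IsFractionRing.injective B L)
  haveI : Ring.DimensionLEOne O := ⟨fun {P} hP0 hP => by
    haveI := hP
    refine Ideal.isMaximal_of_isIntegral_of_isMaximal_comap (R := B) P ?_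
    refine (Ideal.comap_isPrime _ P).isMaximal ?_
    exact Ideal.comap_ne_bot_of_integral_mem (x := (Submodule.exists_mem_ne_zero_of_ne_bot hP0).choose)
      (Submodule.exists_mem_ne_zero_of_ne_bot hP0).choose_spec.2
      (Submodule.exists_mem_ne_zero_of_ne_bot hP0).choose_spec.1 (Algebra.IsIntegral.isIntegral _)⟩
  haveI : IsDedekindDomain O := { }
  have hOW : ∀ o : O, (o : M) ∈ W := fun o => by
    obtain ⟨P, hP, hPx⟩ := o.2
    have h1 : IsIntegral W (o : M) := ⟨P.map ((algebraMap B M).codRestrict W hW.1), hP.map _, by
      rw [Polynomial.eval₂_map]; exact hPx⟩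
    obtain ⟨v, hv⟩ := IsIntegrallyClosed.isIntegral_iff.mp h1
    exact hv ▸ v.2
  let f : O →+* W := (O.val.toRingHom).codRestrict W hOW
  let P : Ideal O := (maximalIdeal W).comap f
  haveI : P.IsPrime := Ideal.comap_isPrime _ _
  have hP0 : P ≠ ⊥ := by
    obtain ⟨b, hb⟩ := IsDiscreteValuationRing.exists_irreducible B
    intro h
    have hmem : algebraMap B O b ∈ P := (W.valuation_lt_one_iff (f (algebraMap B O b))).mpr (hW.2 b hb.not_isUnit)
    rw [h, Ideal.mem_bot] at hmem
    exact hb.ne_zero (hinjB (by rw [map_zero]; exact congrArg Subtype.val hmem))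
  let R := Localization.AtPrime P
  haveI : IsDiscreteValuationRing R :=
    IsLocalization.AtPrime.isDiscreteValuationRing_of_dedekind_domain O hP0 R
  have hu : ∀ s : P.primeCompl, IsUnit ((algebraMap O M) s) := fun s => isUnit_iff_ne_zero.mpr fun h =>
    s.2 (by rw [show (s : O) = 0 from Subtype.ext h]; exact P.zero_mem)
  letI : Algebra R M := (IsLocalization.lift hu : R →+* M).toAlgebra
  haveI : IsScalarTower O R M := IsScalarTower.of_algebraMap_eq fun o => (IsLocalization.lift_eq hu o).symm
  haveI : IsFractionRing R M :=
    IsFractionRing.isFractionRing_of_isDomain_of_isLocalization P.primeCompl R M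
  have hfu : ∀ s : P.primeCompl, IsUnit (f s) := fun s => by_contra fun h => s.2 h
  have hs1 : ∀ s : P.primeCompl, W.valuation ((s : O) : M) = 1 := fun s => by
    refine le_antisymm ((W.valuation_le_one_iff _).mpr (hOW _)) (not_lt.mp fun hlt => ?_)
    exact s.2 ((W.valuation_lt_one_iff (f s)).mpr hlt)
  have hRval : ∀ (o : O) (s : P.primeCompl), algebraMap R M (IsLocalization.mk' R o s) * ((s : O) : M) = (o : M) := fun o s => by
    rw [show ((s : O) : M) = algebraMap R M (algebraMap O R (s : O)) from IsScalarTower.algebraMap_apply O R M (s : O),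
      ← map_mul, IsLocalization.mk'_spec, ← IsScalarTower.algebraMap_apply]
    rfl
  have hdom : EtRam.Dominates R ((RingHom.id M).comp (algebraMap R M)) W := by
    refine ⟨fun r => ?_, fun r hr => ?_⟩
    · obtain ⟨o, s, rfl⟩ := IsLocalization.exists_mk'_eq P.primeCompl r
      refine (W.valuation_le_one_iff _).mp ?_
      have h1 := congrArg W.valuation (hRval o s)
      rw [map_mul, hs1, mul_one] at h1
      rw [RingHom.id_comp, h1]
      exact (W.valuation_le_one_iff _).mpr (hOW o)
    · obtain ⟨o, s, rfl⟩ := IsLocalization.exists_mk'_eq P.primeCompl r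
      have h1 := congrArg W.valuation (hRval o s)
      rw [map_mul, hs1, mul_one] at h1
      rw [RingHom.id_comp, h1]
      have ho : o ∈ P := by
        by_contra ho
        exact hr ((IsLocalization.AtPrime.isUnit_mk'_iff R P o s).mpr ho)
      exact (W.valuation_lt_one_iff (f o)).mp ho
  have hsurj : ∀ w ∈ W, ∃ r : R, algebraMap R M r = w := fun w hw => exists_of_map_mem (RingHom.id M) hdom hw
  refine ⟨?_, fun w hw => ?_⟩
  · let e : R →+* W := (algebraMap R M).codRestrict W hdom.1
    have he : Function.Bijective e :=
      ⟨fun a b h => IsFractionRing.injective R M (congrArg Subtype.val h), fun w => by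
        obtain ⟨r, hr⟩ := hsurj w w.2
        exact ⟨r, Subtype.ext hr⟩⟩
    exact IsDiscreteValuationRing.RingEquivClass.isDiscreteValuationRing (RingEquiv.ofBijective e he)
  · obtain ⟨r, rfl⟩ := hsurj w hw
    obtain ⟨o, s, rfl⟩ := IsLocalization.exists_mk'_eq P.primeCompl r
    exact ⟨((s : O) : M), (s : O).2, hs1 s, by rw [mul_comm, hRval]; exact o.2⟩

include L in
/-- A common denominator for finitely many elements. -/
theorem exists_common_denominator (s : Finset M) :
    ∃ e : B, e ≠ 0 ∧ ∀ m ∈ s, IsIntegral B (algebraMap B M e * m) := by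
  classical
  haveI : Algebra.IsAlgebraic B L := IsLocalization.isAlgebraic L (nonZeroDivisors B)
  haveI : Algebra.IsAlgebraic B M := Algebra.IsAlgebraic.trans B L M
  obtain ⟨e, he, h⟩ := Algebra.IsAlgebraic.exists_integral_multiples B s
  exact ⟨e, he, fun m hm => by rw [← Algebra.smul_def]; exact h m hm⟩

end Groth.Agent.HensEt88
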