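import Groth.Agent.BrnchLib.NormBij
import Groth.Agent.Hensel.Henselization
import Groth.Agent.Hensel.HenselizationDescent

set_option autoImplicit false
set_option linter.style.haveILetI false

/-!
# The normalization of a reduced Noetherian local ring is semilocal
-/

universe u

open IsLocalRing

namespace Groth.Agent.HensEt88

noncomputable section

theorem finite_maximalSpectrum_normRed (A : Type u) [CommRing A] [IsLocalRing A] [IsNoetherianRing A] :
    Finite (MaximalSpectrum (CAlg2.normRed A)) := by
  haveI : Finite (minimalPrimes A) := (minimalPrimes.finite_of_isNoetherianRing A).to_subtype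
  haveI := Hensel.isHenselization_localHenz A
  haveI : IsNoetherianRing (Hensel.LocalHenz A) := Hensel.isNoetherianRing_henz
  obtain ⟨e⟩ := BrnchLib.nonempty_minimalPrimes_equiv_maximalSpectrum A (Hensel.LocalHenz A) (CAlg2.normRed A)
    (fun m _ => BrnchLib.isDomain_normal_localization (BrnchLib.comps A) m) (BrnchLib.bijOn_normRed A)
    (BrnchLib.birational_normRed A)
  haveI : Finite (minimalPrimes (Hensel.LocalHenz A)) :=
    (minimalPrimes.finite_of_isNoetherianRing _).to_subtype
  exact Finite.of_equiv _ e

/-- A ring isomorphism extends to the integral closures in total fraction rings. -/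
theorem exists_integralClosure_equiv {R T : Type u} [CommRing R] [CommRing T] (e : R ≃+* T) :
    Nonempty (integralClosure R (FractionRing R) ≃+* integralClosure T (FractionRing T)) := by
  let ε : FractionRing R ≃+* FractionRing T := IsFractionRing.ringEquivOfRingEquiv e
  have hε : ∀ r, ε (algebraMap R (FractionRing R) r) = algebraMap T (FractionRing T) (e r) := fun r =>
    IsFractionRing.ringEquivOfRingEquiv_algebraMap e r
  have key : ∀ x, IsIntegral R x ↔ IsIntegral T (ε x) := fun x => by
    constructor
    · rintro ⟨p, hp, hx⟩
      refine ⟨p.map e.toRingHom, hp.map _, ?_⟩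
      rw [Polynomial.eval₂_map, show (algebraMap T (FractionRing T)).comp e.toRingHom =
        ε.toRingHom.comp (algebraMap R (FractionRing R)) from RingHom.ext fun r => (hε r).symm]
      exact (Polynomial.hom_eval₂ p (algebraMap R _) ε.toRingHom x).symm.trans
        (by rw [hx, map_zero])
    · rintro ⟨p, hp, hx⟩
      refine ⟨p.map e.symm.toRingHom, hp.map _, ε.injective ?_⟩
      rw [map_zero, ← hx, Polynomial.eval₂_map]
      refine (Polynomial.hom_eval₂ p _ ε.toRingHom x).trans ?_
      congr 1
      refine RingHom.ext fun t => ?_
      show ε (algebraMap R _ (e.symm t)) = _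
      rw [hε, e.apply_symm_apply]
  exact ⟨{ toFun := fun x => ⟨ε x, (key _).mp x.2⟩
           invFun := fun y => ⟨ε.symm y, (key _).mpr (by rw [ε.apply_symm_apply]; exact y.2)⟩
           left_inv := fun x => Subtype.ext (ε.symm_apply_apply _)
           right_inv := fun y => Subtype.ext (ε.apply_symm_apply _)
           map_mul' := fun x y => Subtype.ext (map_mul ε x.1 y.1)
           map_add' := fun x y => Subtype.ext (map_add ε x.1 y.1) }⟩

theorem finite_maximalSpectrum_integralClosure (E : Type u) [CommRing E] [IsLocalRing E] [IsNoetherianRing E]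
    [IsReduced E] : Finite (MaximalSpectrum (integralClosure E (FractionRing E))) := by
  haveI := finite_maximalSpectrum_normRed E
  let e₀ : CAlg2.red E ≃+* E :=
    (Ideal.quotEquivOfEq (nilradical_eq_zero E)).trans (RingEquiv.quotientBot E)
  obtain ⟨e⟩ := exists_integralClosure_equiv e₀
  refine Finite.of_injective (fun M : MaximalSpectrum (integralClosure E (FractionRing E)) =>
    (⟨M.asIdeal.comap e.toRingHom, Ideal.comap_isMaximal_of_surjective _ e.surjective⟩ :
      MaximalSpectrum (CAlg2.normRed E))) fun M M' h => ?_
  exact MaximalSpectrum.ext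
    (Ideal.comap_injective_of_surjective _ e.surjective (congrArg MaximalSpectrum.asIdeal h))

end

end Groth.Agent.HensEt88
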