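import Groth.Agent.HensEt88.StrictFrac
import Groth.Agent.EtStalk.Normal
import Groth.Agent.FlatFibres.TorAmpWEtale
import Groth.Agent.S16438
import Groth.Agent.S2748
import Mathlib.RingTheory.DedekindDomain.IntegralClosure

/-!
# A strict henselization of a normal ring meets finite subextensions in essentially étale algebras
-/

set_option autoImplicit false
set_option linter.style.haveILetI false

namespace Groth.Agent.HensEt88

universe u

open IsLocalRing TensorProduct

section Flat

variable (A S C : Type u) [CommRing A] [CommRing S] [IsLocalRing S] [IsDomain S] [Algebra A S]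
  [Algebra.WeaklyEtale A S] [CommRing C] [IsDomain C] [IsIntegrallyClosed C] [Algebra A C]
  [Algebra.IsIntegral A C] [Algebra C S] [IsScalarTower A C S]

include A in
/-- A weakly étale local domain receiving a normal integral extension is flat over it. -/
theorem flat_of_normal_intermediate : Module.Flat C S := by
  let T := C ⊗[A] S
  let μ : T →ₐ[C] S := Algebra.TensorProduct.lift (Algebra.ofId C S) (AlgHom.id A S) fun _ _ => Commute.all _ _
  have hμ : Function.Surjective μ := fun s => ⟨1 ⊗ₜ s, by
    show (Algebra.TensorProduct.lift _ _ _) ((1 : C) ⊗ₜ[A] s) = s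
    rw [Algebra.TensorProduct.lift_tmul, map_one, one_mul, AlgHom.id_apply]⟩
  have hμs : ∀ s : S, μ ((1 : C) ⊗ₜ[A] s) = s := fun s => by
    show (Algebra.TensorProduct.lift _ _ _) ((1 : C) ⊗ₜ[A] s) = s
    rw [Algebra.TensorProduct.lift_tmul, map_one, one_mul, AlgHom.id_apply]
  let q : Ideal T := (maximalIdeal S).comap μ
  haveI : q.IsPrime := Ideal.comap_isPrime _ _
  let T' := Localization.AtPrime q
  haveI : Algebra.WeaklyEtale T T' := Groth.Agent.WLocalLib.weaklyEtale_localization q.primeCompl T'
  haveI : Algebra.WeaklyEtale C T' := Algebra.WeaklyEtale.trans C T T'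
  obtain ⟨hdom, -⟩ := Groth.Agent.EtStalk.normal_of_weaklyEtale_local C T'
  have hu : ∀ y : q.primeCompl, IsUnit (μ y) := fun y => notMem_maximalIdeal.mp y.2
  let μ' : T' →ₐ[C] S := IsLocalization.liftAlgHom (M := q.primeCompl) (f := μ) hu
  have hμ' : ∀ t : T, μ' (algebraMap T T' t) = μ t := fun t => IsLocalization.lift_eq _ t
  have hsurj : Function.Surjective μ' := fun s => by
    obtain ⟨t, rfl⟩ := hμ s
    exact ⟨algebraMap T T' t, hμ' t⟩
  have hinj : Function.Injective μ' := by
    rw [injective_iff_map_eq_zero]
    intro z hz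
    obtain ⟨t, y, rfl⟩ := IsLocalization.exists_mk'_eq q.primeCompl z
    have hspec := IsLocalization.mk'_spec T' t y
    have ht : μ' (algebraMap T T' t) = 0 := by rw [← hspec, map_mul, hz, zero_mul]
    have ht0 : algebraMap T T' t = 0 := by
      by_contra hne
      letI : Algebra S T := (Algebra.TensorProduct.includeRight : S →ₐ[A] C ⊗[A] S).toRingHom.toAlgebra
      have hint : ∀ u : T, IsIntegral S u := fun u => by
        induction u using TensorProduct.induction_on with
        | zero => exact isIntegral_zero
        | tmul c s =>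
          have h1 : IsIntegral S (c ⊗ₜ[A] (1 : S)) := by
            obtain ⟨P, hP, hPc⟩ := Algebra.IsIntegral.isIntegral (R := A) c
            refine ⟨P.map (algebraMap A S), hP.map _, ?_⟩
            have h2 : Polynomial.aeval ((Algebra.TensorProduct.includeLeft : C →ₐ[A] C ⊗[A] S) c) P = 0 := by
              rw [Polynomial.aeval_algHom_apply, Polynomial.aeval_def, hPc, map_zero]
            rw [Polynomial.eval₂_map]
            rw [Polynomial.aeval_def,
              ← (Algebra.TensorProduct.includeRight : S →ₐ[A] C ⊗[A] S).comp_algebraMap] at h2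
            exact h2
          have h3 : c ⊗ₜ[A] s = (c ⊗ₜ[A] (1 : S)) * algebraMap S T s := by
            show c ⊗ₜ[A] s = (c ⊗ₜ[A] (1 : S)) * ((1 : C) ⊗ₜ[A] s)
            rw [Algebra.TensorProduct.tmul_mul_tmul, mul_one, one_mul]
          rw [h3]
          exact h1.mul isIntegral_algebraMap
        | add a b ha hb => exact ha.add hb
      have halg : IsAlgebraic S (algebraMap T T' t) := by
        have h4 : IsIntegral S (algebraMap T T' t) := (hint t).map (IsScalarTower.toAlgHom S T T')
        exact h4.isAlgebraic
      obtain ⟨r, hr, d, hd⟩ := halg.exists_nonzero_dvd (mem_nonZeroDivisors_of_ne_zero hne)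
      apply hr
      have h5 : μ' (algebraMap S T' r) = r := by
        rw [IsScalarTower.algebraMap_apply S T T', hμ']
        exact hμs r
      rw [← h5, hd, map_mul, ht, zero_mul]
    exact IsLocalization.mk'_eq_zero_iff t y |>.mpr
      ((IsLocalization.map_eq_zero_iff q.primeCompl T' t).mp ht0)
  exact Module.Flat.of_linearEquiv (AlgEquiv.ofBijective μ' ⟨hinj, hsurj⟩).symm.toLinearEquiv

end Flat

variable (A S : Type u) [CommRing A] [IsLocalRing A] [IsDomain A] [IsIntegrallyClosed A] [IsNoetherianRing A]
  [CommRing S] [IsLocalRing S] [Algebra A S] [IsLocalHom (algebraMap A S)] [Hensel.IsStrictHenselization A S]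
  [IsDomain S]

omit [IsDomain A] [IsIntegrallyClosed A] in
set_option maxHeartbeats 2000000 in
/-- The localization of a finite normal intermediate algebra at its centre is essentially étale in `S`. -/
theorem exists_essEtale_of_normal_finite (C : Type u) [CommRing C] [IsDomain C] [IsIntegrallyClosed C] [Algebra A C]
    [Module.Finite A C] [Algebra C S] [IsScalarTower A C S] [Algebra.WeaklyEtale A S]
    (hCinj : Function.Injective (algebraMap C S)) :
    ∃ D : Subalgebra A S, (∃ _ : IsLocalRing D, IsLocalHom (algebraMap D S) ∧ EGA4loc.IsEssentiallyEtale A D) ∧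
      (∀ x ∈ D, ∃ a b : C, IsUnit (algebraMap C S b) ∧ x * algebraMap C S b = algebraMap C S a) ∧
      ∀ (x : S) (a b : C), b ≠ 0 → x * algebraMap C S b = algebraMap C S a → x ∈ D := by
  classical
  haveI : Algebra.IsIntegral A C := Algebra.IsIntegral.of_finite A C
  haveI : Module.Flat C S := flat_of_normal_intermediate A S C
  let n : Ideal C := (maximalIdeal S).comap (algebraMap C S)
  haveI : n.IsPrime := Ideal.comap_isPrime _ _
  let Cn := Localization.AtPrime n
  have hun : ∀ y : n.primeCompl, IsUnit (algebraMap C S y) := fun y => notMem_maximalIdeal.mp y.2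
  letI : Algebra Cn S := (IsLocalization.lift hun).toAlgebra
  haveI : IsScalarTower C Cn S := .of_algebraMap_eq fun c => (IsLocalization.lift_eq hun c).symm
  haveI : IsScalarTower A Cn S := .of_algebraMap_eq fun a => by
    rw [IsScalarTower.algebraMap_apply A C Cn, ← IsScalarTower.algebraMap_apply C Cn S,
      ← IsScalarTower.algebraMap_apply A C S]
  haveI : Module.Flat Cn S := (Module.flat_iff_of_isLocalization Cn n.primeCompl (M := S)).mpr inferInstance
  haveI : IsLocalHom (algebraMap Cn S) := ⟨fun z hz => by
    obtain ⟨c, y, rfl⟩ := IsLocalization.exists_mk'_eq n.primeCompl z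
    rw [IsLocalization.AtPrime.isUnit_mk'_iff]
    intro hc
    have h1 := hz.mul (hun y)
    rw [IsScalarTower.algebraMap_apply C Cn S, ← map_mul, IsLocalization.mk'_spec,
      ← IsScalarTower.algebraMap_apply] at h1
    exact hc h1⟩
  haveI : Module.FaithfullyFlat Cn S := Module.FaithfullyFlat.of_flat_of_isLocalHom
  let π : Cn →ₐ[A] (IsScalarTower.toAlgHom A Cn S).range := (IsScalarTower.toAlgHom A Cn S).rangeRestrict
  have hπ : Function.Surjective π := (IsScalarTower.toAlgHom A Cn S).rangeRestrict_surjective
  let D := (IsScalarTower.toAlgHom A Cn S).range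
  haveI : IsLocalRing D := IsLocalRing.of_surjective' π.toRingHom hπ
  haveI : IsLocalHom (algebraMap D S) := ⟨fun d hd => by
    obtain ⟨z, rfl⟩ := hπ d
    exact (IsUnit.of_map (algebraMap Cn S) z hd).map π⟩
  haveI : Algebra.EssFiniteType A C := inferInstance
  haveI : Algebra.EssFiniteType C Cn := Algebra.EssFiniteType.of_isLocalization Cn n.primeCompl
  haveI : Algebra.EssFiniteType A Cn := Algebra.EssFiniteType.comp A C Cn
  haveI : Algebra.EssFiniteType A D := Algebra.EssFiniteType.of_surjective π hπ
  have hm : Ideal.map (algebraMap A D) (maximalIdeal A) = maximalIdeal D := by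
    have h1 : (maximalIdeal A).map (algebraMap A Cn) = maximalIdeal Cn := by
      rw [← Ideal.comap_map_eq_self_of_faithfullyFlat (B := S) ((maximalIdeal A).map (algebraMap A Cn)),
        Ideal.map_map, ← IsScalarTower.algebraMap_eq, Groth.Agent.Hensel.map_maximalIdeal_of_isStrictHenselization,
        IsLocalRing.maximalIdeal_comap]
    rw [← π.comp_algebraMap, ← Ideal.map_map, h1]
    refine le_antisymm (Ideal.map_le_iff_le_comap.mpr fun z hz => ?_) fun d hd => ?_
    · exact fun hu => hz (IsUnit.of_map (algebraMap Cn S) z (hu.map D.val))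
    · obtain ⟨z, rfl⟩ := hπ d
      exact Ideal.mem_map_of_mem _ fun hu => hd (hu.map π)
  refine ⟨D, ⟨inferInstance, inferInstance, S16438.result A S D hm⟩, ?_, fun x a b hb h1 => ?_⟩
  · rintro _ ⟨z, rfl⟩
    obtain ⟨c, y, rfl⟩ := IsLocalization.exists_mk'_eq n.primeCompl z
    refine ⟨c, y, hun y, ?_⟩
    show algebraMap Cn S (IsLocalization.mk' Cn c y) * algebraMap C S y = algebraMap C S c
    rw [IsScalarTower.algebraMap_apply C Cn S (y : C), ← map_mul, IsLocalization.mk'_spec,
      ← IsScalarTower.algebraMap_apply]
  · have h3 : algebraMap C Cn a ∈ (Ideal.span {algebraMap C Cn b}) := by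
      rw [← Ideal.comap_map_eq_self_of_faithfullyFlat (B := S) (Ideal.span {algebraMap C Cn b}), Ideal.mem_comap,
        Ideal.map_span, Set.image_singleton, Ideal.mem_span_singleton, ← IsScalarTower.algebraMap_apply,
        ← IsScalarTower.algebraMap_apply]
      exact ⟨x, by rw [← h1, mul_comm]⟩
    obtain ⟨z, hz⟩ := Ideal.mem_span_singleton.mp h3
    refine ⟨z, ?_⟩
    show algebraMap Cn S z = x
    have h4 := congrArg (algebraMap Cn S) hz
    rw [map_mul, ← IsScalarTower.algebraMap_apply, ← IsScalarTower.algebraMap_apply, ← h1, mul_comm x] at h4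
    exact (mul_left_cancel₀ ((map_ne_zero_iff _ hCinj).mpr hb) h4).symm

set_option maxHeartbeats 2000000 in
/-- The intersection of a strict henselization with the subfield generated by finitely many elements. -/
theorem exists_essEtale_inter_subfield (t : Finset (FractionRing S)) :
    ∃ D : Subalgebra A S, (D : Set S) = (algebraMap S (FractionRing S)) ⁻¹'
        (Subfield.closure (Set.range (algebraMap A (FractionRing S)) ∪ (t : Set (FractionRing S))) :
          Set (FractionRing S)) ∧
      (∃ _ : IsLocalRing D, IsLocalHom (algebraMap D S) ∧ EGA4loc.IsEssentiallyEtale A D) ∧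
      ∀ x ∈ D, ∃ a b : S, a ∈ D ∧ b ∈ D ∧ IsIntegral A a ∧ IsIntegral A b ∧ IsUnit b ∧ x * b = a := by
  classical
  have hinjA : Function.Injective (algebraMap A S) := by
    haveI := Groth.Agent.Hensel.faithfullyFlat_of_isStrictHenselization A S
    exact FaithfulSMul.algebraMap_injective A S
  haveI : IsIntegrallyClosed S := ((S2748.result A S).mpr ⟨inferInstance, inferInstance⟩).2
  haveI : Algebra.WeaklyEtale A S :=
    FlatFibres.TorAmpWEtale.weaklyEtale_of_isHenzLike (Groth.Agent.Hensel.isHenzLike_of_isStrictHenselization A S)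
  let Ks := FractionRing S
  let K := FractionRing A
  have hAKs : Function.Injective (algebraMap A Ks) := by
    rw [IsScalarTower.algebraMap_eq A S Ks]
    exact (IsFractionRing.injective S Ks).comp hinjA
  letI : Algebra K Ks := (IsFractionRing.lift hAKs).toAlgebra
  haveI : IsScalarTower A K Ks := .of_algebraMap_eq fun a => (IsFractionRing.lift_algebraMap hAKs a).symm
  haveI : Algebra.IsSeparable K Ks := isSeparable_strictHenselization A S K Ks
  let L : IntermediateField K Ks := IntermediateField.adjoin K (t : Set Ks)
  haveI : Finite (t : Set Ks) := t.finite_toSet.to_subtype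
  haveI : FiniteDimensional K L := IntermediateField.finiteDimensional_adjoin fun x _ =>
    Algebra.IsSeparable.isIntegral K x
  have hset : (Subfield.closure (Set.range (algebraMap A Ks) ∪ (t : Set Ks)) : Set Ks) = (L : Set Ks) := by
    have h1 : Subfield.closure (Set.range (algebraMap A Ks) ∪ (t : Set Ks)) = L.toSubfield := by
      refine le_antisymm (Subfield.closure_le.mpr ?_) ?_
      · rintro x (⟨a, rfl⟩ | hx)
        · rw [IsScalarTower.algebraMap_apply A K Ks]; exact L.algebraMap_mem _
        · exact IntermediateField.subset_adjoin K _ hx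
      · rw [IntermediateField.adjoin_toSubfield]
        refine Subfield.closure_le.mpr ?_
        rintro x (⟨k, rfl⟩ | hx)
        · obtain ⟨a, b, -, rfl⟩ := IsFractionRing.div_surjective (A := A) k
          rw [map_div₀, ← IsScalarTower.algebraMap_apply, ← IsScalarTower.algebraMap_apply]
          exact div_mem (Subfield.subset_closure (Or.inl ⟨a, rfl⟩)) (Subfield.subset_closure (Or.inl ⟨b, rfl⟩))
        · exact Subfield.subset_closure (Or.inr hx)
    rw [h1]; rfl
  let C := integralClosure A L
  haveI : IsFractionRing C L := integralClosure.isFractionRing_of_finite_extension K L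
  haveI : Module.Finite A C := IsIntegralClosure.finite A K L C
  haveI : IsIntegrallyClosed C := integralClosure.isIntegrallyClosedOfFiniteExtension K
  have hC : ∀ c : C, ∃ s : S, algebraMap S Ks s = ((c : L) : Ks) := fun c => by
    have h1 : IsIntegral A (((c : L) : Ks)) := (c.2 : IsIntegral A (c : L)).map (L.val.restrictScalars A)
    exact IsIntegrallyClosed.isIntegral_iff.mp (h1.tower_top (A := S))
  choose j hj using hC
  let jhom : C →+* S :=
    { toFun := j
      map_one' := IsFractionRing.injective S Ks (by rw [hj, map_one]; rfl)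
      map_mul' := fun a b => IsFractionRing.injective S Ks (by rw [hj, map_mul, hj, hj]; rfl)
      map_zero' := IsFractionRing.injective S Ks (by rw [hj, map_zero]; rfl)
      map_add' := fun a b => IsFractionRing.injective S Ks (by rw [hj, map_add, hj, hj]; rfl) }
  letI : Algebra C S := jhom.toAlgebra
  have hjK : ∀ c : C, algebraMap S Ks (algebraMap C S c) = ((c : L) : Ks) := hj
  haveI : IsScalarTower A C S := .of_algebraMap_eq fun a => IsFractionRing.injective S Ks (by
    rw [← IsScalarTower.algebraMap_apply A S Ks, hjK]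
    rfl)
  have hCinj : Function.Injective (algebraMap C S) := fun c c' h =>
    Subtype.ext (Subtype.ext (by rw [← hjK c, ← hjK c', h]))
  obtain ⟨D, hD, hDfrac, hDmem⟩ := exists_essEtale_of_normal_finite A S C hCinj
  have hDset : ∀ x : S, x ∈ D ↔ algebraMap S Ks x ∈ L := by
    refine fun x => ⟨fun hx => ?_, fun hx => ?_⟩
    · obtain ⟨a, b, hb, h1⟩ := hDfrac x hx
      have h2 := congrArg (algebraMap S Ks) h1
      rw [map_mul] at h2
      rw [← eq_div_iff (hb.map _).ne_zero] at h2
      rw [h2, hjK, hjK]
      exact div_mem (a : L).2 (b : L).2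
    · obtain ⟨a, b, hb, hab⟩ := IsFractionRing.div_surjective (A := C) (⟨algebraMap S Ks x, hx⟩ : L)
      have hb0 : ((b : L) : Ks) ≠ 0 := fun h => nonZeroDivisors.ne_zero hb (Subtype.ext (Subtype.ext h))
      refine hDmem x a b (nonZeroDivisors.ne_zero hb) (IsFractionRing.injective S Ks ?_)
      rw [map_mul, hjK, hjK]
      exact ((div_eq_iff hb0).mp (congrArg Subtype.val hab)).symm
  refine ⟨D, ?_, hD, fun x hx => ?_⟩
  · rw [hset]
    exact Set.ext hDset
  · obtain ⟨a, b, hb, h1⟩ := hDfrac x hx
    refine ⟨algebraMap C S a, algebraMap C S b, ?_, ?_,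
      (Algebra.IsIntegral.isIntegral (R := A) a).map (IsScalarTower.toAlgHom A C S),
      (Algebra.IsIntegral.isIntegral (R := A) b).map (IsScalarTower.toAlgHom A C S), hb, h1⟩
    · rw [hDset, hjK]; exact (a : L).2
    · rw [hDset, hjK]; exact (b : L).2

end Groth.Agent.HensEt88
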