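import Groth.Agent.HensEt88.NormalInter

/-!
# Normal intermediate rings of a strict henselization contain the étale stages of their fraction field
-/

set_option autoImplicit false
set_option linter.style.haveILetI false

namespace Groth.Agent.HensEt88

universe u

variable (A S : Type u) [CommRing A] [CommRing S] [IsDomain S] [IsLocalRing S] [Algebra A S]
  (D : Subalgebra A S) [IsLocalRing D] [IsLocalHom (algebraMap D S)] [IsIntegrallyClosed D]

/-- The image of the fraction field of `D`. -/
theorem exists_frac_of_mem_closure {z : FractionRing S} (T : Set (FractionRing S))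
    (hT : ∀ w ∈ T, ∃ d : D, w = algebraMap S (FractionRing S) d)
    (hz : z ∈ Subfield.closure T) : ∃ q : FractionRing D, ∀ a b : D, b ≠ 0 → q = algebraMap D _ a / algebraMap D _ b →
      z = algebraMap S (FractionRing S) a / algebraMap S (FractionRing S) b := by
  let g : D →+* FractionRing S := (algebraMap S (FractionRing S)).comp D.val.toRingHom
  have hg : Function.Injective g := (IsFractionRing.injective S (FractionRing S)).comp Subtype.val_injective
  let ι : FractionRing D →+* FractionRing S := IsFractionRing.lift hg
  have hle : Subfield.closure T ≤ ι.fieldRange := Subfield.closure_le.mpr fun w hw => by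
    obtain ⟨d, rfl⟩ := hT w hw
    exact ⟨algebraMap D _ d, IsFractionRing.lift_algebraMap hg d⟩
  obtain ⟨q, rfl⟩ := hle hz
  refine ⟨q, fun a b _ h => ?_⟩
  rw [h, map_div₀]
  show ι _ / ι _ = _
  rw [IsFractionRing.lift_algebraMap hg, IsFractionRing.lift_algebraMap hg]
  rfl

/-- An element of `S` which is a quotient of two elements integral over `A` and lying in the fraction field of `D`,
with unit denominator, lies in `D`. -/
theorem mem_of_integral_div (T : Set (FractionRing S)) (hT : ∀ w ∈ T, ∃ d : D, w = algebraMap S (FractionRing S) d)
    {x a b : S} (ha : algebraMap S (FractionRing S) a ∈ Subfield.closure T)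
    (hb : algebraMap S (FractionRing S) b ∈ Subfield.closure T) (hai : IsIntegral A a) (hbi : IsIntegral A b)
    (hu : IsUnit b) (h : x * b = a) : x ∈ D := by
  have key : ∀ y : S, algebraMap S (FractionRing S) y ∈ Subfield.closure T → IsIntegral A y → y ∈ D := by
    intro y hy hyi
    obtain ⟨q, hq⟩ := exists_frac_of_mem_closure A S D T hT hy
    obtain ⟨c, e, he, hce⟩ := IsFractionRing.div_surjective (A := D) q
    have he0 : e ≠ 0 := nonZeroDivisors.ne_zero he
    have h1 := hq c e he0 hce.symm
    have hint : IsIntegral D q := by
      let g : D →+* FractionRing S := (algebraMap S (FractionRing S)).comp D.val.toRingHom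
      have hg : Function.Injective g := (IsFractionRing.injective S (FractionRing S)).comp Subtype.val_injective
      let ι : FractionRing D →ₐ[D] FractionRing S :=
        AlgHom.mk (IsFractionRing.lift hg) fun d => IsFractionRing.lift_algebraMap hg d
      refine (isIntegral_algHom_iff ι ι.toRingHom.injective).mp ?_
      have h2 : ι q = algebraMap S (FractionRing S) y := by
        rw [← hce, map_div₀, h1, AlgHom.commutes, AlgHom.commutes]
        rfl
      rw [h2]
      exact (hyi.map (IsScalarTower.toAlgHom A S (FractionRing S))).tower_top
    obtain ⟨d, hd⟩ := IsIntegrallyClosed.isIntegral_iff.mp hint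
    have h3 := hq d 1 one_ne_zero (by rw [hd, map_one, div_one])
    rw [OneMemClass.coe_one, map_one, div_one] at h3
    exact IsFractionRing.injective S (FractionRing S) h3 ▸ d.2
  let bD : D := ⟨b, key b hb hbi⟩
  have hbD : IsUnit bD := IsUnit.of_map (algebraMap D S) bD hu
  obtain ⟨v, hv⟩ := hbD.exists_right_inv
  have h4 : b * (v : S) = 1 := congrArg Subtype.val hv
  rw [show x = a * (v : S) by rw [← h, mul_assoc, h4, mul_one]]
  exact mul_mem (key a ha hai) v.2

end Groth.Agent.HensEt88
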