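import Groth.Agent.HensEt88.ColonSpan
import Groth.Agent.HensEt88.FiniteClosure
import Groth.Agent.HensEt88.FracTotal
import Groth.Agent.HensEt88.NormSemilocal
import Groth.Agent.WLocalLib.WEtale
import Groth.Agent.S0566
import Groth.Agent.S2654

/-!
# Semilocal normalizations of intermediate rings of an essentially étale algebra
-/

set_option autoImplicit false
set_option linter.style.haveILetI false

namespace Groth.Agent.HensEt88

universe u

open IsLocalRing Polynomial
open scoped nonZeroDivisors

noncomputable section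

/-- Integrality along an inclusion of subalgebras. -/
theorem isIntegral_subalgebra_mono {A K : Type u} [CommRing A] [CommRing K] [Algebra A K] {S T : Subalgebra A K}
    (h : S ≤ T) {z : K} (hz : IsIntegral S z) : IsIntegral T z := by
  obtain ⟨P, hP, hPz⟩ := hz
  refine ⟨P.map (Subalgebra.inclusion h).toRingHom, hP.map _, ?_⟩
  rw [eval₂_map]
  exact hPz

/-- A local ring essentially étale over `A` is weakly étale and essentially of finite type. -/
theorem weaklyEtale_and_essFiniteType_of_essEtale (A E : Type u) [CommRing A] [IsLocalRing A] [CommRing E]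
    [Algebra A E] (hE : EGA4loc.IsEssentiallyEtale A E) : Algebra.WeaklyEtale A E ∧ Algebra.EssFiniteType A E := by
  obtain ⟨C, _, _, q, _, _, _, hC, -, hl⟩ := EtAlg7.exists_presentation hE
  haveI := hC
  haveI := hl
  haveI : Algebra.WeaklyEtale C E := Groth.Agent.WLocalLib.weaklyEtale_localization q.primeCompl E
  haveI : Algebra.EssFiniteType C E := Algebra.EssFiniteType.of_isLocalization E q.primeCompl
  exact ⟨Algebra.WeaklyEtale.trans A C E, Algebra.EssFiniteType.comp A C E⟩

variable {A E : Type u} [CommRing A] [IsLocalRing A] [CommRing E] [IsLocalRing E] [Algebra A E]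

local notation "K" => FractionRing E

/-- The embedding in the total ring of fractions. -/
def toTot : E →ₐ[A] K := IsScalarTower.toAlgHom A E K

theorem toTot_injective : Function.Injective (toTot (A := A) (E := E)) := IsFractionRing.injective E K

variable (D : Subalgebra A E)

/-- Fractions of `D` with denominators non-zero-divisors of `A`. -/
def ratSub : Subalgebra A K where
  carrier := {x | ∃ a ∈ A⁰, ∃ d ∈ D, algebraMap A K a * x = toTot (A := A) d}
  mul_mem' := by
    rintro y z ⟨b, hb, d, hd, h⟩ ⟨c, hc, e, he, h'⟩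
    refine ⟨b * c, mul_mem hb hc, d * e, D.mul_mem hd he, ?_⟩
    rw [map_mul, map_mul, ← h, ← h']; ring
  add_mem' := by
    rintro y z ⟨b, hb, d, hd, h⟩ ⟨c, hc, e, he, h'⟩
    refine ⟨b * c, mul_mem hb hc, algebraMap A E c * d + algebraMap A E b * e,
      D.add_mem (D.mul_mem (D.algebraMap_mem c) hd) (D.mul_mem (D.algebraMap_mem b) he), ?_⟩
    simp only [map_mul, map_add, AlgHom.commutes, ← h, ← h']
    ring
  algebraMap_mem' := fun r => ⟨1, one_mem _, algebraMap A E r, D.algebraMap_mem r, by
    rw [map_one, one_mul, AlgHom.commutes]⟩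

/-- The subalgebra of `K` generated by a finite subset. -/
def base (t : Finset E) : Subalgebra A K := Algebra.adjoin A (toTot (A := A) '' (t : Set E))

/-- The normalization of `base t` in `ratSub D`. -/
def nor (t : Finset E) : Subalgebra A K :=
  ratSub D ⊓ (integralClosure (base (A := A) t) K).restrictScalars A

theorem base_le_map {t : Finset E} (ht : (t : Set E) ⊆ D) : base (A := A) t ≤ D.map toTot := by
  refine Algebra.adjoin_le ?_
  rintro _ ⟨d, hd, rfl⟩
  exact ⟨d, ht hd, rfl⟩

theorem map_le_ratSub : D.map toTot ≤ ratSub D := by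
  rintro _ ⟨d, hd, rfl⟩
  exact ⟨1, one_mem _, d, hd, by rw [map_one, one_mul]; rfl⟩

theorem base_le_nor {t : Finset E} (ht : (t : Set E) ⊆ D) : base (A := A) t ≤ nor D t := fun z hz =>
  ⟨map_le_ratSub D (base_le_map D ht hz), isIntegral_algebraMap (x := (⟨z, hz⟩ : base (A := A) t))⟩

/-- The map `base t → D`. -/
def toD {t : Finset E} (ht : (t : Set E) ⊆ D) : base (A := A) t →ₐ[A] D :=
  (Subalgebra.equivMapOfInjective D toTot toTot_injective).symm.toAlgHom.comp
    (Subalgebra.inclusion (base_le_map D ht))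

theorem toTot_toD {t : Finset E} (ht : (t : Set E) ⊆ D) (z : base (A := A) t) :
    toTot (A := A) ((toD D ht z : D) : E) = (z : K) := by
  show ((Subalgebra.equivMapOfInjective D toTot toTot_injective ((Subalgebra.equivMapOfInjective D toTot
    toTot_injective).symm (Subalgebra.inclusion (base_le_map D ht) z)) : D.map toTot) : K) = _
  rw [AlgEquiv.apply_symm_apply]
  rfl

theorem isIntegral_D_of_base {t : Finset E} (ht : (t : Set E) ⊆ D) {z : K} (hz : IsIntegral (base (A := A) t) z) :
    IsIntegral D z := by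
  obtain ⟨P, hP, hPz⟩ := hz
  refine ⟨P.map (toD D ht).toRingHom, hP.map _, ?_⟩
  rw [eval₂_map]
  rw [show (algebraMap D K).comp (toD D ht).toRingHom = algebraMap (base (A := A) t) K from
    RingHom.ext fun w => toTot_toD D ht w]
  exact hPz

/-- `E`-integral units. -/
def IsEUnit (s : K) : Prop := ∀ M : Ideal ((integralClosure E K).restrictScalars A), M.IsMaximal →
  ∀ hs : s ∈ (integralClosure E K).restrictScalars A, (⟨s, hs⟩ : (integralClosure E K).restrictScalars A) ∉ M

theorem nor_le_integralClosure {t : Finset E} (ht : (t : Set E) ⊆ D) :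
    nor D t ≤ (integralClosure E K).restrictScalars A := fun z hz => by
  obtain ⟨P, hP, hPz⟩ := isIntegral_D_of_base D ht hz.2
  refine ⟨P.map D.val.toRingHom, hP.map _, ?_⟩
  rw [eval₂_map]
  exact hPz

variable [IsReduced A] (hA : EGA4.IsExcellent A) (hE : EGA4loc.IsEssentiallyEtale A E)

include hA hE

theorem isUnit_algebraMap_tot [IsLocalHom (algebraMap A E)] {a : A} (ha : a ∈ A⁰) :
    IsUnit (algebraMap A K a) := by
  haveI : IsNoetherianRing A := hA.1
  obtain ⟨hloc, -⟩ := S16448.result A E (minimalPrimes.finite_of_isNoetherianRing A) hE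
  haveI := hloc
  rw [IsScalarTower.algebraMap_apply A E K]
  exact IsLocalization.map_units K (⟨_, a, ha, rfl⟩ : (A⁰).map (algebraMap A E))

theorem inv_mem_ratSub [IsLocalHom (algebraMap A E)] {a : A} (ha : a ∈ A⁰) {v : K}
    (hv : algebraMap A K a * v = 1) : v ∈ ratSub D :=
  ⟨a, ha, 1, D.one_mem, by rw [hv, map_one]⟩

theorem vnr_ratSub [IsLocalHom (algebraMap A E)] (y : ratSub D) : ∃ r, y = y * y * r := by
  haveI : IsNoetherianRing A := hA.1
  obtain ⟨a, ha, d, hd, h⟩ := y.2
  obtain ⟨b, hb, q, hq, hrel⟩ := exists_regular_relation (minimalPrimes.finite_of_isNoetherianRing A) hE d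
  obtain ⟨v, hv⟩ := (isUnit_algebraMap_tot hA hE hb).exists_right_inv
  have hqD : q ∈ D := Algebra.adjoin_le (Set.singleton_subset_iff.mpr hd) hq
  have hr : algebraMap A K a * toTot (A := A) q * v ∈ ratSub D :=
    mul_mem (mul_mem ((ratSub D).algebraMap_mem a) (map_le_ratSub D ⟨q, hqD, rfl⟩)) (inv_mem_ratSub D hA hE hb hv)
  refine ⟨⟨_, hr⟩, Subtype.ext ?_⟩
  show (y : K) = y * y * (algebraMap A K a * toTot (A := A) q * v)
  have h2 := congrArg (toTot (A := A)) hrel
  rw [Algebra.smul_def, map_mul, map_mul, map_mul, AlgHom.commutes, ← h] at h2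
  obtain ⟨w, hw⟩ := (isUnit_algebraMap_tot hA hE ha).exists_right_inv
  linear_combination (w * v) * h2 -
    (y : K) * hv - (algebraMap A K b * v * y) * hw +
    (y * y * algebraMap A K a * toTot (A := A) q * v) * hw

theorem finite_integralClosure_base [IsLocalHom (algebraMap A E)] (t : Finset E) :
    IsNoetherianRing (base (A := A) t) ∧ Module.Finite (base (A := A) t) (integralClosure (base (A := A) t) K) := by
  haveI := isReduced_of_essEtale hE
  haveI : IsReduced K := isReduced_localizationPreserves (nonZeroDivisors E) K inferInstance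
  haveI := (weaklyEtale_and_essFiniteType_of_essEtale A E hE).2
  haveI : Algebra.EssFiniteType E K := Algebra.EssFiniteType.of_isLocalization K (nonZeroDivisors E)
  haveI : Algebra.EssFiniteType A K := Algebra.EssFiniteType.comp A E K
  haveI : Algebra.EssFiniteType (base (A := A) t) K := Algebra.EssFiniteType.of_comp A _ K
  haveI : Algebra.FiniteType A (base (A := A) t) :=
    (Subalgebra.fg_iff_finiteType _).mp (⟨(t.finite_toSet.image (toTot (A := A))).toFinset, by rw [Set.Finite.coe_toFinset]; rfl⟩)
  have hN : CAlg.IsNagata (base (A := A) t) := S0566.result A (S2654.result A ⟨hA.1, hA.2.2.1, hA.2.2.2⟩) _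
  exact ⟨hN.1, finite_integralClosure_of_reduced_ess hN K⟩

/-- An element of `ratSub D` integral over `D` has an `E`-unit denominator in `nor D t`. -/
theorem exists_eUnit_denominator [IsLocalHom (algebraMap A E)] {t : Finset E} (ht : (t : Set E) ⊆ D)
    (hspan : ∀ d ∈ D, ∃ a ∈ A⁰, a • d ∈ Submodule.span A (t : Set E))
    {x : K} (hxL : x ∈ ratSub D) (hxD : IsIntegral D x) :
    ∃ s ∈ nor D t, IsEUnit (A := A) s ∧ s * x ∈ nor D t := by
  classical
  haveI := isReduced_of_essEtale hE
  haveI : IsReduced K := isReduced_localizationPreserves (nonZeroDivisors E) K inferInstance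
  haveI := (weaklyEtale_and_essFiniteType_of_essEtale A E hE).1
  haveI := (weaklyEtale_and_essFiniteType_of_essEtale A E hE).2
  haveI : IsNoetherianRing A := hA.1
  haveI : IsNoetherianRing E := Algebra.EssFiniteType.isNoetherianRing A E
  let C := nor D t
  let L := ratSub D
  have hCL : C ≤ L := inf_le_left
  letI : Algebra C L := (Subalgebra.inclusion hCL).toAlgebra
  haveI : IsScalarTower A C L := .of_algebraMap_eq fun _ => rfl
  haveI : IsIntegrallyClosedIn C L := by
    refine isIntegrallyClosedIn_iff.2 ⟨Subalgebra.inclusion_injective hCL, fun {z} hz => ?_⟩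
    obtain ⟨P, hP, hPz⟩ := hz
    let R := integralClosure (base (A := A) t) K
    let jC : C →+* R := (C.val.toRingHom).codRestrict R.toSubring fun w => w.2.2
    have h1 : IsIntegral R (z : K) := by
      refine ⟨P.map jC, hP.map _, ?_⟩
      rw [eval₂_map]
      have h2 := congrArg L.val.toRingHom hPz
      rw [map_zero, hom_eval₂] at h2
      exact h2
    exact ⟨⟨z, z.2, isIntegral_trans _ h1⟩, rfl⟩
  have hfrac : ∀ y : L, ∃ a c : C, IsUnit (algebraMap C L a) ∧ algebraMap C L a * y = algebraMap C L c := by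
    intro y
    obtain ⟨a, ha, d, hd, h⟩ := y.2
    obtain ⟨b, hb, hbd⟩ := hspan d hd
    have hmem : toTot (A := A) (b • d) ∈ C := by
      refine base_le_nor D ht ?_
      have h3 : Submodule.span A (t : Set E) ≤ (base (A := A) t).toSubmodule.comap (toTot (A := A)).toLinearMap :=
        Submodule.span_le.mpr fun e he => Algebra.subset_adjoin ⟨e, he, rfl⟩
      exact h3 hbd
    refine ⟨algebraMap A C (b * a), ⟨_, hmem⟩, ?_, Subtype.ext ?_⟩
    · obtain ⟨v, hv⟩ := (isUnit_algebraMap_tot hA hE (mul_mem hb ha)).exists_right_inv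
      exact IsUnit.of_mul_eq_one ⟨v, inv_mem_ratSub D hA hE (mul_mem hb ha) hv⟩ (Subtype.ext hv)
    · show algebraMap A K (b * a) * (y : K) = toTot (A := A) (b • d)
      rw [map_smul, map_mul, mul_assoc, h, Algebra.smul_def]
  let j0 : D →+* L := ((toTot (A := A)).comp D.val).toRingHom.codRestrict L.toSubring fun d =>
    map_le_ratSub D ⟨d, d.2, rfl⟩
  obtain ⟨P, hP, hPx⟩ := hxD
  have hspan1 := one_mem_span_colon A E C L K L.val (toTot (A := A)) hfrac (vnr_ratSub D hA hE) (⟨x, hxL⟩ : L)
    (P.map j0) (hP.map _) (Subtype.ext (by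
      show L.val.toRingHom (eval (⟨x, hxL⟩ : L) (P.map j0)) = ((0 : L) : K)
      rw [eval_map, hom_eval₂]
      exact hPx))
    (fun i => ⟨(P.coeff i : E), by rw [coeff_map]; rfl⟩)
  -- the conductor
  let J : Ideal C :=
    { carrier := {c | (c : K) * x ∈ C}
      add_mem' := fun {a b} (ha : (a : K) * x ∈ C) (hb : (b : K) * x ∈ C) => by
        show ((a : K) + b) * x ∈ C; rw [add_mul]; exact add_mem ha hb
      zero_mem' := by show (0 : K) * x ∈ C; rw [zero_mul]; exact zero_mem _
      smul_mem' := fun a c (hc : (c : K) * x ∈ C) => by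
        show (a : K) * c * x ∈ C; rw [mul_assoc]; exact mul_mem a.2 hc }
  let E' := (integralClosure E K).restrictScalars A
  haveI : Finite (MaximalSpectrum E') := finite_maximalSpectrum_integralClosure E
  haveI := Fintype.ofFinite (MaximalSpectrum E')
  let f : MaximalSpectrum E' → Ideal C := fun M =>
    M.asIdeal.comap (Subalgebra.inclusion (nor_le_integralClosure D ht))
  have hnot : ¬ (J : Set C) ⊆ ⋃ M ∈ ((Finset.univ : Finset (MaximalSpectrum E')) : Set (MaximalSpectrum E')), (f M : Set C) := by
    intro hsub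
    obtain ⟨M₀, hM₀⟩ : ∃ M : Ideal E', M.IsMaximal := Ideal.exists_maximal E'
    obtain ⟨M, -, hle⟩ := (Ideal.subset_union_prime (f := f) ⟨M₀, hM₀⟩ ⟨M₀, hM₀⟩
      fun M _ _ _ => Ideal.comap_isPrime _ _).mp hsub
    let Q : Submodule A K := (M.asIdeal.restrictScalars A).map E'.val.toLinearMap
    have hQ : Submodule.span A {w : K | ∃ c : C, (∃ c' : C, algebraMap C L c * (⟨x, hxL⟩ : L) = algebraMap C L c') ∧
      ∃ e : E, w = L.val (algebraMap C L c) * toTot (A := A) e} ≤ Q := Submodule.span_le.mpr fun w hw => by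
      obtain ⟨c, ⟨c', hc'⟩, e, rfl⟩ := hw
      have hcJ : c ∈ J := by
        show (c : K) * x ∈ C
        rw [show (c : K) * x = (c' : K) from congrArg Subtype.val hc']
        exact c'.2
      refine ⟨Subalgebra.inclusion (nor_le_integralClosure D ht) c * ⟨toTot (A := A) e, isIntegral_algebraMap⟩,
        M.asIdeal.mul_mem_right _ (hle hcJ), rfl⟩
    obtain ⟨m, hm, hm1⟩ := hQ hspan1
    exact M.isMaximal.ne_top ((Ideal.eq_top_iff_one _).mpr ((show m = 1 from Subtype.ext hm1) ▸ hm))
  obtain ⟨s, hs, hsM⟩ := Set.not_subset.mp hnot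
  refine ⟨s, s.2, fun M hM hs' hsm => hsM ?_, hs⟩
  exact Set.mem_biUnion (x := (⟨M, hM⟩ : MaximalSpectrum E')) (Finset.mem_univ _) hsm

end

end Groth.Agent.HensEt88
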