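import Groth.Agent.HensEt88.NormalizationEss

/-!
# Semilocal normalizations give rings essentially of finite type
-/

set_option autoImplicit false
set_option linter.style.haveILetI false

namespace Groth.Agent.HensEt88

universe u

open IsLocalRing Polynomial
open scoped nonZeroDivisors

noncomputable section

variable {A E : Type u} [CommRing A] [IsLocalRing A] [CommRing E] [IsLocalRing E] [Algebra A E]
  [IsLocalHom (algebraMap A E)] [IsReduced A] (D : Subalgebra A E)

/-- Primes minimal data: a prime of `S` over the same prime and inside a second one equals it. -/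
theorem eq_of_le_of_comap_eq' {R S : Type u} [CommRing R] [CommRing S] [Algebra R S] [Algebra.IsIntegral R S]
    {I J : Ideal S} [I.IsPrime] (h : I ≤ J) (he : I.comap (algebraMap R S) = J.comap (algebraMap R S)) : I = J := by
  refine le_antisymm h fun y hy => ?_
  by_contra hyI
  exact (Ideal.comap_lt_comap_of_integral_mem_sdiff h ⟨hy, hyI⟩ (Algebra.IsIntegral.isIntegral y)).ne he

theorem fg_submodule_of_finite {R S : Type u} [CommRing R] [CommRing S] [Algebra R S] (hR : IsNoetherianRing R)
    (hS : Module.Finite R S) (Q : Submodule R S) : Q.FG := by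
  haveI := hR
  haveI := hS
  exact (isNoetherian_of_isNoetherianRing_of_finite R S).noetherian Q

/-- Finitely many primes over a prime for a subring of a finite algebra. -/
theorem finite_primes_over {R S T : Type u} [CommRing R] [CommRing S] [CommRing T] [Algebra R T] (hR : IsNoetherianRing R)
    (hT : Module.Finite R T) (φ : R →+* S) (ψ : S →+* T) (hψ : Function.Injective ψ)
    (hcomp : ψ.comp φ = algebraMap R T) (p : Ideal R) [p.IsPrime] :
    {M : Ideal S | M.IsPrime ∧ M.comap φ = p}.Finite := by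
  letI : Algebra R S := φ.toAlgebra
  haveI := hR
  haveI := hT
  let ψ' : S →ₐ[R] T := { ψ with commutes' := fun r => RingHom.congr_fun hcomp r }
  haveI : IsNoetherian R T := isNoetherian_of_isNoetherianRing_of_finite R T
  haveI : Module.Finite R S := Module.Finite.of_injective ψ'.toLinearMap hψ
  exact (Algebra.QuasiFinite.finite_primesOver (S := S) p).subset fun M hM => ⟨hM.1, ⟨hM.2.symm⟩⟩

/-- Transport of the centre along a commutative square. -/
theorem comap_centre {R R' S S' T : Type u} [CommRing R] [CommRing R'] [CommRing S] [CommRing S'] [CommRing T]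
    (j : R →+* S) (j' : R' →+* S') (ρ : S →+* S') (b : R →+* R') (f : R →+* T) (f' : R' →+* T)
    (hj : ∀ z, ρ (j z) = j' (b z)) (hf : ∀ z, f' (b z) = f z) {M' : Ideal S'} {m : Ideal T}
    (h : M'.comap j' = m.comap f') : (M'.comap ρ).comap j = m.comap f := by
  ext z
  have h1 := SetLike.ext_iff.mp h (b z)
  rw [Ideal.mem_comap, Ideal.mem_comap, hf z, ← hj z] at h1
  exact h1

omit [IsLocalHom (algebraMap A E)] [IsReduced A] in
/-- Maximal ideals of the integral closure lie over the closed point. -/
theorem mem_maximal_iff (M : Ideal ((integralClosure E (FractionRing E)).restrictScalars A)) [M.IsMaximal] (e : E) :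
    (⟨toTot (A := A) e, isIntegral_algebraMap⟩ : (integralClosure E (FractionRing E)).restrictScalars A) ∈ M ↔
      e ∈ maximalIdeal E := by
  let M₀ : Ideal (integralClosure E (FractionRing E)) := M
  haveI : M₀.IsMaximal := ‹M.IsMaximal›
  have h := IsLocalRing.eq_maximalIdeal (Ideal.isMaximal_comap_of_isIntegral_of_isMaximal (R := E) M₀)
  exact SetLike.ext_iff.mp h e

set_option maxHeartbeats 1000000 in
theorem essFiniteType_of_semilocal_normalization (hA : EGA4.IsExcellent A) (hE : EGA4loc.IsEssentiallyEtale A E)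
    [IsLocalRing D] [IsLocalHom (algebraMap D E)] (D' : Subalgebra A (FractionRing E))
    (hD' : ∀ x : FractionRing E, x ∈ D' ↔ (IsIntegral D x ∧ x ∈ ratSub D))
    (hsurj : ∀ s ∈ D', IsEUnit (A := A) s → ∃ u ∈ D', s * u = 1) : Algebra.EssFiniteType A D := by
  classical
  haveI : IsNoetherianRing A := hA.1
  obtain ⟨t, htD, htspan⟩ := exists_finset_span_nzd (minimalPrimes.finite_of_isNoetherianRing A) hE (D : Set E)
  let E' := (integralClosure E (FractionRing E)).restrictScalars A
  let hC := fun (t : Finset E) (ht : (t : Set E) ⊆ D) => base_le_nor D ht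
  -- data for a finite set containing t
  letI algC : ∀ (t : Finset E) (ht : (t : Set E) ⊆ D), Algebra (base (A := A) t) (nor D t) :=
    fun t ht => (Subalgebra.inclusion (hC t ht)).toAlgebra
  let n0 : ∀ (t : Finset E) (ht : (t : Set E) ⊆ D), Ideal (base (A := A) t) :=
    fun t ht => (maximalIdeal D).comap (toD D ht)
  let hit : ∀ (t : Finset E) (ht : (t : Set E) ⊆ D), Ideal E' → Ideal (nor D t) :=
    fun t ht M => M.comap (Subalgebra.inclusion (nor_le_integralClosure D ht))
  have hover : ∀ (t : Finset E) (ht : (t : Set E) ⊆ D) (M : Ideal E') [M.IsMaximal],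
      (hit t ht M).comap (Subalgebra.inclusion (hC t ht)) = n0 t ht := by
    intro t ht M _
    ext z
    have h1 := mem_maximal_iff (A := A) M ((toD D ht z : D) : E)
    have h2 : (Subalgebra.inclusion (nor_le_integralClosure D ht) (Subalgebra.inclusion (hC t ht) z)) =
        (⟨toTot (A := A) ((toD D ht z : D) : E), isIntegral_algebraMap⟩ : E') := Subtype.ext (toTot_toD D ht z).symm
    simp only [Ideal.mem_comap, n0, hit]
    rw [h2, h1]
    refine ⟨fun h hu => h (hu.map (algebraMap D E)), fun h hu => h ?_⟩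
    exact IsUnit.of_map (algebraMap D E) _ hu
  have hnorD' : ∀ (t : Finset E) (ht : (t : Set E) ⊆ D), ∀ z ∈ nor D t, z ∈ D' :=
    fun t ht z hz => (hD' z).mpr ⟨isIntegral_D_of_base D ht hz.2, hz.1⟩
  have hint : ∀ (t : Finset E) (ht : (t : Set E) ⊆ D), @Algebra.IsIntegral (base (A := A) t) (nor D t) _ _ (algC t ht) := by
    intro t ht
    letI := algC t ht
    refine ⟨fun z => ?_⟩
    obtain ⟨P, hP, hPz⟩ := z.2.2
    refine ⟨P, hP, Subtype.ext ?_⟩
    show (nor D t).val.toRingHom (eval₂ _ z P) = 0
    rw [hom_eval₂]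
    exact hPz
  -- finitely many unhit primes
  obtain ⟨s₀, hs₀, hs₀u, hs₀U⟩ : ∃ s₀ ∈ nor D t, IsEUnit (A := A) s₀ ∧
      ∀ (M : Ideal (nor D t)), M.IsPrime → M.comap (Subalgebra.inclusion (hC t htD)) = n0 t htD →
        (∀ h : Ideal E', h.IsMaximal → M ≠ hit t htD h) → ∀ hs : s₀ ∈ nor D t, (⟨s₀, hs⟩ : nor D t) ∈ M := by
    letI := algC t htD
    haveI := hint t htD
    obtain ⟨hBN, hfin⟩ := finite_integralClosure_base (t := t) hA hE
    haveI : (n0 t htD).IsPrime := Ideal.comap_isPrime _ _
    let U : Set (Ideal (nor D t)) := {M | M.IsPrime ∧ M.comap (Subalgebra.inclusion (hC t htD)) = n0 t htD ∧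
      ∀ h : Ideal E', h.IsMaximal → M ≠ hit t htD h}
    let ψ : nor D t →+* integralClosure (base (A := A) t) (FractionRing E) :=
      (nor D t).val.toRingHom.codRestrict (integralClosure (base (A := A) t) (FractionRing E)).toSubring fun z => z.2.2
    have hUfin : U.Finite := (finite_primes_over (R := base (A := A) t) (S := nor D t)
      (T := integralClosure (base (A := A) t) (FractionRing E)) hBN hfin (Subalgebra.inclusion (hC t htD)).toRingHom ψ
      (fun a b h => Subtype.ext (congrArg (fun w : integralClosure (base (A := A) t) (FractionRing E) => (w : FractionRing E)) h))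
      (RingHom.ext fun z => Subtype.ext rfl) (n0 t htD)).subset
      fun M hM => ⟨hM.1, hM.2.1⟩
    haveI := (weaklyEtale_and_essFiniteType_of_essEtale A E hE).2
    haveI : IsNoetherianRing E := Algebra.EssFiniteType.isNoetherianRing A E
    haveI := isReduced_of_essEtale hE
    haveI : Finite (MaximalSpectrum E') := finite_maximalSpectrum_integralClosure E
    haveI := Fintype.ofFinite (MaximalSpectrum E')
    have hex : ∀ M ∈ U, ∃ s ∈ M, ∀ h : MaximalSpectrum E', s ∉ hit t htD h.asIdeal := by
      intro M hM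
      by_contra! hno
      haveI := hM.1
      obtain ⟨h₀, hh₀⟩ := Ideal.exists_maximal E'
      have hsub : (M : Set (nor D t)) ⊆ ⋃ h ∈ ((Finset.univ : Finset (MaximalSpectrum E')) : Set (MaximalSpectrum E')),
          (hit t htD h.asIdeal : Set (nor D t)) := fun s hs => by
        obtain ⟨h, hh⟩ := hno s hs
        exact Set.mem_biUnion (x := h) (Finset.mem_univ _) hh
      obtain ⟨h, -, hle⟩ := (Ideal.subset_union_prime (f := fun h : MaximalSpectrum E' => hit t htD h.asIdeal)
        ⟨h₀, hh₀⟩ ⟨h₀, hh₀⟩ fun h _ _ _ => Ideal.comap_isPrime _ _).mp hsub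
      exact hM.2.2 h.asIdeal h.isMaximal (eq_of_le_of_comap_eq' hle (hM.2.1.trans (hover t htD h.asIdeal).symm))
    choose g hgM hgh using hex
    let s : nor D t := ∏ M ∈ hUfin.toFinset.attach, g M.1 (hUfin.mem_toFinset.mp M.2)
    refine ⟨s, s.2, fun h hh hs hsm => ?_, fun M hMp hMo hMn hs => ?_⟩
    · haveI : (hit t htD h).IsPrime := Ideal.comap_isPrime _ _
      have h1 : s ∈ hit t htD h := hsm
      obtain ⟨M, -, hM⟩ := (Ideal.IsPrime.prod_mem_iff (p := hit t htD h)).mp h1
      exact hgh _ _ ⟨h, hh⟩ hM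
    · have hMU : M ∈ hUfin.toFinset := hUfin.mem_toFinset.mpr ⟨hMp, hMo, hMn⟩
      exact Ideal.prod_mem M (Finset.mem_attach _ ⟨M, hMU⟩) (hgM M _)
  -- the enlarged set
  obtain ⟨u, huD', hsu⟩ := hsurj s₀ (hnorD' t htD s₀ hs₀) hs₀u
  obtain ⟨P, hP, hPu⟩ := ((hD' u).mp huD').1
  let t' : Finset E := t ∪ P.coeffs.image (fun d : D => (d : E))
  have ht' : (t' : Set E) ⊆ D := by
    intro e he
    rcases Finset.mem_union.mp he with h | h
    · exact htD h
    · obtain ⟨d, -, rfl⟩ := Finset.mem_image.mp h
      exact d.2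
  have hbase : base (A := A) t ≤ base (A := A) t' :=
    Algebra.adjoin_mono (Set.image_mono fun e he => Finset.mem_union_left _ he)
  have hspan' : ∀ d ∈ D, ∃ a ∈ A⁰, a • d ∈ Submodule.span A (t' : Set E) := fun d hd => by
    obtain ⟨a, ha, h⟩ := htspan d hd
    exact ⟨a, ha, Submodule.span_mono (fun e he => Finset.mem_union_left _ he) h⟩
  have hnor : ∀ z ∈ nor D t, z ∈ nor D t' := fun z hz => ⟨hz.1, isIntegral_subalgebra_mono hbase hz.2⟩
  have hu : u ∈ nor D t' := by
    refine ⟨((hD' u).mp huD').2, ?_⟩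
    show IsIntegral (base (A := A) t') u
    have hl : P ∈ Polynomial.lifts (toD D ht').toRingHom := by
      rw [Polynomial.lifts_iff_coeff_lifts]
      intro i
      by_cases h0 : P.coeff i = 0
      · exact ⟨0, by rw [h0, map_zero]⟩
      · refine ⟨⟨toTot (A := A) (P.coeff i : E), Algebra.subset_adjoin ⟨(P.coeff i : E), Finset.mem_union_right _
          (Finset.mem_image_of_mem _ (Polynomial.coeff_mem_coeffs h0)), rfl⟩⟩, Subtype.ext (toTot_injective (A := A) (E := E) ?_)⟩
        exact toTot_toD D ht' _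
    obtain ⟨Q, hQ, -, hQm⟩ := Polynomial.lifts_and_natDegree_eq_and_monic hl hP
    refine ⟨Q, hQm, ?_⟩
    rw [← hQ, eval₂_map] at hPu
    rw [show algebraMap (base (A := A) t') (FractionRing E) = (algebraMap D (FractionRing E)).comp (toD D ht').toRingHom
      from RingHom.ext fun w => (toTot_toD D ht' w).symm]
    exact hPu
  -- every prime over the centre is hit
  have hallhit : ∀ (M' : Ideal (nor D t')), M'.IsPrime → M'.comap (Subalgebra.inclusion (hC t' ht')) = n0 t' ht' →
      ∃ h : Ideal E', h.IsMaximal ∧ M' = hit t' ht' h := by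
    intro M' hM' hMo
    let ρ : nor D t →ₐ[A] nor D t' := Subalgebra.inclusion hnor
    let M := M'.comap ρ
    haveI : M.IsPrime := Ideal.comap_isPrime _ _
    have hMn : M.comap (Subalgebra.inclusion (hC t htD)) = n0 t htD := by
      exact comap_centre (R := base (A := A) t) (R' := base (A := A) t') (S := nor D t) (S' := nor D t') (T := D)
        (Subalgebra.inclusion (hC t htD)).toRingHom (Subalgebra.inclusion (hC t' ht')).toRingHom ρ.toRingHom
        (Subalgebra.inclusion hbase).toRingHom (toD D htD).toRingHom (toD D ht').toRingHom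
        (fun z => Subtype.ext rfl)
        (fun z => Subtype.ext (toTot_injective (A := A) (E := E)
          ((toTot_toD D ht' (Subalgebra.inclusion hbase z)).trans (toTot_toD D htD z).symm))) hMo
    obtain ⟨h, hh, hMh⟩ : ∃ h : Ideal E', h.IsMaximal ∧ M = hit t htD h := by
      by_contra! hno
      have h0 := hs₀U M inferInstance hMn hno hs₀
      have h1 : ρ ⟨s₀, hs₀⟩ ∈ M' := Ideal.mem_comap.mp h0
      refine hM'.ne_top ((Ideal.eq_top_iff_one _).mpr ?_)
      have h2 := M'.mul_mem_right ⟨u, hu⟩ h1
      rwa [show ρ ⟨s₀, hs₀⟩ * (⟨u, hu⟩ : nor D t') = 1 from Subtype.ext hsu] at h2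
    refine ⟨h, hh, ?_⟩
    haveI := hh
    ext y
    obtain ⟨s, hs, hsu', hsy⟩ := exists_eUnit_denominator D hA hE htD htspan y.2.1
      (isIntegral_D_of_base D ht' y.2.2)
    have hsM : (⟨s, hs⟩ : nor D t) ∉ M := by
      rw [hMh]
      exact fun hm => hsu' h hh (nor_le_integralClosure D htD hs) (Ideal.mem_comap.mp hm)
    have e1 : (⟨s * (y : FractionRing E), hsy⟩ : nor D t) ∈ M ↔ y ∈ M' := by
      refine Ideal.mem_comap.trans ?_
      rw [show ρ ⟨s * (y : FractionRing E), hsy⟩ = ρ ⟨s, hs⟩ * y from Subtype.ext rfl]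
      exact ⟨fun h => (hM'.mem_or_mem h).resolve_left fun h' => hsM (Ideal.mem_comap.mpr h'), M'.mul_mem_left _⟩
    have e2 : (⟨s * (y : FractionRing E), hsy⟩ : nor D t) ∈ M ↔ y ∈ hit t' ht' h := by
      rw [hMh]
      refine (Ideal.mem_comap.trans ?_).trans Ideal.mem_comap.symm
      rw [show Subalgebra.inclusion (nor_le_integralClosure D htD) ⟨s * (y : FractionRing E), hsy⟩ =
        ⟨s, nor_le_integralClosure D htD hs⟩ * Subalgebra.inclusion (nor_le_integralClosure D ht') y from Subtype.ext rfl]
      exact ⟨fun hm => (hh.isPrime.mem_or_mem hm).resolve_left (hsu' h hh _), h.mul_mem_left _⟩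
    exact e1.symm.trans e2
  -- generators
  obtain ⟨hBN, hfin⟩ := finite_integralClosure_base (t := t') hA hE
  let Q : Submodule (base (A := A) t') (integralClosure (base (A := A) t') (FractionRing E)) :=
    { carrier := {z | (z : FractionRing E) ∈ D.map (toTot (A := A))}
      add_mem' := fun {a b} ha hb => (D.map (toTot (A := A))).add_mem ha hb
      zero_mem' := (D.map (toTot (A := A))).zero_mem
      smul_mem' := fun r z hz => by
        show (r : FractionRing E) * (z : FractionRing E) ∈ D.map (toTot (A := A))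
        exact mul_mem (base_le_map D ht' r.2) hz }
  obtain ⟨σ, hσ⟩ := fg_submodule_of_finite (R := base (A := A) t') (S := integralClosure (base (A := A) t') (FractionRing E)) hBN hfin Q
  have hσmem : ∀ z ∈ σ, ∃ d : D, toTot (A := A) (d : E) = (z : FractionRing E) := fun z hz => by
    have hzQ : z ∈ Q := hσ ▸ Submodule.subset_span hz
    obtain ⟨d, hd, he⟩ := (hzQ : (z : FractionRing E) ∈ D.map (toTot (A := A)))
    exact ⟨⟨d, hd⟩, he⟩
  choose gen hgen using hσmem
  let σD : Finset D := t'.attach.image (fun e => (⟨e.1, ht' e.2⟩ : D)) ∪ σ.attach.image (fun z => gen z.1 z.2)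
  refine (Algebra.essFiniteType_iff A D).mpr ⟨σD, fun x => ?_⟩
  let G := Algebra.adjoin A (σD : Set D)
  let ιD : D →ₐ[A] FractionRing E := (toTot (A := A)).comp D.val
  have hιD : Function.Injective ιD := (toTot_injective (A := A) (E := E)).comp Subtype.val_injective
  have hbaseG : base (A := A) t' ≤ G.map ιD := Algebra.adjoin_le fun w hw => by
    obtain ⟨e, he, rfl⟩ := hw
    exact ⟨⟨e, ht' he⟩, Algebra.subset_adjoin (Finset.mem_union_left _
      (Finset.mem_image.mpr ⟨⟨e, he⟩, Finset.mem_attach _ _, rfl⟩)), rfl⟩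
  have hQG : ∀ z ∈ Q, (z : FractionRing E) ∈ G.map ιD := by
    intro z hz
    rw [← hσ] at hz
    induction hz using Submodule.span_induction with
    | mem w hw =>
      exact ⟨gen w hw, Algebra.subset_adjoin (Finset.mem_union_right _
        (Finset.mem_image.mpr ⟨⟨w, hw⟩, Finset.mem_attach _ _, rfl⟩)), hgen w hw⟩
    | zero => exact zero_mem _
    | add a b _ _ ha hb => exact add_mem ha hb
    | smul r a _ ha => exact mul_mem (hbaseG r.2) ha
  -- the denominator
  have hxK : ιD x ∈ ratSub D := map_le_ratSub D ⟨x, x.2, rfl⟩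
  let J : Ideal (nor D t') :=
    { carrier := {c | (c : FractionRing E) * ιD x ∈ nor D t'}
      add_mem' := fun {a b} (ha : (a : FractionRing E) * ιD x ∈ nor D t') (hb : (b : FractionRing E) * ιD x ∈ nor D t') => by
        show ((a : FractionRing E) + b) * ιD x ∈ nor D t'; rw [add_mul]; exact add_mem ha hb
      zero_mem' := by show (0 : FractionRing E) * ιD x ∈ nor D t'; rw [zero_mul]; exact zero_mem _
      smul_mem' := fun a c (hc : (c : FractionRing E) * ιD x ∈ nor D t') => by
        show (a : FractionRing E) * c * ιD x ∈ nor D t'; rw [mul_assoc]; exact mul_mem a.2 hc }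
  obtain ⟨b, hbn, hbJ⟩ : ∃ b : base (A := A) t', b ∉ n0 t' ht' ∧ Subalgebra.inclusion (hC t' ht') b ∈ J := by
    by_contra! hno
    letI := algC t' ht'
    haveI := hint t' ht'
    haveI : (n0 t' ht').IsPrime := Ideal.comap_isPrime _ _
    obtain ⟨Mq, hJM, hMq, hMo⟩ := Ideal.exists_ideal_over_prime_of_isIntegral (n0 t' ht') J
      (fun b hb => by_contra fun hn => hno b hn hb)
    obtain ⟨h, hh, rfl⟩ := hallhit Mq hMq hMo
    obtain ⟨s, hs, hsu', hsx⟩ := exists_eUnit_denominator D hA hE ht' hspan' hxK
      (isIntegral_algebraMap (x := x))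
    exact hsu' h hh (nor_le_integralClosure D ht' hs) (Ideal.mem_comap.mp (hJM (show (⟨s, hs⟩ : nor D t') ∈ J from hsx)))
  have hbx : (b : FractionRing E) * ιD x ∈ nor D t' := hbJ
  have hbQ : (b : FractionRing E) * ιD x ∈ G.map ιD := hQG ⟨_, hbx.2⟩
    (mul_mem (base_le_map D ht' b.2) ⟨x, x.2, rfl⟩)
  refine ⟨toD D ht' b, ?_, notMem_maximalIdeal.mp hbn, ?_⟩
  · obtain ⟨g, hg, he⟩ := hbaseG b.2
    rwa [show toD D ht' b = g from hιD ((toTot_toD D ht' b).trans he.symm)]
  · obtain ⟨g, hg, he⟩ := hbQ
    rwa [show x * toD D ht' b = g from hιD (by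
      rw [map_mul, mul_comm, show ιD (toD D ht' b) = (b : FractionRing E) from toTot_toD D ht' b]
      exact he.symm)]

end

end Groth.Agent.HensEt88
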