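import Groth.Agent.HensEt88.GaloisIndex

/-!
# Galois extensions of prime degree of the fraction field of a DVR
-/

set_option autoImplicit false
set_option linter.style.haveILetI false

namespace Groth.Agent.HensEt88

universe u

open IsLocalRing Polynomial

/-- The fourth case: one valuation subring, weakly unramified, purely inseparable residue extension of degree `p`. -/
def InsepCase (A : Type u) [CommRing A] [IsLocalRing A] {L : Type u} [Field L] (g : A →+* L) (p : ℕ) : Prop :=
  (∃ V : ValuationSubring L, EtRam.Dominates A g V) ∧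
  (∀ V V' : ValuationSubring L, EtRam.Dominates A g V → EtRam.Dominates A g V' → V = V') ∧
  ∀ (V : ValuationSubring L) (h : EtRam.Dominates A g V),
    letI : Algebra A V := (RingHom.codRestrict g V h.1).toAlgebra
    ∀ [IsLocalHom (algebraMap A V)],
      EtRam.IsWeaklyUnramified A V ∧
        IsPurelyInseparable (IsLocalRing.ResidueField A) (IsLocalRing.ResidueField V) ∧
        Module.finrank (IsLocalRing.ResidueField A) (IsLocalRing.ResidueField V) = p

/-- A field extension of prime degree is separable or purely inseparable. -/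
theorem isSeparable_or_isPurelyInseparable (k l : Type u) [Field k] [Field l] [Algebra k l] {p : ℕ} (hp : p.Prime)
    (hd : Module.finrank k l = p) : Algebra.IsSeparable k l ∨ IsPurelyInseparable k l := by
  haveI : FiniteDimensional k l := Module.finite_of_finrank_pos (hd ▸ hp.pos)
  haveI := IntermediateField.isSimpleOrder_of_finrank_prime k l (hd ▸ hp)
  rcases IsSimpleOrder.eq_bot_or_eq_top (separableClosure k l) with h | h
  · exact Or.inr (separableClosure.eq_bot_iff.mp h)
  · exact Or.inl ((separableClosure.eq_top_iff k l).mp h)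

/-- Separable elements with a `p`-th power below lie below, in characteristic `p`. -/
theorem mem_range_of_isSeparable_of_pow {k l : Type u} [Field k] [Field l] [Algebra k l] {p : ℕ} (hp : p.Prime)
    [CharP k p] {x : l} (hs : IsSeparable k x) (hx : x ^ p ∈ (algebraMap k l).range) : x ∈ (algebraMap k l).range := by
  haveI : ExpChar k p := ExpChar.prime hp
  haveI : IsPurelyInseparable k (IntermediateField.adjoin k {x}) :=
    (IntermediateField.isPurelyInseparable_adjoin_simple_iff_pow_mem k l p).mpr ⟨1, by rwa [pow_one]⟩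
  haveI := (IntermediateField.isSeparable_adjoin_simple_iff_isSeparable (F := k) (E := l)).mpr hs
  obtain ⟨c, hc⟩ := IsPurelyInseparable.surjective_algebraMap_of_isSeparable k (IntermediateField.adjoin k {x})
    ⟨x, IntermediateField.mem_adjoin_simple_self k x⟩
  exact ⟨c, congrArg Subtype.val hc⟩

variable {A K L : Type u} [CommRing A] [IsDomain A] [IsDiscreteValuationRing A] [Field K] [Algebra A K]
  [IsFractionRing A K] [Field L] [Algebra K L] [Algebra A L] [IsScalarTower A K L] [FiniteDimensional K L]
  [IsGalois K L]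

/-- Conjugates of a dominating valuation subring dominate. -/
theorem dominates_comap_algEquiv (σ : L ≃ₐ[K] L) {V : ValuationSubring L}
    (hV : EtRam.Dominates A (algebraMap A L) V) : EtRam.Dominates A (algebraMap A L) (V.comap (σ : L →+* L)) :=
  dominates_comap (σ : L →+* L) (RingHom.ext fun a => by
    show algebraMap A L a = σ (algebraMap A L a)
    rw [IsScalarTower.algebraMap_apply A K L, σ.commutes]) hV

omit [IsDomain A] [IsDiscreteValuationRing A] [IsFractionRing A K] [FiniteDimensional K L] [IsGalois K L] in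
theorem valuation_lt_one_of_invariant (σ : L ≃ₐ[K] L) {V : ValuationSubring L}
    (hσ : V.comap (σ : L →+* L) = V) {y : L} (hy : V.valuation y < 1) : V.valuation (σ y) < 1 := by
  by_contra h
  rw [not_lt] at h
  have hy0 : y ≠ 0 := fun h0 => by rw [h0, map_zero, map_zero] at h; exact absurd h (not_le.mpr zero_lt_one)
  have h1 : V.valuation (σ y⁻¹) ≤ 1 := by
    rw [map_inv₀, map_inv₀]; exact inv_le_one_of_one_le₀ h
  have h2 : y⁻¹ ∈ V := by
    rw [← hσ]; exact (V.valuation_le_one_iff _).mp h1
  have h3 : V.valuation y⁻¹ * V.valuation y < 1 :=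
    (mul_le_of_le_one_left' ((V.valuation_le_one_iff _).mpr h2)).trans_lt hy
  rw [← map_mul, inv_mul_cancel₀ hy0, map_one] at h3
  exact lt_irrefl _ h3

variable {p : ℕ} (hp : p.Prime)

include hp in
/-- The trichotomy for Galois extensions of prime degree. -/
theorem trichotomy (hd : Module.finrank K L = p) :
    EtRam.IsUnramifiedExt A (algebraMap A L) ∨ EtRam.IsTotallyRamified A (algebraMap A L) ∨
      InsepCase A (algebraMap A L) p := by
  classical
  obtain ⟨e, f, g, hefg, huniq, hV⟩ := galois_efg A K L
  rw [hd] at hefg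
  have hprime : (e = p ∧ f = 1 ∧ g = 1) ∨ (e = 1 ∧ f = p ∧ g = 1) ∨ (e = 1 ∧ f = 1 ∧ g = p) := by
    rcases (Nat.dvd_prime hp).mp (show g ∣ p from ⟨e * f, by rw [← hefg]; ring⟩) with (hg : g = 1) | (hg : g = p)
    · rw [hg, mul_one] at hefg
      rcases (Nat.dvd_prime hp).mp ⟨f, hefg.symm⟩ with (he : e = 1) | (he : e = p)
      · rw [he, one_mul] at hefg; exact Or.inr (Or.inl ⟨he, hefg, hg⟩)
      · rw [he] at hefg; exact Or.inl ⟨he, (Nat.mul_eq_left hp.pos.ne').mp hefg, hg⟩
    · rw [hg] at hefg
      have h1 : e * f = 1 := (Nat.mul_eq_right hp.pos.ne').mp hefg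
      exact Or.inr (Or.inr ⟨Nat.eq_one_of_mul_eq_one_right h1, Nat.eq_one_of_mul_eq_one_left h1, hg⟩)
  have hsep1 : f = 1 → ∀ (V : ValuationSubring L) (h : EtRam.Dominates A (algebraMap A L) V),
      letI : Algebra A V := (RingHom.codRestrict (algebraMap A L) V h.1).toAlgebra
      ∀ [IsLocalHom (algebraMap A V)], Function.Surjective (algebraMap (ResidueField A) (ResidueField V)) := by
    intro hf V h
    letI : Algebra A V := (RingHom.codRestrict (algebraMap A L) V h.1).toAlgebra
    intro _ y
    have h1 := (hV V h).2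
    rw [hf] at h1
    haveI : FiniteDimensional (ResidueField A) (ResidueField V) := Module.finite_of_finrank_pos (h1 ▸ Nat.one_pos)
    obtain ⟨c, hc⟩ := (finrank_eq_one_iff_of_nonzero' (1 : ResidueField V) one_ne_zero).mp h1 y
    exact ⟨c, by rw [← hc, Algebra.smul_def, mul_one]⟩
  rcases hprime with ⟨he, hf, hg⟩ | ⟨he, hf, hg⟩ | ⟨he, hf, hg⟩
  · refine Or.inr (Or.inl ⟨exists_dominates _, huniq hg, fun V h y => ?_⟩)
    letI : Algebra A V := (RingHom.codRestrict (algebraMap A L) V h.1).toAlgebra
    haveI : IsLocalHom (algebraMap A V) := Dominates.isLocalHom h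
    obtain ⟨c, hc⟩ := hsep1 hf V h y
    obtain ⟨a, rfl⟩ := residue_surjective c
    exact ⟨a, hc⟩
  · obtain ⟨V₀, hV₀⟩ := exists_dominates (algebraMap A L)
    letI : Algebra A V₀ := (RingHom.codRestrict (algebraMap A L) V₀ hV₀.1).toAlgebra
    haveI : IsLocalHom (algebraMap A V₀) := Dominates.isLocalHom hV₀
    have hne : ∀ (V : ValuationSubring L) (h : EtRam.Dominates A (algebraMap A L) V),
        (maximalIdeal A).map ((algebraMap A L).codRestrict V h.1) ≠ ⊥ := fun V h => by
      rw [Ne, Ideal.map_eq_bot_iff_of_injective]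
      · exact IsDiscreteValuationRing.not_a_field A
      · intro a b hab
        have h2 : algebraMap A L a = algebraMap A L b := congrArg Subtype.val hab
        rw [IsScalarTower.algebraMap_apply A K L, IsScalarTower.algebraMap_apply A K L] at h2
        exact IsFractionRing.injective A K ((algebraMap K L).injective h2)
    haveI hdvr : IsDiscreteValuationRing V₀ := isDiscreteValuationRing_of_dominates (K := K) (A := A)
      (by rw [← IsScalarTower.algebraMap_eq]; exact hV₀)
    have hw : EtRam.IsWeaklyUnramified A V₀ := (isWeaklyUnramified_iff A V₀ (hne V₀ hV₀)).mpr ((hV V₀ hV₀).1.trans he)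
    have hfr := (hV V₀ hV₀).2.trans hf
    rcases isSeparable_or_isPurelyInseparable (ResidueField A) (ResidueField V₀) hp hfr with hs | hs
    · refine Or.inl fun V h => ?_
      obtain rfl := huniq hg V V₀ h hV₀
      exact ⟨hw, hs⟩
    · refine Or.inr (Or.inr ⟨⟨V₀, hV₀⟩, huniq hg, fun V h => ?_⟩)
      obtain rfl := huniq hg V V₀ h hV₀
      exact ⟨hw, hs, hfr⟩
  · refine Or.inl fun V h => ?_
    letI : Algebra A V := (RingHom.codRestrict (algebraMap A L) V h.1).toAlgebra
    intro _
    haveI : IsDiscreteValuationRing V := isDiscreteValuationRing_of_dominates (K := K) (A := A)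
      (by rw [← IsScalarTower.algebraMap_eq]; exact h)
    refine ⟨(isWeaklyUnramified_iff A V ?_).mpr ((hV V h).1.trans he), ⟨fun y => ?_⟩⟩
    · rw [Ne, Ideal.map_eq_bot_iff_of_injective]
      · exact IsDiscreteValuationRing.not_a_field A
      · intro a b hab
        have h2 : algebraMap A L a = algebraMap A L b := congrArg Subtype.val hab
        rw [IsScalarTower.algebraMap_apply A K L, IsScalarTower.algebraMap_apply A K L] at h2
        exact IsFractionRing.injective A K ((algebraMap K L).injective h2)
    · obtain ⟨c, rfl⟩ := hsep1 hf V h y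
      exact isSeparable_algebraMap c

include hp in
/-- Unramifiedness from an automorphism moving an integral element with separable reduction. -/
theorem unramified_of_moving (hd : Module.finrank K L = p) (z : L) (P : A[X]) (hP : P.Monic)
    (hsep : (P.map (residue A)).Separable) (hz : aeval z P = 0) (σ : L ≃ₐ[K] L)
    (hσ : ∀ V : ValuationSubring L, EtRam.Dominates A (algebraMap A L) V → z ∈ V → 1 ≤ V.valuation (σ z - z)) :
    EtRam.IsUnramifiedExt A (algebraMap A L) := by
  have hzV : ∀ V : ValuationSubring L, EtRam.Dominates A (algebraMap A L) V → z ∈ V := fun V hV =>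
    integralClosure_le_of_dominates hV ⟨z, P, hP, hz⟩
  have key : ∀ V : ValuationSubring L, EtRam.Dominates A (algebraMap A L) V → V.comap (σ : L →+* L) = V →
      ∀ a : A, V.valuation (z - algebraMap A L a) < 1 → False := by
    intro V hV hinv a ha
    have h1 := valuation_lt_one_of_invariant σ hinv ha
    rw [map_sub σ, show σ (algebraMap A L a) = algebraMap A L a by
      rw [IsScalarTower.algebraMap_apply A K L, σ.commutes]] at h1
    have h2 : V.valuation (σ z - z) < 1 := by
      rw [← sub_sub_sub_cancel_right (σ z) z (algebraMap A L a)]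
      exact (Valuation.map_sub _ _ _).trans_lt (max_lt h1 ha)
    exact absurd h2 (not_lt.mpr (hσ V hV (hzV V hV)))
  rcases trichotomy (A := A) (K := K) (L := L) hp hd with h | ⟨⟨V, hV⟩, huniq, hsurj⟩ | ⟨⟨V, hV⟩, huniq, hins⟩
  · exact h
  · exfalso
    obtain ⟨a, ha⟩ := hsurj V hV (residue V ⟨z, hzV V hV⟩)
    refine key V hV (huniq _ _ (dominates_comap_algEquiv σ hV) hV) a ?_
    have h1 : (⟨z, hzV V hV⟩ - (algebraMap A L).codRestrict V hV.1 a : V) ∈ maximalIdeal V := by
      rw [← residue_eq_zero_iff, map_sub, sub_eq_zero]; exact ha.symm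
    exact (V.valuation_lt_one_iff _).mp h1
  · exfalso
    letI : Algebra A V := (RingHom.codRestrict (algebraMap A L) V hV.1).toAlgebra
    haveI : IsLocalHom (algebraMap A V) := Dominates.isLocalHom hV
    obtain ⟨-, hpi, -⟩ := hins V hV
    have hroot : aeval (residue V ⟨z, hzV V hV⟩) (P.map (residue A)) = 0 := by
      have h0 : aeval (⟨z, hzV V hV⟩ : V) P = 0 := Subtype.ext (by
        rw [ZeroMemClass.coe_zero, ← hz, aeval_def, aeval_def]
        exact hom_eval₂ P (algebraMap A V) V.subtype _)
      rw [← ResidueField.algebraMap_eq A, aeval_map_algebraMap,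
        show residue V ⟨z, hzV V hV⟩ = IsScalarTower.toAlgHom A V (ResidueField V) ⟨z, hzV V hV⟩ from rfl,
        aeval_algHom_apply, h0, map_zero]
    have hs : IsSeparable (ResidueField A) (residue V ⟨z, hzV V hV⟩) := hsep.of_dvd (minpoly.dvd _ _ hroot)
    obtain ⟨c, hc⟩ := IsPurelyInseparable.inseparable (ResidueField A) _ hs
    obtain ⟨a, rfl⟩ := residue_surjective c
    refine key V hV (huniq _ _ (dominates_comap_algEquiv σ hV) hV) a ?_
    have h1 : (⟨z, hzV V hV⟩ - algebraMap A V a : V) ∈ maximalIdeal V := by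
      rw [← residue_eq_zero_iff, map_sub, sub_eq_zero]; exact hc.symm
    exact (V.valuation_lt_one_iff _).mp h1

include hp in
/-- Total ramification from a `p`-th power of value prime to `p`. -/
theorem totallyRamified_of_pow (hd : Module.finrank K L = 1 ∨ Module.finrank K L = p) {π : A}
    (hπ : maximalIdeal A = Ideal.span {π}) {V : ValuationSubring L} (hV : EtRam.Dominates A (algebraMap A L) V)
    {y u : L} {n : ℕ} (hn : ¬ p ∣ n) (hy : y ∈ V) (hu : V.valuation u = 1) (he : y ^ p = u * algebraMap A L π ^ n) :
    EtRam.IsTotallyRamified A (algebraMap A L) ∧ Module.finrank K L = p := by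
  classical
  obtain ⟨e, f, g, hefg, huniq, hVi⟩ := galois_efg A K L
  letI : Algebra A V := (RingHom.codRestrict (algebraMap A L) V hV.1).toAlgebra
  haveI : IsLocalHom (algebraMap A V) := Dominates.isLocalHom hV
  haveI : IsDiscreteValuationRing V := isDiscreteValuationRing_of_dominates (K := K) (A := A)
    (by rw [← IsScalarTower.algebraMap_eq]; exact hV)
  obtain ⟨ϖ, hϖ⟩ := IsDiscreteValuationRing.exists_irreducible V
  have hπ0 : π ≠ 0 := fun h => IsDiscreteValuationRing.not_a_field A (by rw [hπ, h, Ideal.span_singleton_eq_bot])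
  have hinj : Function.Injective (algebraMap A V) := fun a b hab => by
    have h2 : algebraMap A L a = algebraMap A L b := congrArg Subtype.val hab
    rw [IsScalarTower.algebraMap_apply A K L, IsScalarTower.algebraMap_apply A K L] at h2
    exact IsFractionRing.injective A K ((algebraMap K L).injective h2)
  have hmap : (maximalIdeal A).map (algebraMap A V) = maximalIdeal V ^ e := by
    rw [← (hVi V hV).1]
    refine map_maximalIdeal_eq_pow A V ?_
    rw [Ne, Ideal.map_eq_bot_iff_of_injective hinj]
    exact IsDiscreteValuationRing.not_a_field A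
  rw [hπ, Ideal.map_span, Set.image_singleton, hϖ.maximalIdeal_eq, Ideal.span_singleton_pow,
    Ideal.span_singleton_eq_span_singleton] at hmap
  obtain ⟨w, hw⟩ := hmap.symm
  have huV : u ∈ V := (V.valuation_le_one_iff u).mp hu.le
  obtain ⟨uu, huu⟩ : IsUnit (⟨u, huV⟩ : V) := (V.valuation_eq_one_iff ⟨u, huV⟩).mpr hu
  have heV : (⟨y, hy⟩ : V) ^ p = (uu : V) * algebraMap A V π ^ n := Subtype.ext (by
    rw [huu]; exact he)
  have hy0 : (⟨y, hy⟩ : V) ≠ 0 := fun h => by
    rw [h, zero_pow hp.pos.ne'] at heV
    exact mul_ne_zero uu.ne_zero (pow_ne_zero n ((map_ne_zero_iff _ hinj).mpr hπ0)) heV.symm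
  obtain ⟨j, v, hv⟩ := IsDiscreteValuationRing.eq_unit_mul_pow_irreducible hy0 hϖ
  rw [hv, ← hw, mul_pow, mul_pow, ← pow_mul, ← pow_mul] at heV
  have hje : j * p = e * n := IsDiscreteValuationRing.unit_mul_pow_congr_pow hϖ hϖ (v ^ p) (uu * w ^ n) _ _
    (by push_cast; rw [heV]; ring)
  have hpe : p ∣ e := ((Nat.Prime.dvd_mul hp).mp ⟨j, by rw [← hje, mul_comm]⟩).resolve_right hn
  have hd' : Module.finrank K L = p := hd.resolve_left fun h1 => by
    rw [h1] at hefg
    exact hp.not_dvd_one (hefg ▸ (hpe.mul_right f).mul_right g)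
  rw [hd', mul_assoc] at hefg
  have he' : e = p := Nat.dvd_antisymm ⟨f * g, hefg.symm⟩ hpe
  rw [he'] at hefg
  have hfg : f * g = 1 := (Nat.mul_eq_left hp.pos.ne').mp hefg
  refine ⟨⟨⟨V, hV⟩, huniq (Nat.eq_one_of_mul_eq_one_left hfg), fun W hW y => ?_⟩, hd'⟩
  obtain rfl := huniq (Nat.eq_one_of_mul_eq_one_left hfg) W V hW hV
  have h1 := (hVi W hW).2
  rw [Nat.eq_one_of_mul_eq_one_right hfg] at h1
  haveI : FiniteDimensional (ResidueField A) (ResidueField W) := Module.finite_of_finrank_pos (h1 ▸ Nat.one_pos)
  obtain ⟨c, hc⟩ := (finrank_eq_one_iff_of_nonzero' (1 : ResidueField W) one_ne_zero).mp h1 y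
  obtain ⟨a, rfl⟩ := residue_surjective c
  exact ⟨a, by rw [← hc, Algebra.smul_def, mul_one]; rfl⟩

include hp in
/-- The inseparable case from a residue class whose `p`-th power only lies below. -/
theorem insepCase_of_residue [CharP (ResidueField A) p] (hd : Module.finrank K L = 1 ∨ Module.finrank K L = p)
    {V : ValuationSubring L} (hV : EtRam.Dominates A (algebraMap A L) V) (w : V) (a : A)
    (ha : ∀ r : A, residue A a ≠ residue A r ^ p)
    (hw : residue V w ^ p = residue V ((algebraMap A L).codRestrict V hV.1 a)) :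
    InsepCase A (algebraMap A L) p ∧ Module.finrank K L = p := by
  classical
  obtain ⟨e, f, g, hefg, huniq, hVi⟩ := galois_efg A K L
  letI : Algebra A V := (RingHom.codRestrict (algebraMap A L) V hV.1).toAlgebra
  haveI : IsLocalHom (algebraMap A V) := Dominates.isLocalHom hV
  have hnr : residue V w ∉ (algebraMap (ResidueField A) (ResidueField V)).range := by
    rintro ⟨c, hc⟩
    obtain ⟨r, rfl⟩ := residue_surjective c
    refine ha r ((algebraMap (ResidueField A) (ResidueField V)).injective ?_)
    rw [map_pow, hc, hw]; rfl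
  have hf1 : f ≠ 1 := fun hf => hnr (by
    have h1 := (hVi V hV).2
    rw [hf] at h1
    haveI : FiniteDimensional (ResidueField A) (ResidueField V) := Module.finite_of_finrank_pos (h1 ▸ Nat.one_pos)
    obtain ⟨c, hc⟩ := (finrank_eq_one_iff_of_nonzero' (1 : ResidueField V) one_ne_zero).mp h1 (residue V w)
    exact ⟨c, by rw [← hc, Algebra.smul_def, mul_one]⟩)
  have hfd : f ∣ Module.finrank K L := ⟨e * g, by rw [← hefg]; ring⟩
  have hd' : Module.finrank K L = p := hd.resolve_left fun h1 => hf1 (Nat.dvd_one.mp (h1 ▸ hfd))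
  rw [hd'] at hfd hefg
  have hf : f = p := ((Nat.dvd_prime hp).mp hfd).resolve_left hf1
  have heg : e * g = 1 := by
    rw [hf, mul_right_comm] at hefg
    exact (Nat.mul_eq_right hp.pos.ne').mp hefg
  have hfr := (hVi V hV).2.trans hf
  have hpi : IsPurelyInseparable (ResidueField A) (ResidueField V) :=
    (isSeparable_or_isPurelyInseparable _ _ hp hfr).resolve_left fun hs =>
      hnr (mem_range_of_isSeparable_of_pow hp (Algebra.IsSeparable.isSeparable (ResidueField A) (residue V w)) (by rw [hw]; exact ⟨residue A a, rfl⟩))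
  refine ⟨⟨⟨V, hV⟩, huniq (Nat.eq_one_of_mul_eq_one_left heg), fun W hW => ?_⟩, hd'⟩
  intro _
  obtain rfl := huniq (Nat.eq_one_of_mul_eq_one_left heg) W V hW hV
  haveI : IsDiscreteValuationRing W := isDiscreteValuationRing_of_dominates (K := K) (A := A)
    (by rw [← IsScalarTower.algebraMap_eq]; exact hV)
  refine ⟨(isWeaklyUnramified_iff A W ?_).mpr ((hVi W hV).1.trans (Nat.eq_one_of_mul_eq_one_right heg)), hpi, hfr⟩
  rw [Ne, Ideal.map_eq_bot_iff_of_injective]
  · exact IsDiscreteValuationRing.not_a_field A
  · intro x y hab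
    have h2 : algebraMap A L x = algebraMap A L y := congrArg Subtype.val hab
    rw [IsScalarTower.algebraMap_apply A K L, IsScalarTower.algebraMap_apply A K L] at h2
    exact IsFractionRing.injective A K ((algebraMap K L).injective h2)

end Groth.Agent.HensEt88
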