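import Mathlib

/-!
# Products of valuation rings have weak dimension at most one
-/

set_option autoImplicit false
set_option linter.style.haveILetI false

namespace Groth.Agent.HensEt88

universe u

open TensorProduct

/-- If all finitely generated ideals are flat then all ideals are flat. -/
theorem flat_ideal_of_fg {R : Type u} [CommRing R] (h : ∀ I : Ideal R, I.FG → Module.Flat R I)
    (I : Ideal R) : Module.Flat R I := by
  refine Module.Flat.iff_lTensor_injective'.mpr fun J => (injective_iff_map_eq_zero _).mpr fun z hz => ?_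
  obtain ⟨I₀, hfg, hle, y, rfl⟩ := Submodule.exists_fg_le_eq_rTensor_inclusion z
  haveI := h I₀ hfg
  have h1 : LinearMap.lTensor (I₀ : Ideal R) J.subtype y = 0 := by
    refine Module.Flat.rTensor_preserves_injective_linearMap (M := R) (Submodule.inclusion hle)
      (Submodule.inclusion_injective hle) ?_
    rw [map_zero, ← hz, ← LinearMap.comp_apply, LinearMap.rTensor_comp_lTensor,
      ← LinearMap.comp_apply (LinearMap.lTensor _ _), LinearMap.lTensor_comp_rTensor]
  rw [(injective_iff_map_eq_zero _).mp (Module.Flat.lTensor_preserves_injective_linearMap J.subtype J.injective_subtype) y h1,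
    map_zero]

variable {ι : Type u} {R : ι → Type u} [∀ i, CommRing (R i)] [∀ i, IsDomain (R i)]

/-- Principal ideals in a product of domains are flat. -/
theorem flat_span_singleton_pi (g : ∀ i, R i) : Module.Flat (∀ i, R i) (Ideal.span {g}) := by
  classical
  let e : ∀ i, R i := fun i => if g i = 0 then 0 else 1
  have hex : ∀ z : Ideal.span {g}, ∃ c, c * g = (z : ∀ i, R i) := fun z => Ideal.mem_span_singleton'.mp z.2
  choose c hc using hex
  have key : ∀ x y : ∀ i, R i, x * g = y * g → e * x = e * y := fun x y h => funext fun i => by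
    have hi := congrFun h i
    simp only [Pi.mul_apply] at hi
    by_cases h0 : g i = 0
    · simp [e, h0]
    · simp [e, h0, mul_right_cancel₀ h0 hi]
  have heg : e * g = g := funext fun i => by
    by_cases h0 : g i = 0 <;> simp [e, h0]
  let s : Ideal.span {g} →ₗ[∀ i, R i] (∀ i, R i) :=
    { toFun := fun z => e * c z
      map_add' := fun x y => by
        show e * c (x + y) = e * c x + e * c y
        rw [← mul_add]
        exact key _ _ (by rw [hc, add_mul, hc, hc, Submodule.coe_add])
      map_smul' := fun r x => by
        show e * c (r • x) = r • (e * c x)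
        rw [smul_eq_mul, mul_left_comm r e]
        exact key _ _ (by rw [hc, mul_assoc, hc, Submodule.coe_smul, smul_eq_mul]) }
  let p : (∀ i, R i) →ₗ[∀ i, R i] Ideal.span {g} :=
    LinearMap.toSpanSingleton _ _ ⟨g, Ideal.mem_span_singleton_self g⟩
  refine Module.Flat.of_retract s p (LinearMap.ext fun z => Subtype.ext ?_)
  show (e * c z) * g = (z : ∀ i, R i)
  rw [mul_right_comm, heg, mul_comm, hc]

variable [∀ i, ValuationRing (R i)]

theorem isBezout_pi : IsBezout (∀ i, R i) := by
  refine IsBezout.iff_span_pair_isPrincipal.mpr fun x y => ?_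
  have h : ∀ i, ∃ g a b c d : R i, g * c = x i ∧ g * d = y i ∧ a * x i + b * y i = g := fun i => by
    rcases ValuationRing.dvd_total (x i) (y i) with ⟨d, hd⟩ | ⟨c, hc⟩
    · exact ⟨x i, 1, 0, 1, d, by simp, hd.symm, by simp⟩
    · exact ⟨y i, 0, 1, c, 1, hc.symm, by simp, by simp⟩
  choose g a b c d h1 h2 h3 using h
  refine ⟨g, le_antisymm ?_ ?_⟩
  · rw [Ideal.span_le]
    rintro z (rfl | rfl)
    · exact Ideal.mem_span_singleton'.mpr ⟨c, funext fun i => by rw [Pi.mul_apply, mul_comm, h1]⟩
    · exact Ideal.mem_span_singleton'.mpr ⟨d, funext fun i => by rw [Pi.mul_apply, mul_comm, h2]⟩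
  · rw [Submodule.span_singleton_le_iff_mem]
    exact Ideal.mem_span_pair.mpr ⟨a, b, funext h3⟩

/-- Every ideal in a product of valuation rings is flat. -/
theorem flat_ideal_pi (I : Ideal (∀ i, R i)) : Module.Flat (∀ i, R i) I :=
  flat_ideal_of_fg (fun J hJ => by
    haveI := isBezout_pi (R := R)
    obtain ⟨g, rfl⟩ := IsBezout.isPrincipal_of_FG J hJ
    exact flat_span_singleton_pi g) I

end Groth.Agent.HensEt88
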