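import Groth.Agent.KrullAki.Valuation
import Mathlib.RingTheory.Artinian.Module
import Mathlib.RingTheory.EssentialFiniteness
import Mathlib.RingTheory.IntegralClosure.IntegrallyClosed

/-!
# Integral closure in a reduced tensor product
-/

set_option autoImplicit false
set_option linter.style.haveILetI false

namespace Groth.Agent.HensEt88

universe u

open TensorProduct

/-- Noetherianness of integral closure in a finite product of fields, componentwise. -/
theorem isNoetherianRing_integralClosure_of_forall {B L' : Type u} [CommRing B] [CommRing L'] [Algebra B L']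
    [IsArtinianRing L'] [IsReduced L']
    (h : ∀ I : MaximalSpectrum L', IsNoetherianRing (integralClosure B (L' ⧸ I.asIdeal))) :
    IsNoetherianRing (integralClosure B L') := by
  classical
  haveI := Fintype.ofFinite (MaximalSpectrum L')
  let e := (IsArtinianRing.equivPi L').restrictScalars B
  let φ : integralClosure B L' →+* ∀ I : MaximalSpectrum L', integralClosure B (L' ⧸ I.asIdeal) :=
    RingHom.pi fun I => ((Ideal.Quotient.mkₐ B I.asIdeal).comp (integralClosure B L').val).toRingHom.codRestrict _
      fun x => x.2.map (Ideal.Quotient.mkₐ B I.asIdeal)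
  have hsurj : Function.Surjective φ := fun y => by
    have hz : IsIntegral B (e.symm fun I => (y I : L' ⧸ I.asIdeal)) := by
      refine IsIntegral.map e.symm.toAlgHom ?_
      choose P hP hPy using fun I => (y I).2
      refine ⟨∏ I, P I, Polynomial.monic_prod_of_monic _ _ fun I _ => hP I, ?_⟩
      rw [← Polynomial.aeval_def]
      funext J
      show Pi.evalAlgHom B (fun I : MaximalSpectrum L' => L' ⧸ I.asIdeal) J (Polynomial.aeval _ (∏ I, P I)) = 0
      rw [← Polynomial.aeval_algHom_apply, map_prod]
      refine Finset.prod_eq_zero (Finset.mem_univ J) ?_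
      exact hPy J
    refine ⟨⟨_, hz⟩, funext fun I => Subtype.ext ?_⟩
    show Ideal.Quotient.mk I.asIdeal (e.symm fun I => (y I : L' ⧸ I.asIdeal)) = y I
    rw [← IsArtinianRing.equivPi_apply]
    exact congrFun (e.apply_symm_apply _) I
  have hinj : Function.Injective φ := fun x y hxy => Subtype.ext (e.injective (funext fun I =>
    congrArg Subtype.val (congrFun hxy I)))
  exact isNoetherianRing_of_ringEquiv _ (RingEquiv.ofBijective φ ⟨hinj, hsurj⟩).symm

variable {A B K L : Type u} [CommRing A] [IsDomain A] [IsDiscreteValuationRing A] [CommRing B] [IsDomain B]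
  [IsDiscreteValuationRing B] [Algebra A B] [Algebra.EssFiniteType A B] [Field K] [Field L] [Algebra A K]
  [IsFractionRing A K] [Algebra B L] [IsFractionRing B L] [Algebra K L] [Algebra A L] [IsScalarTower A K L]
  [IsScalarTower A B L] {K' : Type u} [Field K'] [Algebra K K'] [Algebra A K'] [IsScalarTower A K K']
  [Algebra.IsAlgebraic K K']

/-- Krull–Akizuki for the reduced tensor product. -/
theorem isNoetherianRing_integralClosure_tensor (hA' : IsNoetherianRing (integralClosure A K'))
    (L' : Type u) [CommRing L'] [IsReduced L'] [Algebra K L'] [Algebra L L'] [Algebra K' L'] [Algebra B L']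
    [IsScalarTower K L L'] [IsScalarTower K K' L'] [IsScalarTower B L L']
    (q : L ⊗[K] K' →ₐ[K] L') (hq : Function.Surjective q)
    (hqL : ∀ y : L, q (y ⊗ₜ 1) = algebraMap L L' y) (hqK : ∀ z : K', q (1 ⊗ₜ z) = algebraMap K' L' z) :
    IsNoetherianRing (integralClosure B L') := by
  classical
  haveI : Algebra.EssFiniteType A L := by
    haveI : Algebra.EssFiniteType B L := Algebra.EssFiniteType.of_isLocalization L (nonZeroDivisors B)
    exact Algebra.EssFiniteType.comp A B L
  haveI : Algebra.EssFiniteType K L := Algebra.EssFiniteType.of_comp A K L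
  haveI : IsNoetherianRing (L ⊗[K] K') := by
    haveI : IsNoetherianRing (K' ⊗[K] L) := Algebra.EssFiniteType.isNoetherianRing K' _
    exact isNoetherianRing_of_ringEquiv _ (Algebra.TensorProduct.comm K K' L).toRingEquiv
  haveI : IsNoetherianRing L' := isNoetherianRing_of_surjective _ L' q.toRingHom hq
  let qL : L ⊗[K] K' →ₐ[L] L' := { toRingHom := q.toRingHom, commutes' := hqL }
  haveI : Algebra.IsIntegral L L' := by
    haveI : Algebra.IsIntegral K K' := Algebra.IsAlgebraic.isIntegral
    exact Algebra.IsIntegral.of_surjective (R := L) qL hq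
  haveI : Ring.KrullDimLE 0 L' := Ring.KrullDimLE.mk₀ fun I hI => by
    haveI := hI
    exact Ideal.isMaximal_of_isIntegral_of_isMaximal_comap (R := L) I
      (by rw [show I.comap (algebraMap L L') = ⊥ from
        (Ideal.eq_bot_or_top _).resolve_right (Ideal.comap_isPrime _ I).ne_top]; exact Ideal.bot_isMaximal)
  haveI : IsArtinianRing L' := isArtinianRing_iff_isNoetherianRing_krullDimLE_zero.mpr ⟨inferInstance, inferInstance⟩
  refine isNoetherianRing_integralClosure_of_forall fun I => ?_
  letI : Field (L' ⧸ I.asIdeal) := Ideal.Quotient.field _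
  let F := L' ⧸ I.asIdeal
  let p : L' →+* F := Ideal.Quotient.mk _
  let jB : B →+* F := p.comp (algebraMap B L')
  let jK : K' →+* F := p.comp (algebraMap K' L')
  have hjA : ∀ a : A, jB (algebraMap A B a) = jK (algebraMap A K' a) := fun a => congrArg p (by
    rw [IsScalarTower.algebraMap_apply B L L', ← IsScalarTower.algebraMap_apply A B L,
      IsScalarTower.algebraMap_apply A K L, ← IsScalarTower.algebraMap_apply K L L',
      IsScalarTower.algebraMap_apply A K K', ← IsScalarTower.algebraMap_apply K K' L'])
  let A' := integralClosure A K'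
  letI : Algebra A F := (jB.comp (algebraMap A B)).toAlgebra
  let gB : B →ₐ[A] F := { toRingHom := jB, commutes' := fun a => rfl }
  let gA : A' →ₐ[A] F := { toRingHom := jK.comp A'.val.toRingHom, commutes' := fun a => (hjA a).symm }
  let ψ : A' ⊗[A] B →ₐ[A] F := Algebra.TensorProduct.lift gA gB fun _ _ => Commute.all _ _
  haveI : IsNoetherianRing (A' ⊗[A] B) := Algebra.EssFiniteType.isNoetherianRing A' _
  let R : Subring F := ψ.toRingHom.range
  haveI : IsNoetherianRing R := isNoetherianRing_of_surjective _ R ψ.toRingHom.rangeRestrict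
    ψ.toRingHom.rangeRestrict_surjective
  have hjB : Function.Injective jB := by
    have h1 : jB = (p.comp (algebraMap L L')).comp (algebraMap B L) := by
      rw [RingHom.comp_assoc, ← IsScalarTower.algebraMap_eq]
    rw [h1]
    exact (p.comp (algebraMap L L')).injective.comp (IsFractionRing.injective B L)
  have hBR : ∀ b, jB b ∈ R := fun b => ⟨1 ⊗ₜ b, by simp [ψ, gB]⟩
  have hAR : ∀ a : A', jK (a : K') ∈ R := fun a => ⟨a ⊗ₜ 1, by simp [ψ, gA]⟩
  -- `R` has fraction field `F`
  have hfrac : ∀ w : F, ∃ a ∈ R, ∃ b ∈ R, b ≠ 0 ∧ a = w * b := by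
    intro w
    obtain ⟨w, rfl⟩ := Ideal.Quotient.mk_surjective w
    obtain ⟨t, rfl⟩ := hq w
    induction t with
    | zero => exact ⟨0, zero_mem _, 1, one_mem _, one_ne_zero, by simp⟩
    | add x y hx hy =>
      obtain ⟨a, ha, b, hb, hb0, h1⟩ := hx
      obtain ⟨c, hc, d, hd, hd0, h2⟩ := hy
      exact ⟨a * d + c * b, add_mem (mul_mem ha hd) (mul_mem hc hb), b * d, mul_mem hb hd, mul_ne_zero hb0 hd0, by
        rw [map_add, map_add, h1, h2]; ring⟩
    | tmul y z =>
      obtain ⟨b, s, hs, rfl⟩ := IsFractionRing.div_surjective (A := B) y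
      haveI : Algebra.IsAlgebraic A K' := (IsFractionRing.comap_isAlgebraic_iff (A := A) (K := K) (C := K')).mpr inferInstance
      obtain ⟨t, ht, hint⟩ := (Algebra.IsAlgebraic.isAlgebraic (R := A) z).exists_integral_multiple
      have hs0 : algebraMap B L s ≠ 0 := IsFractionRing.to_map_ne_zero_of_mem_nonZeroDivisors hs
      have ht0 : algebraMap A K' t ≠ 0 := by
        rw [IsScalarTower.algebraMap_apply A K K']
        exact (map_ne_zero _).mpr ((map_ne_zero_iff _ (IsFractionRing.injective A K)).mpr ht)
      refine ⟨jB b * jK ((⟨_, hint⟩ : A') : K'), mul_mem (hBR b) (hAR _), jB s * jB (algebraMap A B t),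
        mul_mem (hBR s) (hBR _), mul_ne_zero ((map_ne_zero_iff _ hjB).mpr (nonZeroDivisors.ne_zero hs))
          (by rw [hjA]; exact (map_ne_zero _).mpr ht0), ?_⟩
      rw [hjA]
      show p _ * p _ = p (q _) * (p _ * p _)
      rw [← map_mul, ← map_mul, ← map_mul]
      congr 1
      rw [show (algebraMap B L b / algebraMap B L s) ⊗ₜ[K] z = ((algebraMap B L b / algebraMap B L s) ⊗ₜ[K] (1 : K')) * ((1 : L) ⊗ₜ[K] z) by simp,
        map_mul, hqL, hqK, IsScalarTower.algebraMap_apply B L L' b, IsScalarTower.algebraMap_apply B L L' s,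
        mul_mul_mul_comm, ← map_mul (algebraMap L L'), div_mul_cancel₀ _ hs0, ← map_mul]
      congr 2
      show t • z = z * algebraMap A K' t
      rw [Algebra.smul_def, mul_comm]
  haveI : IsFractionRing R F := IsFractionRing.of_field R F fun w => by
    obtain ⟨a, ha, b, hb, hb0, h⟩ := hfrac w
    exact ⟨⟨a, ha⟩, ⟨b, hb⟩, by show w = a / b; rw [h, mul_div_cancel_right₀ _ hb0]⟩
  -- `R` is integral over `B`
  letI : Algebra B R := (jB.codRestrict R hBR).toAlgebra
  haveI : IsScalarTower B R F := .of_algebraMap_eq fun b => rfl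
  haveI : Algebra.IsIntegral B R := ⟨fun r => by
    obtain ⟨_, t, rfl⟩ := r
    refine (isIntegral_algebraMap_iff (B := F) (R := B) (A := R) Subtype.val_injective).mp ?_
    show IsIntegral B (ψ t)
    induction t with
    | zero => rw [map_zero]; exact isIntegral_zero
    | add x y hx hy => rw [map_add]; exact hx.add hy
    | tmul a b =>
      have h1 : ψ (a ⊗ₜ b) = jK (a : K') * jB b := by simp [ψ, gA, gB]
      rw [h1]
      refine IsIntegral.mul ?_ (isIntegral_algebraMap (A := F) (x := b))
      obtain ⟨P, hP, hPa⟩ := a.2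
      refine ⟨P.map (algebraMap A B), hP.map _, ?_⟩
      rw [Polynomial.eval₂_map, show (algebraMap B F).comp (algebraMap A B) = jK.comp (algebraMap A K') from RingHom.ext hjA,
        ← Polynomial.hom_eval₂, hPa, map_zero]⟩
  haveI : Ring.KrullDimLE 1 R := by
    refine Ring.krullDimLE_one_iff_of_noZeroDivisors.mpr fun P hP hPp => ?_
    haveI := hPp
    have h1 : P.comap (algebraMap B R) ≠ ⊥ := fun h => hP (Ideal.eq_bot_of_comap_eq_bot h)
    exact Ideal.isMaximal_of_isIntegral_of_isMaximal_comap (R := B) P
      ((Ideal.comap_isPrime _ P).isMaximal h1)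
  have hle : R ≤ (integralClosure B F).toSubring := by
    rintro _ ⟨t, rfl⟩
    exact (Algebra.IsIntegral.isIntegral (R := B) (⟨_, t, rfl⟩ : R)).map (IsScalarTower.toAlgHom B R F)
  exact KrullAki.isNoetherianRing_of_le R hle

end Groth.Agent.HensEt88
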