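import Groth.Agent.HensEt88.DvrModel

/-!
# Adjoining a root of exponent prime to the residue characteristic
-/

set_option autoImplicit false
set_option linter.style.haveILetI false

namespace Groth.Agent.HensEt88

universe u

open IsLocalRing Polynomial

/-- Adjoining a root of a generator of the maximal ideal to a Noetherian local ring. -/
theorem adjoinRoot_local {R : Type u} [CommRing R] [IsLocalRing R] [IsNoetherianRing R] {t : R}
    (ht : maximalIdeal R = Ideal.span {t}) {n : ℕ} (hn : 0 < n) :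
    IsNoetherianRing (AdjoinRoot (X ^ n - C t : R[X])) ∧
    (∀ b : AdjoinRoot (X ^ n - C t : R[X]), ∃ a : R, ∃ b', b = AdjoinRoot.of _ a + AdjoinRoot.root _ * b') ∧
    ∃ _ : IsLocalRing (AdjoinRoot (X ^ n - C t : R[X])),
      maximalIdeal (AdjoinRoot (X ^ n - C t : R[X])) = Ideal.span {AdjoinRoot.root _} := by
  classical
  set f := (X ^ n - C t : R[X]) with hf
  have hmonic : f.Monic := monic_X_pow_sub_C t hn.ne'
  haveI : Module.Finite R (AdjoinRoot f) := hmonic.finite_adjoinRoot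
  haveI : IsNoetherianRing (AdjoinRoot f) := IsNoetherianRing.of_finite R (AdjoinRoot f)
  set r := AdjoinRoot.root f
  have hrn : r ^ n = AdjoinRoot.of f t := by
    have := AdjoinRoot.eval₂_root f
    simp only [hf, eval₂_sub, eval₂_pow, eval₂_X, eval₂_C, sub_eq_zero] at this
    exact this
  have hsplit : ∀ b : AdjoinRoot f, ∃ a : R, ∃ b', b = AdjoinRoot.of f a + r * b' := by
    intro b
    obtain ⟨P, rfl⟩ := AdjoinRoot.mk_surjective b
    refine ⟨P.coeff 0, AdjoinRoot.mk f P.divX, ?_⟩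
    conv_lhs => rw [← X_mul_divX_add P, map_add, map_mul, AdjoinRoot.mk_X, AdjoinRoot.mk_C]
    rw [add_comm]
  haveI : Nontrivial (AdjoinRoot f) := by
    refine Ideal.Quotient.nontrivial_iff.mpr fun h => ?_
    have h1 := hmonic.eq_one_of_isUnit (Ideal.span_singleton_eq_top.mp h)
    have h2 : f.natDegree = n := natDegree_X_pow_sub_C
    rw [h1, natDegree_one] at h2
    omega
  haveI : Algebra.IsIntegral R (AdjoinRoot f) := Algebra.IsIntegral.of_finite R _
  have hmax : ∀ M : Ideal (AdjoinRoot f), M.IsMaximal → M = Ideal.span {r} := by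
    intro M hM
    have hcm : M.comap (AdjoinRoot.of f) = maximalIdeal R :=
      IsLocalRing.eq_maximalIdeal (Ideal.isMaximal_comap_of_isIntegral_of_isMaximal (R := R) M)
    have hrM : r ∈ M := hM.isPrime.mem_of_pow_mem n (by
      rw [hrn, ← Ideal.mem_comap, hcm, ht]; exact Ideal.mem_span_singleton_self t)
    refine le_antisymm (fun b hb => ?_) ((Ideal.span_singleton_le_iff_mem _).2 hrM)
    obtain ⟨a, b', rfl⟩ := hsplit b
    have ha : a ∈ maximalIdeal R :=
      hcm ▸ Ideal.mem_comap.2 ((Ideal.add_mem_iff_left M (Ideal.mul_mem_right _ _ hrM)).1 hb)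
    rw [ht, Ideal.mem_span_singleton] at ha
    obtain ⟨c, rfl⟩ := ha
    refine add_mem ?_ (Ideal.mul_mem_right _ _ (Ideal.mem_span_singleton_self r))
    rw [map_mul, ← hrn, Ideal.mem_span_singleton]
    exact Dvd.dvd.mul_right (dvd_pow_self r hn.ne') _
  obtain ⟨M, hM⟩ := Ideal.exists_maximal (AdjoinRoot f)
  haveI : IsLocalRing (AdjoinRoot f) :=
    IsLocalRing.of_unique_max_ideal ⟨M, hM, fun M' hM' => (hmax M' hM').trans (hmax M hM).symm⟩
  exact ⟨inferInstance, hsplit, inferInstance, hmax _ (maximalIdeal.isMaximal _)⟩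

/-- Adjoining a root of a unit, of exponent a unit, is unramified. -/
theorem formallyUnramified_adjoinRoot_unit {B : Type u} [CommRing B] {g : ℕ} (hg : IsUnit (g : B)) (u : Bˣ) (h0 : 0 < g) :
    Algebra.FormallyUnramified B (AdjoinRoot (X ^ g - C (u : B) : B[X])) := by
  set f := (X ^ g - C (u : B) : B[X]) with hf
  set r := AdjoinRoot.root f
  have hrn : r ^ g = AdjoinRoot.of f u := by
    have := AdjoinRoot.eval₂_root f
    simp only [hf, eval₂_sub, eval₂_pow, eval₂_X, eval₂_C, sub_eq_zero] at this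
    exact this
  refine ⟨⟨fun a b => ?_⟩⟩
  suffices h : KaehlerDifferential.D B (AdjoinRoot f) = 0 by
    have h1 : (⊤ : Submodule (AdjoinRoot f) Ω[AdjoinRoot f⁄B]) ≤ ⊥ := by
      rw [← KaehlerDifferential.span_range_derivation, Submodule.span_le]
      rintro _ ⟨c, rfl⟩
      rw [h]; rfl
    exact ((Submodule.mem_bot _).mp (h1 (Submodule.mem_top (x := a)))).trans
      ((Submodule.mem_bot _).mp (h1 (Submodule.mem_top (x := b)))).symm
  refine Derivation.ext_of_adjoin_eq_top _ (AdjoinRoot.adjoinRoot_eq_top (f := f)) ?_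
  rintro _ rfl
  have h1 := congrArg (KaehlerDifferential.D B (AdjoinRoot f)) hrn
  rw [Derivation.leibniz_pow, show AdjoinRoot.of f (u : B) = algebraMap B (AdjoinRoot f) u from rfl,
    Derivation.map_algebraMap] at h1
  have hr : IsUnit (r ^ (g - 1)) := by
    refine IsUnit.pow _ ((isUnit_pow_iff h0.ne').mp (hrn ▸ u.isUnit.map (AdjoinRoot.of f)))
  rw [← Nat.cast_smul_eq_nsmul (AdjoinRoot f), smul_smul] at h1
  have hgu : IsUnit ((g : AdjoinRoot f) * r ^ (g - 1)) := by
    have := hg.map (AdjoinRoot.of f)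
    rw [map_natCast] at this
    exact this.mul hr
  exact (IsUnit.smul_eq_zero hgu).mp h1

variable {B L F : Type u} [CommRing B] [IsDomain B] [IsDiscreteValuationRing B] [Field L] [Algebra B L]
  [IsFractionRing B L] [Field F] [Algebra L F] [Algebra B F] [IsScalarTower B L F]

/-- Ramification in the extension by an `e`-th root of `u * t ^ a`. -/
theorem rootExt {t : B} (ht : Irreducible t) (u : Bˣ) (a e : ℕ) (he : 0 < e) (hek : (e : ResidueField B) ≠ 0)
    (ζ : F) (hζ : ζ ^ e = algebraMap B F (u * t ^ a)) (hgen : Algebra.adjoin L {ζ} = ⊤)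
    (W : ValuationSubring F) (hW : EtRam.Dominates B (algebraMap B F) W) :
    letI : Algebra B W := ((algebraMap B F).codRestrict W hW.1).toAlgebra
    ∀ [IsLocalHom (algebraMap B W)],
      Algebra.IsSeparable (ResidueField B) (ResidueField W) ∧
      ∃ e' : ℕ, e' * Nat.gcd a e = e ∧
        (maximalIdeal B).map (algebraMap B W) = maximalIdeal W ^ e' := by
  letI : Algebra B W := ((algebraMap B F).codRestrict W hW.1).toAlgebra
  intro _
  classical
  -- numerical data
  obtain ⟨g, hgdef⟩ : ∃ g, g = Nat.gcd a e := ⟨_, rfl⟩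
  have hg0 : 0 < g := hgdef ▸ Nat.gcd_pos_of_pos_right a he
  obtain ⟨a', ha'⟩ : g ∣ a := hgdef ▸ Nat.gcd_dvd_left a e
  obtain ⟨e', he'⟩ : g ∣ e := hgdef ▸ Nat.gcd_dvd_right a e
  have he'0 : 0 < e' := by
    rcases Nat.eq_zero_or_pos e' with h | h
    · subst h; simp only [mul_zero] at he'; omega
    · exact h
  have hcop : Nat.Coprime a' e' := by
    have h : g * Nat.gcd a' e' = g * 1 := by rw [← Nat.gcd_mul_left, ← ha', ← he', mul_one, hgdef]
    exact Nat.eq_of_mul_eq_mul_left hg0 h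
  obtain ⟨i, j, hij⟩ : ∃ i j : ℤ, i * a' + j * e' = 1 := by
    obtain ⟨i, j, hij⟩ := Nat.isCoprime_iff_coprime.mpr hcop
    exact ⟨i, j, hij⟩
  have hgB : IsUnit (g : B) := by
    by_contra h
    refine hek ?_
    rw [← map_natCast (residue B), residue_eq_zero_iff, he', Nat.cast_mul]
    exact Ideal.mul_mem_right _ _ h
  let tF := algebraMap B F t
  have htF : tF ≠ 0 := by
    show algebraMap B F t ≠ 0
    rw [IsScalarTower.algebraMap_apply B L F]
    exact (_root_.map_ne_zero _).mpr ((map_ne_zero_iff _ (IsFractionRing.injective B L)).mpr ht.ne_zero)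
  have huF : algebraMap B F u ≠ 0 := (u.isUnit.map (algebraMap B F)).ne_zero
  have hζ0 : ζ ≠ 0 := fun h => by
    rw [h, zero_pow he.ne', map_mul, map_pow] at hζ
    exact mul_ne_zero huF (pow_ne_zero _ htF) hζ.symm
  let x : F := ζ ^ e' / tF ^ a'
  have hxg : x ^ g = algebraMap B F u := by
    rw [div_pow, ← pow_mul, ← pow_mul, mul_comm e' g, mul_comm a' g, ← he', ← ha', hζ, map_mul, map_pow,
      mul_div_assoc, div_self (pow_ne_zero _ htF), mul_one]
  have hx0 : x ≠ 0 := div_ne_zero (pow_ne_zero _ hζ0) (pow_ne_zero _ htF)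
  let z : F := ζ ^ i * tF ^ j
  have hze : z ^ e' = x ^ i * tF := by
    have h1 : x ^ i * tF = (ζ ^ (e' : ℤ)) ^ i * (tF ^ (-(a' : ℤ) * i) * tF ^ (1 : ℤ)) := by
      rw [zpow_one, zpow_natCast, zpow_mul, zpow_neg, zpow_natCast, ← mul_assoc, ← mul_zpow, ← div_eq_mul_inv]
    rw [h1, ← zpow_add₀ htF, ← zpow_natCast z e', mul_zpow, ← zpow_mul, ← zpow_mul, ← zpow_mul, mul_comm (e' : ℤ) i,
      show j * (e' : ℤ) = -(a' : ℤ) * i + 1 by linear_combination hij]
  have hζz : ζ = z ^ a' * x ^ j := by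
    have h1 : x ^ j = ζ ^ ((e' : ℤ) * j) * tF ^ (-(a' : ℤ) * j) := by
      rw [zpow_mul, zpow_mul, zpow_neg, zpow_natCast, zpow_natCast, ← mul_zpow, ← div_eq_mul_inv]
    rw [h1, ← zpow_natCast z a', mul_zpow, ← zpow_mul, ← zpow_mul, mul_mul_mul_comm, ← zpow_add₀ hζ0,
      ← zpow_add₀ htF, show i * (a' : ℤ) + e' * j = 1 by linear_combination hij,
      show j * (a' : ℤ) + -(a' : ℤ) * j = 0 by ring, zpow_one, zpow_zero, mul_one]
  -- the unramified layer
  let f₁ := (X ^ g - C (u : B) : B[X])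
  let R₁ := AdjoinRoot f₁
  haveI : Algebra.FormallyUnramified B R₁ := formallyUnramified_adjoinRoot_unit hgB u hg0
  haveI : Module.Finite B R₁ := (monic_X_pow_sub_C (u : B) hg0.ne').finite_adjoinRoot
  haveI : IsNoetherianRing R₁ := IsNoetherianRing.of_finite B R₁
  have hxeval : Polynomial.eval₂ (algebraMap B F) x f₁ = 0 := by
    simp [f₁, hxg]
  have hxW : x ∈ W := by
    have h1 : W.valuation x ^ g ≤ 1 := by
      rw [← map_pow, hxg, W.valuation_le_one_iff]; exact hW.1 _
    exact (W.valuation_le_one_iff x).mp (not_lt.mp fun h => (one_lt_pow₀ h hg0.ne').not_ge h1)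
  let φ₁ : R₁ →+* W := AdjoinRoot.lift ((algebraMap B F).codRestrict W hW.1) ⟨x, hxW⟩ (by
    apply Subtype.ext
    rw [← ValuationSubring.subtype_apply, Polynomial.hom_eval₂]
    exact hxeval)
  let q : Ideal R₁ := (maximalIdeal W).comap φ₁
  let S₁ := Localization.AtPrime q
  have hu₁ : ∀ s : q.primeCompl, IsUnit (φ₁ s) := fun s => by_contra fun hn => s.2 hn
  let φS : S₁ →+* W := IsLocalization.lift hu₁
  have hφS : ∀ r, φS (algebraMap R₁ S₁ r) = φ₁ r := IsLocalization.lift_eq hu₁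
  have hφB : ∀ b : B, φS (algebraMap B S₁ b) = algebraMap B W b := fun b => by
    rw [IsScalarTower.algebraMap_apply B R₁ S₁, hφS]
    exact AdjoinRoot.lift_of _
  haveI : IsLocalHom φS := ⟨fun y hy => by
    obtain ⟨c, s, rfl⟩ := IsLocalization.exists_mk'_eq q.primeCompl y
    rw [IsLocalization.AtPrime.isUnit_mk'_iff]
    intro hc
    have h1 : φ₁ c = φ₁ s * φS (IsLocalization.mk' S₁ c s) := by
      rw [← hφS c, ← hφS (s : R₁), ← map_mul, IsLocalization.mk'_spec']
    exact (show φ₁ c ∈ maximalIdeal W from hc) (h1 ▸ (hu₁ s).mul hy)⟩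
  haveI : IsLocalHom (algebraMap B S₁) := ⟨fun b hb => by
    have h1 := hb.map φS
    rw [hφB] at h1
    exact h1.of_map⟩
  haveI : IsNoetherianRing S₁ := IsLocalization.isNoetherianRing q.primeCompl S₁ inferInstance
  haveI : Algebra.FormallyUnramified B S₁ := Algebra.FormallyUnramified.comp B R₁ S₁
  haveI : Algebra.EssFiniteType R₁ S₁ := .of_isLocalization S₁ q.primeCompl
  haveI : Algebra.EssFiniteType B S₁ := Algebra.EssFiniteType.comp B R₁ S₁
  have hmapS : (maximalIdeal B).map (algebraMap B S₁) = maximalIdeal S₁ :=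
    Algebra.FormallyUnramified.map_maximalIdeal (R := B) (S := S₁)
  let r₁ : S₁ := algebraMap R₁ S₁ (AdjoinRoot.root f₁)
  have hr₁φ : φS r₁ = ⟨x, hxW⟩ := (hφS _).trans (AdjoinRoot.lift_root _)
  have hr₁u : IsUnit r₁ := by
    have h1 : r₁ ^ g = algebraMap B S₁ u := by
      have h2 := AdjoinRoot.eval₂_root f₁
      simp only [f₁, eval₂_sub, eval₂_pow, eval₂_X, eval₂_C, sub_eq_zero] at h2
      rw [← map_pow, h2]
      exact (IsScalarTower.algebraMap_apply B R₁ S₁ _).symm
    exact (isUnit_pow_iff hg0.ne').mp (h1 ▸ u.isUnit.map _)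
  let U : S₁ˣ := hr₁u.unit
  let ΦF : S₁ →+* F := W.subtype.comp φS
  have hU : ∀ k : ℤ, ΦF ↑(U ^ k) = x ^ k := fun k => by
    rw [show ΦF ↑(U ^ k) = ((Units.map ΦF.toMonoidHom (U ^ k) : Fˣ) : F) from rfl, map_zpow, Units.val_zpow_eq_zpow_val]
    exact congrArg (fun v : F => v ^ k) (congrArg Subtype.val hr₁φ)
  let ρ : S₁ := ↑(U ^ i) * algebraMap B S₁ t
  have hρ : maximalIdeal S₁ = Ideal.span {ρ} := by
    rw [← hmapS, ht.maximalIdeal_eq, Ideal.map_span, Set.image_singleton]
    exact (Ideal.span_singleton_mul_left_unit (U ^ i).isUnit _).symm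
  have hρF : ΦF ρ = x ^ i * tF := by
    rw [map_mul, hU]
    exact congrArg (fun v : F => x ^ i * v) (congrArg Subtype.val (hφB t))
  -- the Eisenstein layer
  obtain ⟨hnoe, hsplit, hloc, hmax⟩ := adjoinRoot_local hρ he'0
  let f₂ := (X ^ e' - C ρ : S₁[X])
  have hzW : z ∈ W := by
    have h1 : W.valuation z ^ e' ≤ 1 := by
      rw [← map_pow, hze, ← hρF, W.valuation_le_one_iff]; exact (φS ρ).2
    exact (W.valuation_le_one_iff z).mp (not_lt.mp fun h => (one_lt_pow₀ h he'0.ne').not_ge h1)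
  let Ψ : AdjoinRoot f₂ →+* W := AdjoinRoot.lift φS ⟨z, hzW⟩ (by
    apply Subtype.ext
    rw [← ValuationSubring.subtype_apply, Polynomial.hom_eval₂]
    show Polynomial.eval₂ ΦF z f₂ = 0
    simp [f₂, hze, hρF])
  have hΨroot : Ψ (AdjoinRoot.root f₂) = ⟨z, hzW⟩ := AdjoinRoot.lift_root _
  have hΨof : ∀ s, Ψ (AdjoinRoot.of f₂ s) = φS s := fun s => AdjoinRoot.lift_of _
  have hzm : (⟨z, hzW⟩ : W) ∈ maximalIdeal W := by
    refine (inferInstance : (maximalIdeal W).IsPrime).mem_of_pow_mem e' ?_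
    rw [show (⟨z, hzW⟩ : W) ^ e' = φS ρ from Subtype.ext (by push_cast; rw [hze, ← hρF]; rfl)]
    exact map_nonunit φS ρ (hρ ▸ Ideal.mem_span_singleton_self ρ)
  haveI : IsLocalHom Ψ := ⟨fun s hs => by
    by_contra hn
    have h1 : s ∈ maximalIdeal (AdjoinRoot f₂) := hn
    rw [hmax, Ideal.mem_span_singleton'] at h1
    obtain ⟨c, rfl⟩ := h1
    rw [map_mul, hΨroot] at hs
    exact hzm (isUnit_of_mul_isUnit_right hs)⟩
  let ψ : AdjoinRoot f₂ →+* F := W.subtype.comp Ψ
  have hψ0 : ψ (AdjoinRoot.root f₂) ≠ 0 := by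
    show ((Ψ _ : W) : F) ≠ 0
    rw [hΨroot]
    exact mul_ne_zero (zpow_ne_zero _ hζ0) (zpow_ne_zero _ htF)
  have hfrac := exists_frac_of_adjoin (B := B) (L := L) ψ
    (fun b => ⟨AdjoinRoot.of f₂ (algebraMap B S₁ b), by
      show ((Ψ _ : W) : F) = _
      rw [hΨof, hφB]; exact IsScalarTower.algebraMap_apply B L F b⟩)
    {ζ} (by
      rintro _ rfl
      refine ⟨AdjoinRoot.root f₂ ^ a' * AdjoinRoot.of f₂ ↑(U ^ j), ?_⟩
      show ((Ψ _ : W) : F) = _
      rw [map_mul, map_pow, hΨroot, hΨof]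
      push_cast
      conv_rhs => rw [hζz, ← hU j]
      rfl) hgen
  have hlocψ : IsLocalHom (ψ.codRestrict W fun s => (Ψ s).2) := (inferInstance : IsLocalHom Ψ)
  have hbij : Function.Bijective Ψ := @bijective_codRestrict_of_model (AdjoinRoot f₂) _ hloc hnoe F _ _ hmax ψ hψ0 W
    (fun s => (Ψ s).2) hlocψ hfrac
  have hmaxW : maximalIdeal W = Ideal.span {(⟨z, hzW⟩ : W)} := by
    rw [← hΨroot, ← Set.image_singleton (f := Ψ), ← Ideal.map_span, ← hmax]
    exact (IsLocalRing.map_maximalIdeal_of_surjective Ψ hbij.2).symm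
  refine ⟨?_, e', by rw [← hgdef, mul_comm, ← he'], ?_⟩
  · let kf : ResidueField S₁ →ₐ[ResidueField B] ResidueField W :=
      AlgHom.mk (ResidueField.map φS) fun y => by
        obtain ⟨b, rfl⟩ := residue_surjective y
        exact congrArg (residue W) (hφB b)
    exact AlgEquiv.Algebra.isSeparable (AlgEquiv.ofBijective kf ⟨kf.toRingHom.injective, fun y => by
      obtain ⟨w, rfl⟩ := residue_surjective y
      obtain ⟨s, rfl⟩ := hbij.2 w
      obtain ⟨c, b', rfl⟩ := hsplit s
      refine ⟨residue S₁ c, ?_⟩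
      show residue W (φS c) = residue W (Ψ (AdjoinRoot.of f₂ c + AdjoinRoot.root f₂ * b'))
      rw [map_add, map_mul, hΨroot, hΨof, map_add, map_mul, (residue_eq_zero_iff _).mpr hzm, zero_mul, add_zero]⟩)
  · refine (congrArg (Ideal.map (algebraMap B W)) ht.maximalIdeal_eq).trans ?_
    rw [Ideal.map_span, Set.image_singleton, hmaxW, Ideal.span_singleton_pow]
    have h1 : (⟨z, hzW⟩ : W) ^ e' = φS ↑(U ^ i) * algebraMap B W t := by
      rw [← hφB, ← map_mul]
      exact Subtype.ext (by push_cast; rw [hze, ← hρF]; rfl)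
    rw [h1]
    exact (Ideal.span_singleton_mul_left_unit ((U ^ i).isUnit.map φS) _).symm

end Groth.Agent.HensEt88
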