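import Groth.Agent.HensEt88.DvrModel
import Groth.Agent.HensEt88.KrullAkizukiExt
import Mathlib.RingTheory.Nilpotent.GeometricallyReduced

/-!
# Weakly unramified extensions with geometrically reduced residue extension: every finite extension is a solution
-/

set_option autoImplicit false
set_option linter.style.haveILetI false

namespace Groth.Agent.HensEt88

universe u

open IsLocalRing TensorProduct

/-- A residue field at a point whose kernel is killed away from the point is geometrically reduced. -/
theorem isGeometricallyReduced_of_killed (k T Q : Type u) [Field k] [CommRing T] [Field Q] [Algebra k T] [Algebra k Q]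
    [IsReduced (AlgebraicClosure k ⊗[k] T)] (θ : T →ₐ[k] Q) (hθ : Function.Surjective θ)
    (hkill : ∀ t, θ t = 0 → ∃ s, θ s ≠ 0 ∧ s * t = 0) : Algebra.IsGeometricallyReduced k Q := by
  classical
  rw [Algebra.isGeometricallyReduced_field_iff]
  let Ω := AlgebraicClosure k
  let Φ : Ω ⊗[k] T →ₐ[k] Ω ⊗[k] Q := Algebra.TensorProduct.map (AlgHom.id k Ω) θ
  have hker : RingHom.ker Φ = (RingHom.ker θ).map (Algebra.TensorProduct.includeRight : T →ₐ[k] Ω ⊗[k] T) :=
    Algebra.TensorProduct.lTensor_ker θ hθ
  have hkill' : ∀ z, Φ z = 0 → ∃ s, θ s ≠ 0 ∧ ((1 : Ω) ⊗ₜ[k] s) * z = 0 := by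
    intro z hz
    have hz' : z ∈ RingHom.ker Φ := hz
    rw [hker] at hz'
    induction hz' using Submodule.span_induction with
    | mem x hx =>
      obtain ⟨t, ht, rfl⟩ := hx
      obtain ⟨s, hs, hst⟩ := hkill t ht
      refine ⟨s, hs, ?_⟩
      rw [Algebra.TensorProduct.includeRight_apply, Algebra.TensorProduct.tmul_mul_tmul, one_mul, hst, tmul_zero]
    | zero => exact ⟨1, by simp, by simp⟩
    | add x y hxs hys hx hy =>
      have hxΦ : Φ x = 0 := by rw [← RingHom.mem_ker, hker]; exact hxs
      have hyΦ : Φ y = 0 := by rw [← RingHom.mem_ker, hker]; exact hys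
      obtain ⟨s, hs, h1⟩ := hx hxΦ
      obtain ⟨s', hs', h2⟩ := hy hyΦ
      refine ⟨s * s', by rw [map_mul]; exact mul_ne_zero hs hs', ?_⟩
      rw [show (1 : Ω) ⊗ₜ[k] (s * s') = ((1 : Ω) ⊗ₜ[k] s) * ((1 : Ω) ⊗ₜ[k] s') by simp, mul_add]
      rw [show ((1 : Ω) ⊗ₜ[k] s) * ((1 : Ω) ⊗ₜ[k] s') * x = ((1 : Ω) ⊗ₜ[k] s') * (((1 : Ω) ⊗ₜ[k] s) * x) by ring,
        h1, mul_zero, zero_add, mul_assoc, h2, mul_zero]
    | smul r x hxs hx =>
      obtain ⟨s, hs, h1⟩ := hx (by rw [← RingHom.mem_ker, hker]; exact hxs)
      exact ⟨s, hs, by rw [smul_eq_mul, mul_left_comm, h1, mul_zero]⟩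
  refine isReduced_iff_pow_one_lt 2 one_lt_two |>.mpr fun z hz => ?_
  obtain ⟨w, rfl⟩ := LinearMap.lTensor_surjective Ω (g := θ.toLinearMap) hθ z
  change Φ w = 0
  change (Φ w) ^ 2 = 0 at hz
  rw [← map_pow] at hz
  obtain ⟨s, hs, h1⟩ := hkill' _ hz
  have h2 : (((1 : Ω) ⊗ₜ[k] s) * w) ^ 2 = 0 := by
    rw [mul_pow, pow_two ((1 : Ω) ⊗ₜ[k] s), mul_assoc, h1, mul_zero]
  have h3 := congrArg Φ (IsReduced.eq_zero _ ⟨2, h2⟩)
  rw [map_mul, map_zero, show Φ ((1 : Ω) ⊗ₜ[k] s) = (1 : Ω) ⊗ₜ[k] θ s by simp [Φ]] at h3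
  have h4 : IsUnit ((1 : Ω) ⊗ₜ[k] θ s) :=
    (isUnit_iff_ne_zero.mpr hs).map (Algebra.TensorProduct.includeRight : Q →ₐ[k] Ω ⊗[k] Q)
  exact h4.mul_right_eq_zero.mp h3

variable {A B K L K₁ M : Type u} [CommRing A] [IsDomain A] [IsDiscreteValuationRing A]
  [CommRing B] [IsDomain B] [IsDiscreteValuationRing B] [Algebra A B] [IsLocalHom (algebraMap A B)]
  [Field K] [Algebra A K] [IsFractionRing A K] [Field L] [Algebra B L] [IsFractionRing B L]
  [Field K₁] [Algebra K K₁] [FiniteDimensional K K₁]
  [Field M] [Algebra L M] [Algebra K₁ M] [Algebra K M] [IsScalarTower K K₁ M]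

/-- The residue field of a valuation subring of a finite extension is algebraic. -/
theorem isAlgebraic_residueField (U : ValuationSubring K₁)
    (hU : EtRam.Dominates A ((algebraMap K K₁).comp (algebraMap A K)) U) :
    letI : Algebra A U := (RingHom.codRestrict ((algebraMap K K₁).comp (algebraMap A K)) U hU.1).toAlgebra
    ∀ [IsLocalHom (algebraMap A U)], Algebra.IsAlgebraic (ResidueField A) (ResidueField U) := by
  classical
  letI : Algebra A U := (RingHom.codRestrict ((algebraMap K K₁).comp (algebraMap A K)) U hU.1).toAlgebra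
  intro _
  letI : Algebra A K₁ := ((algebraMap K K₁).comp (algebraMap A K)).toAlgebra
  haveI : IsScalarTower A K K₁ := .of_algebraMap_eq' rfl
  haveI : Algebra.IsAlgebraic A K := IsLocalization.isAlgebraic K (nonZeroDivisors A)
  haveI : Algebra.IsAlgebraic A K₁ := Algebra.IsAlgebraic.trans A K K₁
  obtain ⟨π, hπ⟩ := IsDiscreteValuationRing.exists_irreducible A
  have hπ0 : algebraMap A U π ≠ 0 := fun h => hπ.ne_zero
    (IsFractionRing.injective A K ((algebraMap K K₁).injective ((congrArg Subtype.val h).trans (by simp))))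
  refine ⟨fun y => ?_⟩
  obtain ⟨x, rfl⟩ := residue_surjective y
  obtain ⟨P, hP0, hPx⟩ : ∃ P : Polynomial A, P ≠ 0 ∧ Polynomial.aeval x P = 0 := by
    obtain ⟨P, hP0, hP⟩ := Algebra.IsAlgebraic.isAlgebraic (R := A) (x : K₁)
    refine ⟨P, hP0, Subtype.ext ?_⟩
    rw [show ((Polynomial.aeval x P : U) : K₁) = Polynomial.aeval (x : K₁) P from
      (Polynomial.aeval_algHom_apply (AlgHom.mk U.subtype fun _ => rfl : U →ₐ[A] K₁) x P).symm]
    exact hP
  induction hn : P.natDegree + (IsDiscreteValuationRing.addVal A P.leadingCoeff).toNat using Nat.strong_induction_on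
    generalizing P with
  | _ n ih =>
    by_cases hall : ∀ i, P.coeff i ∈ maximalIdeal A
    · -- divide by the uniformizer
      have hd : Polynomial.C π ∣ P := Polynomial.C_dvd_iff_dvd_coeff π P |>.mpr fun i => by
        rw [← Ideal.mem_span_singleton, ← hπ.maximalIdeal_eq]; exact hall i
      obtain ⟨Q, rfl⟩ := hd
      have hQ0 : Q ≠ 0 := fun h => hP0 (by rw [h, mul_zero])
      refine ih _ ?_ Q hQ0 ?_ rfl
      · rw [← hn, Polynomial.natDegree_C_mul hπ.ne_zero, Polynomial.leadingCoeff_mul, Polynomial.leadingCoeff_C,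
          IsDiscreteValuationRing.addVal_mul, IsDiscreteValuationRing.addVal_uniformizer hπ]
        obtain ⟨m, hm⟩ := ENat.ne_top_iff_exists.1 (show IsDiscreteValuationRing.addVal A Q.leadingCoeff ≠ ⊤ from
          fun h => Polynomial.leadingCoeff_ne_zero.mpr hQ0 (IsDiscreteValuationRing.addVal_eq_top_iff.1 h))
        rw [← hm]
        have : ((1 : ℕ∞) + (m : ℕ∞)).toNat = 1 + m := by rw [← Nat.cast_one, ← Nat.cast_add, ENat.toNat_coe]
        rw [this, ENat.toNat_coe]
        omega
      · rw [map_mul, Polynomial.aeval_C] at hPx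
        exact (mul_eq_zero.mp hPx).resolve_left hπ0
    · push Not at hall
      obtain ⟨i, hi⟩ := hall
      refine ⟨P.map (residue A), fun h => hi ?_, ?_⟩
      · rw [← residue_eq_zero_iff, ← Polynomial.coeff_map, h, Polynomial.coeff_zero]
      · rw [show Polynomial.aeval (residue U x) (P.map (residue A)) = residue U (Polynomial.aeval x P) by
          rw [Polynomial.aeval_def, Polynomial.eval₂_map, Polynomial.aeval_def, Polynomial.hom_eval₂]
          rfl, hPx, map_zero]

set_option maxHeartbeats 1600000 in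
/-- For a weakly unramified extension with geometrically reduced residue extension every local extension is one. -/
theorem weaklyUnramified_and_geomReduced_local
    [FiniteDimensional L M] [Algebra B M] [IsScalarTower B L M]
    [Algebra.IsGeometricallyReduced (ResidueField A) (ResidueField B)]
    (hw : EtRam.IsWeaklyUnramified A B)
    (hcomm : ∀ a : A, algebraMap B M (algebraMap A B a) = algebraMap K M (algebraMap A K a))
    (hgen : Algebra.adjoin L (Set.range (algebraMap K₁ M)) = ⊤)
    (W : ValuationSubring M) (hW : EtRam.Dominates B (algebraMap B M) W) :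
    @EtRam.IsWeaklyUnramified (W.comap (algebraMap K₁ M)) W _ _ _ _
      (EtRam.inclOfComap W (algebraMap K₁ M)).toAlgebra ∧
    @Algebra.IsGeometricallyReduced (ResidueField (W.comap (algebraMap K₁ M))) (ResidueField W) _ _
      (ResidueField.map (EtRam.inclOfComap W (algebraMap K₁ M))).toAlgebra := by
  classical
  let U := W.comap (algebraMap K₁ M)
  have hAW : EtRam.Dominates A ((algebraMap K M).comp (algebraMap A K)) W :=
    ⟨fun a => by rw [RingHom.comp_apply, ← hcomm]; exact hW.1 _,
     fun a ha => by rw [RingHom.comp_apply, ← hcomm]; exact hW.2 _ (map_nonunit (algebraMap A B) a ha)⟩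
  have hU : EtRam.Dominates A ((algebraMap K K₁).comp (algebraMap A K)) U :=
    dominates_comap (algebraMap K₁ M) (by rw [← RingHom.comp_assoc, ← IsScalarTower.algebraMap_eq K K₁ M]) hAW
  letI : Algebra A U := (RingHom.codRestrict ((algebraMap K K₁).comp (algebraMap A K)) U hU.1).toAlgebra
  haveI : IsLocalHom (algebraMap A U) := Dominates.isLocalHom hU
  haveI := isAlgebraic_residueField U hU
  letI aUW : Algebra U W := (EtRam.inclOfComap W (algebraMap K₁ M)).toAlgebra
  haveI : IsLocalHom (algebraMap U W) := EtRam.isLocalHom_inclOfComap _ _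
  letI : Algebra B W := ((algebraMap B M).codRestrict W hW.1).toAlgebra
  haveI : IsLocalHom (algebraMap B W) := Dominates.isLocalHom hW
  letI : Algebra A W := ((algebraMap B W).comp (algebraMap A B)).toAlgebra
  haveI : IsScalarTower A B W := .of_algebraMap_eq' rfl
  haveI : IsLocalHom (algebraMap A W) := RingHom.isLocalHom_comp _ _
  haveI : IsScalarTower A U W := .of_algebraMap_eq fun a => Subtype.ext (by
    show algebraMap B M (algebraMap A B a) = algebraMap K₁ M (algebraMap K K₁ (algebraMap A K a))
    rw [hcomm, ← IsScalarTower.algebraMap_apply K K₁ M])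
  let X := U ⊗[A] B
  let ψX : X →ₐ[A] W := Algebra.TensorProduct.lift (IsScalarTower.toAlgHom A U W) (IsScalarTower.toAlgHom A B W)
    fun _ _ => Commute.all _ _
  let q : Ideal X := (maximalIdeal W).comap ψX.toRingHom
  let S := Localization.AtPrime q
  have hu : ∀ s : q.primeCompl, IsUnit (ψX.toRingHom s) := fun s => by_contra fun hn => s.2 hn
  let ψS : S →+* M := W.subtype.comp (IsLocalization.lift hu)
  have hψS : ∀ x, ψS (algebraMap X S x) = (ψX x : M) := fun x => congrArg Subtype.val (IsLocalization.lift_eq hu x)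
  let R : Subalgebra B M :=
    { ψS.range with
      algebraMap_mem' := fun b => ⟨algebraMap X S ((1 : U) ⊗ₜ[A] b), by
        rw [hψS, Algebra.TensorProduct.lift_tmul, map_one, one_mul]
        rfl⟩ }
  have hR : ∀ s, ψS s ∈ R := fun s => ⟨s, rfl⟩
  let σ : S →+* R := ψS.codRestrict R hR
  have hσ : Function.Surjective σ := fun r => by
    obtain ⟨s, hs⟩ := r.2
    exact ⟨s, Subtype.ext hs⟩
  haveI : IsLocalRing R := IsLocalRing.of_surjective' (R := S) σ hσ
  -- fractions
  haveI : Algebra.IsAlgebraic L M := Algebra.IsAlgebraic.of_finite L M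
  have hfr := exists_frac_of_adjoin (B := B) (L := L) ψS (fun b => ⟨algebraMap X S ((1 : U) ⊗ₜ[A] b), by
      rw [hψS, Algebra.TensorProduct.lift_tmul, map_one, one_mul]
      exact IsScalarTower.algebraMap_apply B L M b⟩)
    (Set.range fun x : U => algebraMap K₁ M (x : K₁)) (by
      rintro _ ⟨x, rfl⟩
      exact ⟨algebraMap X S (x ⊗ₜ[A] (1 : B)), by
        rw [hψS, Algebra.TensorProduct.lift_tmul, map_one, mul_one]; rfl⟩) (by
      refine top_le_iff.mp (hgen ▸ Algebra.adjoin_le ?_)
      rintro _ ⟨x, rfl⟩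
      rcases U.mem_or_inv_mem x with hx | hx
      · exact Algebra.subset_adjoin ⟨⟨x, hx⟩, rfl⟩
      · have h1 : algebraMap K₁ M x⁻¹ ∈ Algebra.adjoin L (Set.range fun x : U => algebraMap K₁ M (x : K₁)) :=
          Algebra.subset_adjoin ⟨⟨x⁻¹, hx⟩, rfl⟩
        have h2 := Subalgebra.inv_mem_of_algebraic (A := Algebra.adjoin L (Set.range fun x : U => algebraMap K₁ M (x : K₁)))
          (x := ⟨_, h1⟩) (Algebra.IsAlgebraic.isAlgebraic _)
        simpa using h2)
  haveI : IsNoetherianRing R := isNoetherianRing_of_finite_extension B L M R fun y => by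
    obtain ⟨a, b, hb, hab⟩ := hfr y
    exact ⟨_, hR a, _, hR b, hb, hab⟩
  -- the closed fibre
  let T := ResidueField U ⊗[ResidueField A] ResidueField B
  letI : Algebra (ResidueField U) (ResidueField W) := (ResidueField.map (EtRam.inclOfComap W (algebraMap K₁ M))).toAlgebra
  haveI : IsScalarTower (ResidueField A) (ResidueField U) (ResidueField W) := .of_algebraMap_eq fun z => by
    obtain ⟨a, rfl⟩ := residue_surjective z
    exact congrArg (residue W) (IsScalarTower.algebraMap_apply A U W a)
  haveI : IsScalarTower (ResidueField A) (ResidueField B) (ResidueField W) := .of_algebraMap_eq fun z => by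
    obtain ⟨a, rfl⟩ := residue_surjective z
    exact congrArg (residue W) (IsScalarTower.algebraMap_apply A B W a)
  let θ : T →ₐ[ResidueField U] ResidueField W := Algebra.TensorProduct.lift (Algebra.ofId _ _)
    (IsScalarTower.toAlgHom (ResidueField A) (ResidueField B) (ResidueField W)) fun _ _ => Commute.all _ _
  let n : Ideal T := RingHom.ker θ.toRingHom
  haveI : n.IsPrime := RingHom.ker_isPrime _
  haveI hred : IsReduced (AlgebraicClosure (ResidueField U) ⊗[ResidueField U] T) :=
    isReduced_of_injective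
      (Algebra.TensorProduct.cancelBaseChange (ResidueField A) (ResidueField U) (AlgebraicClosure (ResidueField U))
        (AlgebraicClosure (ResidueField U)) (ResidueField B)).toAlgHom
      (Algebra.TensorProduct.cancelBaseChange (ResidueField A) (ResidueField U) (AlgebraicClosure (ResidueField U))
        (AlgebraicClosure (ResidueField U)) (ResidueField B)).injective
  haveI : IsReduced T := isReduced_of_injective
    (Algebra.TensorProduct.includeRight : T →ₐ[ResidueField U] AlgebraicClosure (ResidueField U) ⊗[ResidueField U] T)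
    (Algebra.TensorProduct.includeRight_injective (RingHom.injective _))
  haveI : Ring.KrullDimLE 0 T := by
    refine Ring.KrullDimLE.mk₀ fun P hP => ?_
    letI : Algebra (ResidueField B) T := Algebra.TensorProduct.rightAlgebra
    haveI : Algebra.IsIntegral (ResidueField B) T := by
      haveI : Algebra.IsIntegral (ResidueField A) (ResidueField U) := Algebra.IsAlgebraic.isIntegral
      exact Algebra.IsIntegral.of_surjective (R := ResidueField B)
        (Algebra.TensorProduct.commRight (ResidueField A) (ResidueField B) (ResidueField U)).toAlgHom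
        (Algebra.TensorProduct.commRight (ResidueField A) (ResidueField B) (ResidueField U)).surjective
    haveI := hP
    exact Ideal.isMaximal_of_isIntegral_of_isMaximal_comap (R := ResidueField B) P
      (by rw [show P.comap (algebraMap (ResidueField B) T) = ⊥ from
          (Ideal.eq_bot_or_top _).resolve_right (Ideal.comap_isPrime _ P).ne_top]; exact Ideal.bot_isMaximal)
  have hkill : ∀ t, θ t = 0 → ∃ s, θ s ≠ 0 ∧ s * t = 0 := fun t ht => by
    have hmin : n ∈ minimalPrimes T := Ideal.mem_minimalPrimes_of_krullDimLE_zero n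
    haveI : IsReduced (Localization.AtPrime n) := inferInstance
    haveI : Ring.KrullDimLE 0 (Localization.AtPrime n) := Ring.krullDimLE_zero_iff.mpr fun P hP => by
      haveI := hP
      haveI : (P.comap (algebraMap T (Localization.AtPrime n))).IsMaximal :=
        Ring.krullDimLE_zero_iff.mp inferInstance _ (Ideal.comap_isPrime _ P)
      have hle : P.comap (algebraMap T (Localization.AtPrime n)) ≤ n := fun x hx => by
        by_contra hx'
        exact hP.ne_top (Ideal.eq_top_of_isUnit_mem _ hx (IsLocalization.map_units _ (⟨x, hx'⟩ : n.primeCompl)))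
      have he := Ideal.IsMaximal.eq_of_le ‹(P.comap (algebraMap T (Localization.AtPrime n))).IsMaximal› (Ideal.IsPrime.ne_top inferInstance) hle
      rw [← IsLocalization.map_under n.primeCompl (Localization.AtPrime n) P, Ideal.under_def, he,
        IsLocalization.AtPrime.map_eq_maximalIdeal n (Localization.AtPrime n)]
      exact maximalIdeal.isMaximal _
    have hF : IsField (Localization.AtPrime n) := Ring.KrullDimLE.isField_of_isReduced
    have h0 : algebraMap T (Localization.AtPrime n) t = 0 := by
      have h1 := (IsLocalization.AtPrime.to_map_mem_maximal_iff (Localization.AtPrime n) n t).mpr ht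
      rwa [IsLocalRing.isField_iff_maximalIdeal_eq.mp hF, Ideal.mem_bot] at h1
    obtain ⟨⟨s, hs⟩, hst⟩ := (IsLocalization.map_eq_zero_iff n.primeCompl _ t).mp h0
    exact ⟨s, hs, hst⟩
  -- reduction of `X`
  let liftT : ResidueField U ⊗[A] ResidueField B →ₐ[A] T := Algebra.TensorProduct.lift
    ((Algebra.TensorProduct.includeLeft : ResidueField U →ₐ[ResidueField A] T).restrictScalars A)
    ((Algebra.TensorProduct.includeRight : ResidueField B →ₐ[ResidueField A] T).restrictScalars A)
    (fun _ _ => Commute.all _ _)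
  let resX : X →ₐ[A] T := liftT.comp (Algebra.TensorProduct.map (IsScalarTower.toAlgHom A U (ResidueField U))
    (IsScalarTower.toAlgHom A B (ResidueField B)))
  have hresX : ∀ (a : U) (b : B), resX (a ⊗ₜ[A] b) = residue U a ⊗ₜ[ResidueField A] residue B b := fun a b => by
    show liftT (residue U a ⊗ₜ[A] residue B b) = _
    rw [Algebra.TensorProduct.lift_tmul]
    show (residue U a ⊗ₜ[ResidueField A] (1 : ResidueField B)) * ((1 : ResidueField U) ⊗ₜ[ResidueField A] residue B b) = _
    rw [Algebra.TensorProduct.tmul_mul_tmul, mul_one, one_mul]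
  have hθres : ∀ x, θ (resX x) = residue W (ψX x) := fun x => by
    induction x using TensorProduct.induction_on with
    | zero => simp
    | add a b ha hb => simp only [map_add, ha, hb]
    | tmul a b =>
      rw [hresX, Algebra.TensorProduct.lift_tmul, Algebra.TensorProduct.lift_tmul, map_mul]
      rfl
  have hsurjX : Function.Surjective resX := fun t => by
    induction t using TensorProduct.induction_on with
    | zero => exact ⟨0, map_zero _⟩
    | add a b ha hb => obtain ⟨a, rfl⟩ := ha; obtain ⟨b, rfl⟩ := hb; exact ⟨a + b, map_add _ _ _⟩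
    | tmul a b =>
      obtain ⟨a, rfl⟩ := residue_surjective a
      obtain ⟨b, rfl⟩ := residue_surjective b
      exact ⟨a ⊗ₜ[A] b, hresX a b⟩
  let J : Ideal X := (maximalIdeal U).map (Algebra.TensorProduct.includeLeftRingHom : U →+* X)
  have hmA : ∀ a ∈ maximalIdeal A, algebraMap A X a ∈ J := fun a ha => by
    rw [IsScalarTower.algebraMap_apply A U X]
    exact Ideal.mem_map_of_mem _ (map_nonunit (algebraMap A U) a ha)
  have hJU : ∀ a ∈ maximalIdeal U, (a ⊗ₜ[A] (1 : B)) ∈ J := fun a ha => Ideal.mem_map_of_mem _ ha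
  have hJB : ∀ b ∈ maximalIdeal B, ((1 : U) ⊗ₜ[A] b) ∈ J := fun b hb => by
    rw [← show (maximalIdeal A).map (algebraMap A B) = maximalIdeal B from hw] at hb
    have h1 := Ideal.mem_map_of_mem (Algebra.TensorProduct.includeRight : B →ₐ[A] X).toRingHom hb
    rw [Ideal.map_map] at h1
    refine (Ideal.map_le_iff_le_comap.mpr fun a ha => ?_) h1
    show (Algebra.TensorProduct.includeRight : B →ₐ[A] X) (algebraMap A B a) ∈ J
    rw [AlgHom.commutes]
    exact hmA a ha
  let gU : ResidueField U →+* X ⧸ J := Ideal.Quotient.lift _ ((Ideal.Quotient.mk J).comp Algebra.TensorProduct.includeLeftRingHom)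
    fun a ha => Ideal.Quotient.eq_zero_iff_mem.mpr (hJU a ha)
  let gB : ResidueField B →+* X ⧸ J := Ideal.Quotient.lift _
    ((Ideal.Quotient.mk J).comp (Algebra.TensorProduct.includeRight : B →ₐ[A] X).toRingHom)
    fun b hb => Ideal.Quotient.eq_zero_iff_mem.mpr (hJB b hb)
  letI : Algebra (ResidueField A) (X ⧸ J) :=
    @RingHom.toAlgebra (ResidueField A) (X ⧸ J) _ (Ideal.Quotient.commRing J).toCommSemiring (gU.comp (algebraMap (ResidueField A) (ResidueField U)))
  let Φ : T →ₐ[ResidueField A] X ⧸ J := Algebra.TensorProduct.lift (AlgHom.mk gU fun _ => rfl)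
    (AlgHom.mk gB fun z => by
      obtain ⟨a, rfl⟩ := residue_surjective z
      show Ideal.Quotient.mk J ((1 : U) ⊗ₜ[A] algebraMap A B a) = Ideal.Quotient.mk J (algebraMap A U a ⊗ₜ[A] (1 : B))
      congr 1
      rw [Algebra.algebraMap_eq_smul_one, Algebra.algebraMap_eq_smul_one, TensorProduct.smul_tmul])
    fun x y => (mul_comm (gU x) (gB y) : gU x * gB y = gB y * gU x)
  have hΦ : ∀ x, Φ (resX x) = Ideal.Quotient.mk J x := fun x => by
    induction x using TensorProduct.induction_on with
    | zero => simp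
    | add a b ha hb => simp only [map_add, ha, hb]
    | tmul a b =>
      rw [hresX, Algebra.TensorProduct.lift_tmul]
      show Ideal.Quotient.mk J (a ⊗ₜ[A] (1 : B)) * Ideal.Quotient.mk J ((1 : U) ⊗ₜ[A] b) = _
      rw [← map_mul, Algebra.TensorProduct.tmul_mul_tmul, mul_one, one_mul]
  -- the maximal ideal of `R` comes from `U`
  let iU : U →+* R := σ.comp ((algebraMap X S).comp Algebra.TensorProduct.includeLeftRingHom)
  have hiU : ∀ a : U, (iU a : M) = algebraMap K₁ M (a : K₁) := fun a => by
    show ψS (algebraMap X S (a ⊗ₜ[A] (1 : B))) = _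
    rw [hψS]
    show ((ψX (a ⊗ₜ[A] (1 : B)) : W) : M) = _
    rw [Algebra.TensorProduct.lift_tmul, map_one, mul_one]
    rfl
  have hmR : maximalIdeal R ≤ (maximalIdeal U).map iU := by
    intro r hr
    obtain ⟨s, rfl⟩ := hσ r
    obtain ⟨x, y, rfl⟩ := IsLocalization.exists_mk'_eq q.primeCompl s
    have hxq : x ∈ q := by
      by_contra hx
      exact hr (((IsLocalization.AtPrime.isUnit_mk'_iff S q x y).mpr hx).map σ)
    have ht : θ (resX x) = 0 := by
      rw [hθres, residue_eq_zero_iff]; exact hxq
    obtain ⟨t, htn, ht0⟩ := hkill _ ht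
    obtain ⟨z, rfl⟩ := hsurjX t
    have hzJ : z * x ∈ J := by
      rw [← Ideal.Quotient.eq_zero_iff_mem, ← hΦ, map_mul, ht0, map_zero]
    have hzq : z ∉ q := fun h => htn (by rw [hθres, residue_eq_zero_iff]; exact h)
    have h1 : IsLocalization.mk' S x y ∈ J.map (algebraMap X S) :=
      (IsLocalization.mk'_mem_map_algebraMap_iff q.primeCompl S J x y).mpr ⟨z, hzq, hzJ⟩
    have h2 := Ideal.mem_map_of_mem σ h1
    rw [Ideal.map_map, Ideal.map_map, RingHom.comp_assoc] at h2
    exact h2
  -- principal
  have hle : R.toSubring ≤ W.toSubring := by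
    intro w hw
    obtain ⟨s, hs⟩ := hw
    exact hs ▸ (IsLocalization.lift hu s).2
  have hmle : (maximalIdeal U).map iU ≤ maximalIdeal R := Ideal.map_le_iff_le_comap.mpr fun a ha hu' => by
    have h1 : IsUnit (algebraMap U W a) := by
      have h2 := hu'.map (Subring.inclusion hle)
      have h3 : algebraMap U W a = Subring.inclusion
          hle (iU a) :=
        Subtype.ext (hiU a).symm
      rw [h3]; exact h2
    exact ha (IsUnit.of_map (algebraMap U W) a h1)
  have hmeq : (maximalIdeal U).map iU = maximalIdeal R := le_antisymm hmle hmR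
  obtain ⟨u₀, hu₀, hu₀'⟩ : ∃ u₀ ∈ maximalIdeal U, (maximalIdeal U).map iU = Ideal.span {iU u₀} := by
    have hfg : ((maximalIdeal U).map iU).FG := IsNoetherian.noetherian _
    obtain ⟨t, ht⟩ := Submodule.fg_iff_exists_fin_generating_family.mp hfg
    obtain ⟨F, hF⟩ := ht
    have key : ∀ y ∈ (maximalIdeal U).map iU, ∃ u ∈ maximalIdeal U, iU u ∣ y := by
      intro y hy
      induction hy using Submodule.span_induction with
      | mem z hz => obtain ⟨v, hv, rfl⟩ := hz; exact ⟨v, hv, dvd_rfl⟩
      | zero => exact ⟨0, zero_mem _, by simp⟩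
      | add a b _ _ ha hb =>
        obtain ⟨u₁, hu₁, h₁⟩ := ha
        obtain ⟨u₂, hu₂, h₂⟩ := hb
        obtain ⟨c, hc | hc⟩ := ValuationRing.cond u₁ u₂
        · exact ⟨u₁, hu₁, dvd_add h₁ (((map_dvd iU ⟨c, hc.symm⟩)).trans h₂)⟩
        · exact ⟨u₂, hu₂, dvd_add (((map_dvd iU ⟨c, hc.symm⟩)).trans h₁) h₂⟩
      | smul r a _ ha =>
        obtain ⟨v, hv, hd⟩ := ha
        exact ⟨v, hv, dvd_mul_of_dvd_right hd r⟩
    have key2 : ∀ s : Finset (Fin t), ∃ v ∈ maximalIdeal U, ∀ i ∈ s, iU v ∣ F i := by
      intro s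
      induction s using Finset.induction_on with
      | empty => exact ⟨0, zero_mem _, fun i hi => absurd hi (Finset.notMem_empty i)⟩
      | insert i s _ ih =>
        obtain ⟨v, hv, hvs⟩ := ih
        obtain ⟨w, hw', hwi⟩ := key (F i) (hF ▸ Submodule.subset_span ⟨i, rfl⟩)
        obtain ⟨c, hc | hc⟩ := ValuationRing.cond v w
        · refine ⟨v, hv, fun j hj => ?_⟩
          rcases Finset.mem_insert.mp hj with rfl | hj
          · exact (map_dvd iU ⟨c, hc.symm⟩).trans hwi
          · exact hvs j hj
        · refine ⟨w, hw', fun j hj => ?_⟩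
          rcases Finset.mem_insert.mp hj with rfl | hj
          · exact hwi
          · exact (map_dvd iU ⟨c, hc.symm⟩).trans (hvs j hj)
    obtain ⟨v, hv, hvs⟩ := key2 Finset.univ
    refine ⟨v, hv, le_antisymm ?_ ((Ideal.span_singleton_le_iff_mem _).mpr (Ideal.mem_map_of_mem _ hv))⟩
    rw [← hF]
    refine Submodule.span_le.mpr ?_
    rintro _ ⟨i, rfl⟩
    exact Ideal.mem_span_singleton.mpr (hvs i (Finset.mem_univ i))
  obtain ⟨π, hπ⟩ := IsDiscreteValuationRing.exists_irreducible A
  have hu₀0 : (iU u₀ : M) ≠ 0 := fun h0 => by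
    have h1 : iU (algebraMap A U π) ∈ Ideal.span {iU u₀} :=
      hu₀' ▸ Ideal.mem_map_of_mem _ (map_nonunit (algebraMap A U) π hπ.not_isUnit)
    rw [show iU u₀ = 0 from Subtype.ext h0] at h1
    simp only [Ideal.span_singleton_zero, Ideal.mem_bot] at h1
    have h2 := congrArg Subtype.val h1
    rw [hiU] at h2
    exact hπ.ne_zero (IsFractionRing.injective A K ((algebraMap K K₁).injective
      ((algebraMap K₁ M).injective (h2.trans (by simp)))))
  have hRW : ∀ r : R, (r : M) ∈ W := fun r => by
    obtain ⟨s, hs⟩ := r.2; exact hs ▸ (IsLocalization.lift hu s).2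
  have hloc : IsLocalHom (R.val.toRingHom.codRestrict W hRW) := ⟨fun r hr => by
    by_contra hn
    have h1 : r ∈ Ideal.span {iU u₀} := (hmeq.symm.trans hu₀').le hn
    obtain ⟨c, rfl⟩ := Ideal.mem_span_singleton'.mp h1
    rw [map_mul] at hr
    have h2 := isUnit_of_mul_isUnit_right hr
    rw [show R.val.toRingHom.codRestrict W hRW (iU u₀) = algebraMap U W u₀ from Subtype.ext (hiU u₀)] at h2
    exact hu₀ (IsUnit.of_map (algebraMap U W) u₀ h2)⟩
  have hbij := bijective_codRestrict_of_model (hmeq.symm.trans hu₀') R.val.toRingHom hu₀0 W hRW hloc fun y => by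
    obtain ⟨a, b, hb, hab⟩ := hfr y
    exact ⟨σ a, σ b, hb, hab⟩
  let eRW : R →+* W := R.val.toRingHom.codRestrict W hRW
  refine ⟨?_, ?_⟩
  · show (maximalIdeal U).map (EtRam.inclOfComap W (algebraMap K₁ M)) = maximalIdeal W
    rw [show EtRam.inclOfComap W (algebraMap K₁ M) = eRW.comp iU from RingHom.ext fun a => Subtype.ext (hiU a).symm,
      ← Ideal.map_map, hmeq]
    exact IsLocalRing.map_maximalIdeal_of_surjective _ hbij.2
  · refine isGeometricallyReduced_of_killed (ResidueField U) T (ResidueField W) θ (fun y => ?_) hkill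
    obtain ⟨w, rfl⟩ := residue_surjective y
    obtain ⟨r, rfl⟩ := hbij.2 w
    obtain ⟨s, rfl⟩ := hσ r
    obtain ⟨x, z, rfl⟩ := IsLocalization.exists_mk'_eq q.primeCompl s
    have hne : θ (resX (z : X)) ≠ 0 := by rw [hθres, Ne, residue_eq_zero_iff]; exact z.2
    -- the residue field of `T` at `n` is a field
    haveI : n.IsMaximal := Ring.krullDimLE_zero_iff.mp inferInstance n inferInstance
    obtain ⟨w', hw'⟩ : ∃ w', θ (resX (z : X) * w') = 1 := by
      obtain ⟨w', i, hi, hiw⟩ := Ideal.IsMaximal.exists_inv (I := n) inferInstance (x := resX (z : X)) hne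
      refine ⟨w', ?_⟩
      have h1 := congrArg θ hiw
      rw [map_add, map_one, show θ i = 0 from hi, add_zero] at h1
      rw [mul_comm]; exact h1
    refine ⟨resX x * w', ?_⟩
    apply mul_left_cancel₀ hne
    have h3 : residue W (ψX (z : X)) * residue W (eRW (σ (IsLocalization.mk' S x z))) = residue W (ψX x) := by
      rw [← map_mul]
      congr 1
      apply Subtype.ext
      show (ψX (z : X) : M) * ψS (IsLocalization.mk' S x z) = (ψX x : M)
      rw [← hψS, ← map_mul, IsLocalization.mk'_spec'_mk, hψS]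
    rw [← map_mul θ, mul_left_comm, map_mul, hw', mul_one, hθres, hθres]
    exact h3.symm

end Groth.Agent.HensEt88
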