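import Groth.Agent.HensEt88.DvrExt
import Groth.Prelude.Def_EtRam

/-!
# Common extensions of valuation subrings and descent of weak unramifiedness
-/

set_option autoImplicit false
set_option linter.style.haveILetI false

namespace Groth.Agent.HensEt88

universe u

open IsLocalRing TensorProduct

section Descend

variable {K₁ M M' : Type u} [Field K₁] [Field M] [Field M']

/-- Weak unramifiedness descends along a subextension of valuation subrings. -/
theorem isWeaklyUnramified_comap (W' : ValuationSubring M') (g : M →+* M') (f : K₁ →+* M)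
    (h : letI : Algebra (W'.comap (g.comp f)) W' := (EtRam.inclOfComap W' (g.comp f)).toAlgebra
      EtRam.IsWeaklyUnramified (W'.comap (g.comp f)) W') :
    letI : Algebra ((W'.comap g).comap f) (W'.comap g) := (EtRam.inclOfComap (W'.comap g) f).toAlgebra
    EtRam.IsWeaklyUnramified ((W'.comap g).comap f) (W'.comap g) := by
  let U := W'.comap (g.comp f)
  let ι : U →+* W' := EtRam.inclOfComap W' (g.comp f)
  let ι₁ : ((W'.comap g).comap f) →+* (W'.comap g) := EtRam.inclOfComap (W'.comap g) f
  let ι₂ : (W'.comap g) →+* W' := EtRam.inclOfComap W' g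
  show (maximalIdeal ((W'.comap g).comap f)).map ι₁ = maximalIdeal (W'.comap g)
  have h' : (maximalIdeal U).map ι = maximalIdeal W' := h
  refine le_antisymm (((local_hom_TFAE ι₁).out 0 2).mp (EtRam.isLocalHom_inclOfComap _ f)) fun x hx => ?_
  have h1 : ι₂ x ∈ (maximalIdeal U).map ι := h' ▸ map_nonunit ι₂ x hx
  have key : ∀ y ∈ (maximalIdeal U).map ι, ∃ u ∈ maximalIdeal U, ι u ∣ y := by
    intro y hy
    induction hy using Submodule.span_induction with
    | mem z hz => obtain ⟨u, hu, rfl⟩ := hz; exact ⟨u, hu, dvd_rfl⟩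
    | zero => exact ⟨0, zero_mem _, by simp⟩
    | add a b _ _ ha hb =>
      obtain ⟨u₁, hu₁, h₁⟩ := ha
      obtain ⟨u₂, hu₂, h₂⟩ := hb
      obtain ⟨c, hc | hc⟩ := ValuationRing.cond u₁ u₂
      · exact ⟨u₁, hu₁, dvd_add h₁ (((map_dvd ι ⟨c, hc.symm⟩)).trans h₂)⟩
      · exact ⟨u₂, hu₂, dvd_add (((map_dvd ι ⟨c, hc.symm⟩)).trans h₁) h₂⟩
    | smul r a _ ha =>
      obtain ⟨u, hu, hd⟩ := ha
      exact ⟨u, hu, dvd_mul_of_dvd_right hd r⟩
  obtain ⟨u, hu, w, hw⟩ := key _ h1
  have hu' : g (f (u : K₁)) ∈ W' := u.2
  by_cases hu0 : (u : K₁) = 0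
  · have hx0 : x = 0 := by
      refine Subtype.ext (g.injective ?_)
      have := congrArg Subtype.val hw
      simp only [MulMemClass.coe_mul] at this
      rw [show ((ι₂ x : W') : M') = g (x : M) from rfl, show ((ι u : W') : M') = g (f (u : K₁)) from rfl, hu0,
        map_zero, map_zero, zero_mul] at this
      rw [this]; simp
    rw [hx0]; exact zero_mem _
  · let w₁ : M := (x : M) / f (u : K₁)
    have hw₁ : g w₁ = (w : M') := by
      rw [map_div₀, div_eq_iff ((map_ne_zero _).mpr ((map_ne_zero _).mpr hu0))]
      exact (congrArg Subtype.val hw).trans (mul_comm _ _)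
    have hw₁m : w₁ ∈ W'.comap g := by show g w₁ ∈ W'; rw [hw₁]; exact w.2
    have hx : x = ι₁ u * ⟨w₁, hw₁m⟩ := Subtype.ext (mul_div_cancel₀ _ ((map_ne_zero f).mpr hu0)).symm
    rw [hx]
    exact Ideal.mul_mem_right _ _ (Ideal.mem_map_of_mem ι₁ hu)

/-- Separability of residue fields descends along a subextension of valuation subrings. -/
theorem isGeometricallyReduced_comap (W' : ValuationSubring M') (g : M →+* M') (f : K₁ →+* M)
    (h : @Algebra.IsGeometricallyReduced (ResidueField (W'.comap (g.comp f))) (ResidueField W') _ _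
      (ResidueField.map (EtRam.inclOfComap W' (g.comp f))).toAlgebra) :
    @Algebra.IsGeometricallyReduced (ResidueField ((W'.comap g).comap f)) (ResidueField (W'.comap g)) _ _
      (ResidueField.map (EtRam.inclOfComap (W'.comap g) f)).toAlgebra := by
  letI a₁ : Algebra (ResidueField ((W'.comap g).comap f)) (ResidueField (W'.comap g)) :=
    (ResidueField.map (EtRam.inclOfComap (W'.comap g) f)).toAlgebra
  letI a₂ : Algebra (ResidueField ((W'.comap g).comap f)) (ResidueField W') :=
    (ResidueField.map (EtRam.inclOfComap W' (g.comp f))).toAlgebra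
  haveI : Algebra.IsGeometricallyReduced (ResidueField ((W'.comap g).comap f)) (ResidueField W') := h
  let j : ResidueField (W'.comap g) →ₐ[ResidueField ((W'.comap g).comap f)] ResidueField W' :=
    AlgHom.mk (ResidueField.map (EtRam.inclOfComap W' g)) fun x => by
      obtain ⟨a, rfl⟩ := residue_surjective x
      rfl
  exact Algebra.IsGeometricallyReduced.of_injective j (ResidueField.map (EtRam.inclOfComap W' g)).injective

end Descend

/-- A common field extension carrying a valuation subring over two given ones. -/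
theorem exists_common_valuationSubring (B C M : Type u) [CommRing B] [IsDomain B] [IsDiscreteValuationRing B]
    [CommRing C] [IsDomain C] [IsDiscreteValuationRing C] [Algebra B C] [IsLocalHom (algebraMap B C)]
    (hinj : Function.Injective (algebraMap B C)) [Field M] (gM : B →+* M) (hgM : Function.Injective gM)
    (W : ValuationSubring M) (hW : EtRam.Dominates B gM W)
    (M₀ : Type u) [Field M₀] [Algebra C M₀] [IsFractionRing C M₀] :
    ∃ (F : Type u) (_ : Field F) (jM : M →+* F) (j₀ : M₀ →+* F) (W' : ValuationSubring F),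
      (∀ b, jM (gM b) = j₀ (algebraMap C M₀ (algebraMap B C b))) ∧ W'.comap jM = W ∧
      EtRam.Dominates C (j₀.comp (algebraMap C M₀)) W' := by
  classical
  letI : Algebra B W := (gM.codRestrict W hW.1).toAlgebra
  haveI : IsLocalHom (algebraMap B W) := Dominates.isLocalHom hW
  haveI : Module.IsTorsionFree B C := Module.isTorsionFree_iff_algebraMap_injective.mpr hinj
  haveI : Module.Flat B C := IsDedekindDomain.flat_iff_torsion_eq_bot.mpr (Submodule.isTorsionFree_iff_torsion_eq_bot.mp inferInstance)
  -- a point over both closed points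
  haveI : Nontrivial (ResidueField W ⊗[ResidueField B] ResidueField C) := inferInstance
  obtain ⟨mQ, hmQ⟩ := Ideal.exists_maximal (ResidueField W ⊗[ResidueField B] ResidueField C)
  let T := W ⊗[B] C
  let Q := (ResidueField W ⊗[ResidueField B] ResidueField C) ⧸ mQ
  let iW : W →+* Q := (Ideal.Quotient.mk mQ).comp
    ((Algebra.TensorProduct.includeLeftRingHom : ResidueField W →+* ResidueField W ⊗[ResidueField B] ResidueField C).comp (residue W))
  let iC : C →+* Q := (Ideal.Quotient.mk mQ).comp
    ((Algebra.TensorProduct.includeRight : ResidueField C →ₐ[ResidueField B] ResidueField W ⊗[ResidueField B] ResidueField C).toRingHom.comp (residue C))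
  have hBC : iC.comp (algebraMap B C) = iW.comp (algebraMap B W) := RingHom.ext fun b => by
    show Ideal.Quotient.mk mQ ((1 : ResidueField W) ⊗ₜ[ResidueField B] algebraMap (ResidueField B) (ResidueField C) (residue B b)) =
      Ideal.Quotient.mk mQ (algebraMap (ResidueField B) (ResidueField W) (residue B b) ⊗ₜ[ResidueField B] (1 : ResidueField C))
    congr 1
    rw [Algebra.algebraMap_eq_smul_one, Algebra.algebraMap_eq_smul_one, TensorProduct.smul_tmul]
  let θ : T →ₐ[B] Q := Algebra.TensorProduct.lift (AlgHom.mk iW fun _ => rfl) (AlgHom.mk iC (RingHom.congr_fun hBC))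
    fun _ _ => Commute.all _ _
  let q : Ideal T := RingHom.ker θ.toRingHom
  haveI : IsDomain Q := Ideal.Quotient.isDomain mQ
  haveI : q.IsPrime := RingHom.ker_isPrime _
  -- a generization over the generic point
  haveI : q.LiesOver (q.comap (algebraMap W T)) := ⟨rfl⟩
  haveI : (q.comap (algebraMap W T)).IsPrime := Ideal.comap_isPrime _ _
  obtain ⟨p, hpq, hp, hp0⟩ := Ideal.exists_ideal_le_liesOver_of_le (p := (⊥ : Ideal W))
    (q := q.comap (algebraMap W T)) q bot_le
  haveI := hp
  let F := FractionRing (T ⧸ p)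
  let φ : T →+* F := (algebraMap (T ⧸ p) F).comp (Ideal.Quotient.mk p)
  have hker : ∀ t, φ t = 0 ↔ t ∈ p := fun t => by
    rw [show φ t = algebraMap (T ⧸ p) F (Ideal.Quotient.mk p t) from rfl, IsFractionRing.to_map_eq_zero_iff,
      Ideal.Quotient.eq_zero_iff_mem]
  let φW : W →+* F := φ.comp (algebraMap W T)
  let φC : C →+* F := φ.comp (Algebra.TensorProduct.includeRight : C →ₐ[B] T).toRingHom
  have hφ : ∀ b, φC (algebraMap B C b) = φW (algebraMap B W b) := fun b => by
    show φ ((1 : W) ⊗ₜ[B] algebraMap B C b) = φ (algebraMap B W b ⊗ₜ[B] (1 : C))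
    congr 1
    rw [Algebra.algebraMap_eq_smul_one, Algebra.algebraMap_eq_smul_one, TensorProduct.smul_tmul]
  have hWinj : Function.Injective φW := (injective_iff_map_eq_zero φW).mpr fun w hw => by
    have h1 : w ∈ p.comap (algebraMap W T) := (hker _).mp hw
    rwa [← Ideal.under_def, ← hp0.over, Ideal.mem_bot] at h1
  have hBinj : Function.Injective (algebraMap B W) := fun a b h => hgM (congrArg Subtype.val h)
  have hCinj : Function.Injective φC := (injective_iff_map_eq_zero φC).mpr fun c hc => by
    by_contra hc0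
    obtain ⟨π, hπ⟩ := IsDiscreteValuationRing.exists_irreducible C
    obtain ⟨ϖ, hϖ⟩ := IsDiscreteValuationRing.exists_irreducible B
    obtain ⟨n, u, hn⟩ := IsDiscreteValuationRing.eq_unit_mul_pow_irreducible hc0 hπ
    have hπ0 : φC π = 0 := by
      rw [hn, map_mul, map_pow] at hc
      exact eq_zero_of_pow_eq_zero ((mul_eq_zero.mp hc).resolve_left (u.isUnit.map φC).ne_zero)
    have hd : π ∣ algebraMap B C ϖ := by
      rw [← Ideal.mem_span_singleton, ← hπ.maximalIdeal_eq]
      exact map_nonunit _ ϖ hϖ.not_isUnit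
    obtain ⟨d, hd⟩ := hd
    have h0 := hφ ϖ
    rw [hd, map_mul, hπ0, zero_mul] at h0
    exact hϖ.ne_zero (hBinj (hWinj (h0.symm.trans (map_zero φW).symm) |>.trans (map_zero _).symm))
  let jM : M →+* F := IsFractionRing.lift hWinj
  let j₀ : M₀ →+* F := IsFractionRing.lift hCinj
  -- a valuation subring at the point
  have hu : ∀ s : q.primeCompl, IsUnit (φ s) := fun s => isUnit_iff_ne_zero.mpr fun h => s.2 (hpq ((hker _).mp h))
  obtain ⟨W', hW', hl⟩ := IsLocalRing.exists_factor_valuationRing (R := Localization.AtPrime q) (K := F) (IsLocalization.lift hu)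
  have hmem : ∀ t, φ t ∈ W' := fun t => by
    have := hW' (algebraMap T (Localization.AtPrime q) t)
    rwa [IsLocalization.lift_eq] at this
  have hlt : ∀ t, t ∈ q → W'.valuation (φ t) < 1 := fun t ht => by
    have h1 : EtRam.Dominates (Localization.AtPrime q) (IsLocalization.lift hu) W' :=
      @dominates_of_isLocalHom (Localization.AtPrime q) _ _ F _ (IsLocalization.lift hu) W' hW' hl
    have h2 := h1.2 (algebraMap T (Localization.AtPrime q) t)
      ((IsLocalization.AtPrime.to_map_mem_maximal_iff _ q t).mpr ht)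
    rwa [IsLocalization.lift_eq] at h2
  have hjM : ∀ w : W, jM (w : M) = φW w := fun w => IsFractionRing.lift_algebraMap hWinj w
  have hle : W ≤ W'.comap jM := fun x hx => by
    show jM x ∈ W'
    rw [show jM x = φW ⟨x, hx⟩ from hjM ⟨x, hx⟩]
    exact hmem _
  have heq : W'.comap jM = W := by
    have hloc : IsLocalHom (Subring.inclusion (show W.toLocalSubring.toSubring ≤ (W'.comap jM).toLocalSubring.toSubring from hle)) := by
      refine ⟨fun (x : W) hx => ?_⟩
      by_contra hx'
      have h1 : W'.valuation (φW x) < 1 := hlt _ (by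
        show θ (algebraMap W T x) = 0
        show θ (x ⊗ₜ[B] (1 : C)) = 0
        rw [Algebra.TensorProduct.lift_tmul, map_one, mul_one]
        show iW x = 0
        simp [iW, (residue_eq_zero_iff x).mpr hx'])
      have hx2 : IsUnit (⟨(x : M), hle x.2⟩ : W'.comap jM) := hx
      have h3 : IsUnit (EtRam.inclOfComap W' jM ⟨(x : M), hle x.2⟩) := hx2.map _
      have h4 := (W'.valuation_lt_one_iff (EtRam.inclOfComap W' jM ⟨(x : M), hle x.2⟩)).mpr (by
        show W'.valuation (jM (x : M)) < 1
        rwa [hjM])
      exact h4 h3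
    have h1 := W.isMax_toLocalSubring (b := (W'.comap jM).toLocalSubring) ⟨hle, hloc⟩
    exact le_antisymm h1.1 hle
  refine ⟨F, inferInstance, jM, j₀, W', fun b => ?_, heq, ?_⟩
  · rw [show gM b = ((algebraMap B W b : W) : M) from rfl, hjM, ← hφ]
    exact (IsFractionRing.lift_algebraMap hCinj _).symm
  · refine ⟨fun c => ?_, fun c hc => ?_⟩
    · rw [RingHom.comp_apply, IsFractionRing.lift_algebraMap hCinj]; exact hmem _
    · rw [RingHom.comp_apply, IsFractionRing.lift_algebraMap hCinj]
      refine hlt _ ?_
      show θ ((1 : W) ⊗ₜ[B] c) = 0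
      rw [Algebra.TensorProduct.lift_tmul, map_one, one_mul]
      show iC c = 0
      simp [iC, (residue_eq_zero_iff c).mpr hc]

end Groth.Agent.HensEt88
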