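import Groth.Agent.S1983
import Groth.Agent.HensEt88.SolutionDescend
import Groth.Agent.HensEt88.Abhyankar
import Groth.Agent.H84Misc.GeomRed

/-!
# Solutions: composition, descent and stability under enlarging the extension
-/

set_option autoImplicit false
set_option linter.style.haveILetI false

namespace Groth.Agent.HensEt88

universe u

open IsLocalRing

/-- The local condition in the definition of a solution. -/
def IsGood {K₁ M : Type u} [Field K₁] [Field M] (W : ValuationSubring M) (f : K₁ →+* M) : Prop :=
  letI : Algebra (W.comap f) W := (EtRam.inclOfComap W f).toAlgebra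
  EtRam.IsWeaklyUnramified (W.comap f) W ∧
    @Algebra.IsGeometricallyReduced (ResidueField (W.comap f)) (ResidueField W) _ _
      (ResidueField.map (EtRam.inclOfComap W f)).toAlgebra

section Fields

variable {K₁ M M' : Type u} [Field K₁] [Field M] [Field M']

theorem IsGood.comap {W : ValuationSubring M'} {g : M →+* M'} {f : K₁ →+* M} (h : IsGood W (g.comp f)) :
    IsGood (W.comap g) f :=
  ⟨isWeaklyUnramified_comap W g f h.1, isGeometricallyReduced_comap W g f h.2⟩

theorem IsGood.comp {W : ValuationSubring M'} {g : M →+* M'} {f : K₁ →+* M} (h₁ : IsGood (W.comap g) f)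
    (h₂ : IsGood W g) : IsGood W (g.comp f) := by
  refine ⟨?_, ?_⟩
  · show (maximalIdeal ((W.comap g).comap f)).map ((EtRam.inclOfComap W g).comp (EtRam.inclOfComap (W.comap g) f)) = _
    rw [← Ideal.map_map]
    have e₁ : (maximalIdeal ((W.comap g).comap f)).map (EtRam.inclOfComap (W.comap g) f) = maximalIdeal (W.comap g) := h₁.1
    have e₂ : (maximalIdeal (W.comap g)).map (EtRam.inclOfComap W g) = maximalIdeal W := h₂.1
    rw [e₁, e₂]
  · let k₁ := ResidueField ((W.comap g).comap f)
    let k₂ := ResidueField (W.comap g)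
    letI : Algebra k₁ k₂ := (ResidueField.map (EtRam.inclOfComap (W.comap g) f)).toAlgebra
    letI : Algebra k₂ (ResidueField W) := (ResidueField.map (EtRam.inclOfComap W g)).toAlgebra
    letI : Algebra k₁ (ResidueField W) := (ResidueField.map (EtRam.inclOfComap W (g.comp f))).toAlgebra
    haveI : IsScalarTower k₁ k₂ (ResidueField W) := .of_algebraMap_eq fun x => by
      obtain ⟨a, rfl⟩ := residue_surjective x
      rfl
    haveI : Algebra.IsGeometricallyReduced k₁ k₂ := h₁.2
    haveI : Algebra.IsGeometricallyReduced k₂ (ResidueField W) := h₂.2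
    exact H84Misc.isGeometricallyReduced_trans k₁ k₂ (ResidueField W)

end Fields

/-- Over a weakly unramified extension with geometrically reduced residue extension every local extension is good. -/
theorem isGood_of_weaklyUnramified (A B K L : Type u) [CommRing A] [IsDomain A] [IsDiscreteValuationRing A]
    [CommRing B] [IsDomain B] [IsDiscreteValuationRing B] [Algebra A B] [IsLocalHom (algebraMap A B)]
    (hinj : Function.Injective (algebraMap A B))
    [Field K] [Field L] [Algebra A K] [IsFractionRing A K] [Algebra B L] [IsFractionRing B L]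
    [Algebra K L] [Algebra A L] [IsScalarTower A K L] [IsScalarTower A B L]
    (hw : EtRam.IsWeaklyUnramified A B) [Algebra.IsGeometricallyReduced (ResidueField A) (ResidueField B)]
    (K₁ : Type u) [Field K₁] [Algebra K K₁] [FiniteDimensional K K₁]
    (M : Type u) [Field M] [Algebra K M] [Algebra L M] [Algebra K₁ M] [IsScalarTower K L M] [IsScalarTower K K₁ M]
    (hgen : Algebra.adjoin L (Set.range (algebraMap K₁ M)) = ⊤) (W : ValuationSubring M)
    (hW : EtRam.Dominates B ((algebraMap L M).comp (algebraMap B L)) W) : IsGood W (algebraMap K₁ M) :=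
  S1983.result A B K L hinj hw K₁ M hgen W hW

set_option maxHeartbeats 1000000 in
/-- A finite extension of a solution is a solution. -/
theorem solution_extend (A B K L : Type u) [CommRing A] [IsDomain A] [IsDiscreteValuationRing A]
    [CommRing B] [IsDomain B] [IsDiscreteValuationRing B] [Algebra A B] [IsLocalHom (algebraMap A B)]
    [Field K] [Field L] [Algebra A K] [IsFractionRing A K] [Algebra B L] [IsFractionRing B L]
    [Algebra K L] [Algebra A L] [IsScalarTower A K L] [IsScalarTower A B L]
    (K₁ K₂ : Type u) [Field K₁] [Field K₂] [Algebra K K₁] [Algebra K K₂] [Algebra K₁ K₂] [IsScalarTower K K₁ K₂]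
    [FiniteDimensional K K₁] [FiniteDimensional K K₂] (h : EtRam.IsSolution B K L K₁) :
    EtRam.IsSolution B K L K₂ := by
  intro M _ _ _ _ _ _ hgen W hW
  show IsGood W (algebraMap K₂ M)
  letI : Algebra K₁ M := ((algebraMap K₂ M).comp (algebraMap K₁ K₂)).toAlgebra
  haveI : IsScalarTower K₁ K₂ M := .of_algebraMap_eq' rfl
  haveI : IsScalarTower K K₁ M := .of_algebraMap_eq fun x => by
    rw [IsScalarTower.algebraMap_apply K K₂ M, IsScalarTower.algebraMap_apply K K₁ K₂]
    rfl
  haveI : FiniteDimensional K₁ K₂ := FiniteDimensional.right K K₁ K₂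
  let M₁ := IntermediateField.adjoin L (Set.range (algebraMap K₁ M))
  have halg : ∀ x : K₁, IsIntegral L (algebraMap K₁ M x) := fun x =>
    (((IsIntegral.of_finite K x).map (IsScalarTower.toAlgHom K K₁ M))).tower_top
  have hmem : ∀ x, algebraMap K₁ M x ∈ M₁ := fun x => IntermediateField.subset_adjoin L _ ⟨x, rfl⟩
  letI : Algebra K₁ M₁ := ((algebraMap K₁ M).codRestrict M₁.toSubalgebra.toSubring hmem).toAlgebra
  haveI : IsScalarTower K K₁ M₁ := .of_algebraMap_eq fun x => Subtype.ext (by
    show algebraMap K M x = algebraMap K₁ M (algebraMap K K₁ x)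
    exact IsScalarTower.algebraMap_apply K K₁ M x)
  haveI : IsScalarTower K₁ M₁ M := .of_algebraMap_eq' rfl
  have hgen₁ : Algebra.adjoin L (Set.range (algebraMap K₁ M₁)) = ⊤ := by
    refine top_le_iff.mp fun y _ => ?_
    have hy : (y : M) ∈ Algebra.adjoin L (Set.range (algebraMap K₁ M)) :=
      IntermediateField.adjoin_toSubalgebra_of_isAlgebraic (fun x (hx : x ∈ Set.range (algebraMap K₁ M)) => by
        obtain ⟨x, rfl⟩ := hx
        exact (halg x).isAlgebraic) ▸ y.2
    have e : Algebra.adjoin L (Set.range (algebraMap K₁ M)) =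
        (Algebra.adjoin L (Set.range (algebraMap K₁ M₁))).map M₁.val := by
      rw [AlgHom.map_adjoin]
      congr 1
      rw [← Set.range_comp]
      rfl
    rw [e] at hy
    obtain ⟨y', hy', he⟩ := hy
    rwa [show y = y' from Subtype.ext he.symm]
  haveI : FiniteDimensional L M₁ := by
    refine ⟨?_⟩
    rw [← Algebra.top_toSubmodule, ← hgen₁]
    let φ : L →ₗ[L] M₁ := Algebra.linearMap L M₁
    obtain ⟨s, hs⟩ := (Module.Finite.fg_top (R := K) (M := K₁))
    have hsub : Algebra.adjoin L (Set.range (algebraMap K₁ M₁)) ≤ Algebra.adjoin L ((algebraMap K₁ M₁) '' (s : Set K₁)) := by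
      refine Algebra.adjoin_le ?_
      intro z hz
      obtain ⟨x, rfl⟩ : z ∈ Set.range (algebraMap K₁ M₁) := hz
      have hx : x ∈ Submodule.span K (s : Set K₁) := by rw [hs]; trivial
      induction hx using Submodule.span_induction with
      | mem z hz => exact Algebra.subset_adjoin ⟨z, hz, rfl⟩
      | zero => rw [map_zero]; exact zero_mem _
      | add a b _ _ ha hb => rw [map_add]; exact add_mem ha hb
      | smul r a _ ha =>
        rw [Algebra.smul_def, map_mul, ← IsScalarTower.algebraMap_apply K K₁ M₁, IsScalarTower.algebraMap_apply K L M₁]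
        exact mul_mem (Subalgebra.algebraMap_mem _ _) ha
    rw [le_antisymm hsub (Algebra.adjoin_mono (Set.image_subset_range _ _))]
    refine fg_adjoin_of_finite (s.finite_toSet.image _) ?_
    rintro _ ⟨x, -, rfl⟩
    exact (isIntegral_algHom_iff M₁.val M₁.val.injective).mp (halg x)
  let W₁ : ValuationSubring M₁ := W.comap (algebraMap M₁ M)
  have hdom₁ : EtRam.Dominates B ((algebraMap L M₁).comp (algebraMap B L)) W₁ :=
    dominates_comap (algebraMap M₁ M) rfl hW
  have hgood : IsGood W₁ (algebraMap K₁ M₁) := h M₁ hgen₁ W₁ hdom₁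
  let A₁ := W₁.comap (algebraMap K₁ M₁)
  have hA₁ : EtRam.Dominates A ((algebraMap K K₁).comp (algebraMap A K)) A₁ := by
    refine dominates_comap (algebraMap K₁ M₁) (g' := (((algebraMap L M₁).comp (algebraMap B L)).comp (algebraMap A B))) ?_ ?_
    · refine RingHom.ext fun a => ?_
      simp only [RingHom.comp_apply]
      rw [← IsScalarTower.algebraMap_apply A B L, IsScalarTower.algebraMap_apply A K L,
        ← IsScalarTower.algebraMap_apply K L M₁]
      exact IsScalarTower.algebraMap_apply K K₁ M₁ _
    · exact ⟨fun a => hdom₁.1 _, fun a ha => hdom₁.2 _ (map_nonunit (algebraMap A B) a ha)⟩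
  haveI : IsDiscreteValuationRing A₁ := isDiscreteValuationRing_of_dominates_finite hA₁
  haveI : IsDiscreteValuationRing W₁ := isDiscreteValuationRing_of_dominates_finite hdom₁
  letI : Algebra A₁ W₁ := (EtRam.inclOfComap W₁ (algebraMap K₁ M₁)).toAlgebra
  haveI : IsLocalHom (algebraMap A₁ W₁) := EtRam.isLocalHom_inclOfComap _ _
  letI : Algebra A₁ M₁ := ((algebraMap K₁ M₁).comp A₁.subtype).toAlgebra
  haveI : IsScalarTower A₁ K₁ M₁ := .of_algebraMap_eq' rfl
  haveI : IsScalarTower A₁ W₁ M₁ := .of_algebraMap_eq' rfl
  haveI : Algebra.IsGeometricallyReduced (ResidueField A₁) (ResidueField W₁) := by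
    have e : (inferInstance : Algebra (ResidueField A₁) (ResidueField W₁)) =
        (ResidueField.map (EtRam.inclOfComap W₁ (algebraMap K₁ M₁))).toAlgebra := Algebra.algebra_ext _ _ fun x => by
      obtain ⟨a, rfl⟩ := residue_surjective x
      rfl
    convert hgood.2
  have hgen₂ : Algebra.adjoin M₁ (Set.range (algebraMap K₂ M)) = ⊤ := by
    refine top_le_iff.mp ?_
    rw [← Algebra.adjoin_span]
    intro y _
    have hy : y ∈ Algebra.adjoin L (Set.range (algebraMap K₂ M)) := hgen ▸ Algebra.mem_top
    have hle : Algebra.adjoin L (Set.range (algebraMap K₂ M)) ≤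
        (Algebra.adjoin M₁ (Submodule.span M₁ (Set.range (algebraMap K₂ M)) : Set M)).restrictScalars L :=
      Algebra.adjoin_le fun z hz => Algebra.subset_adjoin (Submodule.subset_span hz)
    exact hle hy
  exact isGood_of_weaklyUnramified A₁ W₁ K₁ M₁ (fun x y hxy => Subtype.ext ((algebraMap K₁ M₁).injective
    (congrArg Subtype.val hxy))) hgood.1 K₂ M hgen₂ W (dominates_subtype_comap (algebraMap M₁ M) W)

end Groth.Agent.HensEt88
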