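import Groth.Agent.HensEt88.SmoothSolution

/-!
# A local model criterion for solutions
-/

set_option autoImplicit false
set_option linter.style.haveILetI false

namespace Groth.Agent.HensEt88

universe u

open IsLocalRing TensorProduct

variable {B L K₁ M : Type u} [CommRing B] [IsDomain B] [IsDiscreteValuationRing B]
  [Field L] [Algebra B L] [IsFractionRing B L] [Field K₁]
  [Field M] [Algebra L M] [Algebra K₁ M] [Algebra B M] [IsScalarTower B L M] [FiniteDimensional L M]

/-- The general model criterion: a reduced zero-dimensional closed fibre over `W ∩ K₁`. -/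
theorem local_solution_of_model (W : ValuationSubring M)
    (hgen : Algebra.adjoin L (Set.range (algebraMap K₁ M)) = ⊤)
    (hU0 : ∃ u ∈ maximalIdeal (W.comap (algebraMap K₁ M)), (u : K₁) ≠ 0)
    (X T : Type u) [CommRing X] [CommRing T]
    (iX : W.comap (algebraMap K₁ M) →+* X) (ψX : X →+* W)
    (hψU : ∀ a, ψX (iX a) = EtRam.inclOfComap W (algebraMap K₁ M) a)
    (hψB : ∀ b : B, ∃ x, (ψX x : M) = algebraMap B M b)
    [Algebra (ResidueField (W.comap (algebraMap K₁ M))) T]
    [IsReduced (AlgebraicClosure (ResidueField (W.comap (algebraMap K₁ M))) ⊗[ResidueField (W.comap (algebraMap K₁ M))] T)]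
    [Ring.KrullDimLE 0 T] (θ : T →+* ResidueField W)
    (hθU : ∀ z, θ (algebraMap (ResidueField (W.comap (algebraMap K₁ M))) T z) = ResidueField.map (EtRam.inclOfComap W (algebraMap K₁ M)) z)
    (resX : X →+* T) (hsurjX : Function.Surjective resX) (hθres : ∀ x, θ (resX x) = residue W (ψX x))
    (hker : RingHom.ker resX ≤ (maximalIdeal (W.comap (algebraMap K₁ M))).map iX) :
    @EtRam.IsWeaklyUnramified (W.comap (algebraMap K₁ M)) W _ _ _ _
      (EtRam.inclOfComap W (algebraMap K₁ M)).toAlgebra ∧
    @Algebra.IsGeometricallyReduced (ResidueField (W.comap (algebraMap K₁ M))) (ResidueField W) _ _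
      (ResidueField.map (EtRam.inclOfComap W (algebraMap K₁ M))).toAlgebra := by
  classical
  let U := W.comap (algebraMap K₁ M)
  letI aUW : Algebra U W := (EtRam.inclOfComap W (algebraMap K₁ M)).toAlgebra
  haveI : IsLocalHom (algebraMap U W) := EtRam.isLocalHom_inclOfComap _ _
  letI : Algebra (ResidueField U) (ResidueField W) := (ResidueField.map (EtRam.inclOfComap W (algebraMap K₁ M))).toAlgebra
  let θA : T →ₐ[ResidueField U] ResidueField W := AlgHom.mk θ hθU
  let q : Ideal X := (maximalIdeal W).comap ψX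
  let S := Localization.AtPrime q
  have hu : ∀ s : q.primeCompl, IsUnit (ψX s) := fun s => by_contra fun hn => s.2 hn
  let ψS : S →+* M := W.subtype.comp (IsLocalization.lift hu)
  have hψS : ∀ x, ψS (algebraMap X S x) = (ψX x : M) := fun x => congrArg Subtype.val (IsLocalization.lift_eq hu x)
  let R : Subalgebra B M :=
    { ψS.range with
      algebraMap_mem' := fun b => by
        obtain ⟨x, hx⟩ := hψB b
        exact ⟨algebraMap X S x, (hψS x).trans hx⟩ }
  have hR : ∀ s, ψS s ∈ R := fun s => ⟨s, rfl⟩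
  let σ : S →+* R := ψS.codRestrict R hR
  have hσ : Function.Surjective σ := fun r => by
    obtain ⟨s, hs⟩ := r.2
    exact ⟨s, Subtype.ext hs⟩
  haveI : IsLocalRing R := IsLocalRing.of_surjective' (R := S) σ hσ
  haveI : Algebra.IsAlgebraic L M := Algebra.IsAlgebraic.of_finite L M
  have hfr := exists_frac_of_adjoin (B := B) (L := L) ψS (fun b => by
      obtain ⟨x, hx⟩ := hψB b
      exact ⟨algebraMap X S x, ((hψS x).trans hx).trans (IsScalarTower.algebraMap_apply B L M b)⟩)
    (Set.range fun x : U => algebraMap K₁ M (x : K₁)) (by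
      rintro _ ⟨x, rfl⟩
      exact ⟨algebraMap X S (iX x), by rw [hψS, hψU]; rfl⟩) (by
      refine top_le_iff.mp (hgen ▸ Algebra.adjoin_le ?_)
      rintro _ ⟨x, rfl⟩
      rcases U.mem_or_inv_mem x with hx | hx
      · exact Algebra.subset_adjoin ⟨⟨x, hx⟩, rfl⟩
      · have h1 : algebraMap K₁ M x⁻¹ ∈ Algebra.adjoin L (Set.range fun x : U => algebraMap K₁ M (x : K₁)) :=
          Algebra.subset_adjoin ⟨⟨x⁻¹, hx⟩, rfl⟩
        have h2 := Subalgebra.inv_mem_of_algebraic (A := Algebra.adjoin L (Set.range fun x : U => algebraMap K₁ M (x : K₁)))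
          (x := ⟨_, h1⟩) (Algebra.IsAlgebraic.isAlgebraic _)
        simpa using h2)
  haveI : IsNoetherianRing R := isNoetherianRing_of_finite_extension B L M R fun y => by
    obtain ⟨a, b, hb, hab⟩ := hfr y
    exact ⟨_, hR a, _, hR b, hb, hab⟩
  let n : Ideal T := RingHom.ker θ
  haveI : n.IsPrime := RingHom.ker_isPrime _
  haveI : IsReduced T := isReduced_of_injective
    (Algebra.TensorProduct.includeRight : T →ₐ[ResidueField U] AlgebraicClosure (ResidueField U) ⊗[ResidueField U] T)
    (Algebra.TensorProduct.includeRight_injective (RingHom.injective _))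
  have hkill : ∀ t, θ t = 0 → ∃ s, θ s ≠ 0 ∧ s * t = 0 := fun t ht => by
    have hmin : n ∈ minimalPrimes T := Ideal.mem_minimalPrimes_of_krullDimLE_zero n
    haveI : IsReduced (Localization.AtPrime n) := inferInstance
    haveI : Ring.KrullDimLE 0 (Localization.AtPrime n) := Ring.krullDimLE_zero_iff.mpr fun P hP => by
      haveI := hP
      haveI : (P.comap (algebraMap T (Localization.AtPrime n))).IsMaximal :=
        Ring.krullDimLE_zero_iff.mp inferInstance _ (Ideal.comap_isPrime _ P)
      have hle : P.comap (algebraMap T (Localization.AtPrime n)) ≤ n := fun x hx => by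
        by_contra hx'
        exact hP.ne_top (Ideal.eq_top_of_isUnit_mem _ hx (IsLocalization.map_units _ (⟨x, hx'⟩ : n.primeCompl)))
      have he := Ideal.IsMaximal.eq_of_le ‹(P.comap (algebraMap T (Localization.AtPrime n))).IsMaximal› (Ideal.IsPrime.ne_top inferInstance) hle
      rw [← IsLocalization.map_under n.primeCompl (Localization.AtPrime n) P, Ideal.under_def, he,
        IsLocalization.AtPrime.map_eq_maximalIdeal n (Localization.AtPrime n)]
      exact maximalIdeal.isMaximal _
    have hF : IsField (Localization.AtPrime n) := Ring.KrullDimLE.isField_of_isReduced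
    have h0 : algebraMap T (Localization.AtPrime n) t = 0 := by
      have h1 := (IsLocalization.AtPrime.to_map_mem_maximal_iff (Localization.AtPrime n) n t).mpr ht
      rwa [IsLocalRing.isField_iff_maximalIdeal_eq.mp hF, Ideal.mem_bot] at h1
    obtain ⟨⟨s, hs⟩, hst⟩ := (IsLocalization.map_eq_zero_iff n.primeCompl _ t).mp h0
    exact ⟨s, hs, hst⟩
  let iU : U →+* R := σ.comp ((algebraMap X S).comp iX)
  have hiU : ∀ a : U, (iU a : M) = algebraMap K₁ M (a : K₁) := fun a => by
    show ψS (algebraMap X S (iX a)) = _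
    rw [hψS, hψU]
    rfl
  let J : Ideal X := (maximalIdeal U).map iX
  have hmR : maximalIdeal R ≤ (maximalIdeal U).map iU := by
    intro r hr
    obtain ⟨s, rfl⟩ := hσ r
    obtain ⟨x, y, rfl⟩ := IsLocalization.exists_mk'_eq q.primeCompl s
    have hxq : x ∈ q := by
      by_contra hx
      exact hr (((IsLocalization.AtPrime.isUnit_mk'_iff S q x y).mpr hx).map σ)
    have ht : θ (resX x) = 0 := by
      rw [hθres, residue_eq_zero_iff]; exact hxq
    obtain ⟨t, htn, ht0⟩ := hkill _ ht
    obtain ⟨z, rfl⟩ := hsurjX t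
    have hzJ : z * x ∈ J := by
      exact hker (RingHom.mem_ker.mpr ((map_mul resX z x).trans ht0))
    have hzq : z ∉ q := fun h => htn (by rw [hθres, residue_eq_zero_iff]; exact h)
    have h1 : IsLocalization.mk' S x y ∈ J.map (algebraMap X S) :=
      (IsLocalization.mk'_mem_map_algebraMap_iff q.primeCompl S J x y).mpr ⟨z, hzq, hzJ⟩
    have h2 := Ideal.mem_map_of_mem σ h1
    rw [Ideal.map_map, Ideal.map_map, RingHom.comp_assoc] at h2
    exact h2
  -- principal
  have hle : R.toSubring ≤ W.toSubring := by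
    intro w hw
    obtain ⟨s, hs⟩ := hw
    exact hs ▸ (IsLocalization.lift hu s).2
  have hmle : (maximalIdeal U).map iU ≤ maximalIdeal R := Ideal.map_le_iff_le_comap.mpr fun a ha hu' => by
    have h1 : IsUnit (algebraMap U W a) := by
      have h2 := hu'.map (Subring.inclusion hle)
      have h3 : algebraMap U W a = Subring.inclusion
          hle (iU a) :=
        Subtype.ext (hiU a).symm
      rw [h3]; exact h2
    exact ha (IsUnit.of_map (algebraMap U W) a h1)
  have hmeq : (maximalIdeal U).map iU = maximalIdeal R := le_antisymm hmle hmR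
  obtain ⟨u₀, hu₀, hu₀'⟩ : ∃ u₀ ∈ maximalIdeal U, (maximalIdeal U).map iU = Ideal.span {iU u₀} := by
    have hfg : ((maximalIdeal U).map iU).FG := IsNoetherian.noetherian _
    obtain ⟨t, ht⟩ := Submodule.fg_iff_exists_fin_generating_family.mp hfg
    obtain ⟨F, hF⟩ := ht
    have key : ∀ y ∈ (maximalIdeal U).map iU, ∃ u ∈ maximalIdeal U, iU u ∣ y := by
      intro y hy
      induction hy using Submodule.span_induction with
      | mem z hz => obtain ⟨v, hv, rfl⟩ := hz; exact ⟨v, hv, dvd_rfl⟩
      | zero => exact ⟨0, zero_mem _, by simp⟩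
      | add a b _ _ ha hb =>
        obtain ⟨u₁, hu₁, h₁⟩ := ha
        obtain ⟨u₂, hu₂, h₂⟩ := hb
        obtain ⟨c, hc | hc⟩ := ValuationRing.cond u₁ u₂
        · exact ⟨u₁, hu₁, dvd_add h₁ (((map_dvd iU ⟨c, hc.symm⟩)).trans h₂)⟩
        · exact ⟨u₂, hu₂, dvd_add (((map_dvd iU ⟨c, hc.symm⟩)).trans h₁) h₂⟩
      | smul r a _ ha =>
        obtain ⟨v, hv, hd⟩ := ha
        exact ⟨v, hv, dvd_mul_of_dvd_right hd r⟩
    have key2 : ∀ s : Finset (Fin t), ∃ v ∈ maximalIdeal U, ∀ i ∈ s, iU v ∣ F i := by
      intro s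
      induction s using Finset.induction_on with
      | empty => exact ⟨0, zero_mem _, fun i hi => absurd hi (Finset.notMem_empty i)⟩
      | insert i s _ ih =>
        obtain ⟨v, hv, hvs⟩ := ih
        obtain ⟨w, hw', hwi⟩ := key (F i) (hF ▸ Submodule.subset_span ⟨i, rfl⟩)
        obtain ⟨c, hc | hc⟩ := ValuationRing.cond v w
        · refine ⟨v, hv, fun j hj => ?_⟩
          rcases Finset.mem_insert.mp hj with rfl | hj
          · exact (map_dvd iU ⟨c, hc.symm⟩).trans hwi
          · exact hvs j hj
        · refine ⟨w, hw', fun j hj => ?_⟩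
          rcases Finset.mem_insert.mp hj with rfl | hj
          · exact hwi
          · exact (map_dvd iU ⟨c, hc.symm⟩).trans (hvs j hj)
    obtain ⟨v, hv, hvs⟩ := key2 Finset.univ
    refine ⟨v, hv, le_antisymm ?_ ((Ideal.span_singleton_le_iff_mem _).mpr (Ideal.mem_map_of_mem _ hv))⟩
    rw [← hF]
    refine Submodule.span_le.mpr ?_
    rintro _ ⟨i, rfl⟩
    exact Ideal.mem_span_singleton.mpr (hvs i (Finset.mem_univ i))
  have hu₀0 : (iU u₀ : M) ≠ 0 := fun h0 => by
    obtain ⟨v, hv, hv0⟩ := hU0
    have h1 : iU v ∈ Ideal.span {iU u₀} := hu₀' ▸ Ideal.mem_map_of_mem _ hv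
    rw [show iU u₀ = 0 from Subtype.ext h0] at h1
    simp only [Ideal.span_singleton_zero, Ideal.mem_bot] at h1
    have h2 := congrArg Subtype.val h1
    rw [hiU] at h2
    exact hv0 ((map_eq_zero _).mp h2)
  have hRW : ∀ r : R, (r : M) ∈ W := fun r => by
    obtain ⟨s, hs⟩ := r.2; exact hs ▸ (IsLocalization.lift hu s).2
  have hloc : IsLocalHom (R.val.toRingHom.codRestrict W hRW) := ⟨fun r hr => by
    by_contra hn
    have h1 : r ∈ Ideal.span {iU u₀} := (hmeq.symm.trans hu₀').le hn
    obtain ⟨c, rfl⟩ := Ideal.mem_span_singleton'.mp h1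
    rw [map_mul] at hr
    have h2 := isUnit_of_mul_isUnit_right hr
    rw [show R.val.toRingHom.codRestrict W hRW (iU u₀) = algebraMap U W u₀ from Subtype.ext (hiU u₀)] at h2
    exact hu₀ (IsUnit.of_map (algebraMap U W) u₀ h2)⟩
  have hbij := bijective_codRestrict_of_model (hmeq.symm.trans hu₀') R.val.toRingHom hu₀0 W hRW hloc fun y => by
    obtain ⟨a, b, hb, hab⟩ := hfr y
    exact ⟨σ a, σ b, hb, hab⟩
  let eRW : R →+* W := R.val.toRingHom.codRestrict W hRW
  refine ⟨?_, ?_⟩
  · show (maximalIdeal U).map (EtRam.inclOfComap W (algebraMap K₁ M)) = maximalIdeal W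
    rw [show EtRam.inclOfComap W (algebraMap K₁ M) = eRW.comp iU from RingHom.ext fun a => Subtype.ext (hiU a).symm,
      ← Ideal.map_map, hmeq]
    exact IsLocalRing.map_maximalIdeal_of_surjective _ hbij.2
  · refine isGeometricallyReduced_of_killed (ResidueField U) T (ResidueField W) θA (fun y => ?_) hkill
    obtain ⟨w, rfl⟩ := residue_surjective y
    obtain ⟨r, rfl⟩ := hbij.2 w
    obtain ⟨s, rfl⟩ := hσ r
    obtain ⟨x, z, rfl⟩ := IsLocalization.exists_mk'_eq q.primeCompl s
    have hne : θ (resX (z : X)) ≠ 0 := by rw [hθres, Ne, residue_eq_zero_iff]; exact z.2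
    -- the residue field of `T` at `n` is a field
    haveI : n.IsMaximal := Ring.krullDimLE_zero_iff.mp inferInstance n inferInstance
    obtain ⟨w', hw'⟩ : ∃ w', θ (resX (z : X) * w') = 1 := by
      obtain ⟨w', i, hi, hiw⟩ := Ideal.IsMaximal.exists_inv (I := n) inferInstance (x := resX (z : X)) hne
      refine ⟨w', ?_⟩
      have h1 := congrArg θ hiw
      rw [map_add, map_one, show θ i = 0 from hi, add_zero] at h1
      rw [mul_comm]; exact h1
    refine ⟨resX x * w', ?_⟩
    apply mul_left_cancel₀ hne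
    have h3 : residue W (ψX (z : X)) * residue W (eRW (σ (IsLocalization.mk' S x z))) = residue W (ψX x) := by
      rw [← map_mul]
      congr 1
      apply Subtype.ext
      show (ψX (z : X) : M) * ψS (IsLocalization.mk' S x z) = (ψX x : M)
      rw [← hψS, ← map_mul, IsLocalization.mk'_spec'_mk, hψS]
    show θ (resX (z : X)) * θ (resX x * w') = _
    rw [← map_mul θ, mul_left_comm, map_mul, hw', mul_one, hθres, hθres]
    exact h3.symm

end Groth.Agent.HensEt88
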