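import Groth.Agent.HensEt88.StrictFrac
import Groth.Agent.S9262
import Groth.Agent.S0538

/-!
# Strict henselizations of discrete valuation rings
-/

set_option autoImplicit false
set_option linter.style.haveILetI false

namespace Groth.Agent.HensEt88

universe u

open IsLocalRing TensorProduct

variable (A : Type u) [CommRing A] [IsDomain A] [IsDiscreteValuationRing A]
  (S : Type u) [CommRing S] [IsLocalRing S] [Algebra A S] [IsLocalHom (algebraMap A S)]
  [Hensel.IsStrictHenselization A S]

include A in
theorem exists_dvr_strictHenselization : ∃ _ : IsDomain S, IsDiscreteValuationRing S := by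
  obtain ⟨H, _, _, _, _, _⟩ : ∃ (H : Type u) (_ : CommRing H) (_ : IsLocalRing H) (_ : Algebra A H)
      (_ : IsLocalHom (algebraMap A H)), Hensel.IsHenselization A H :=
    ⟨Groth.Agent.Hensel.LocalHenz A, inferInstance, inferInstance, inferInstance, inferInstance, inferInstance⟩
  exact ((S9262.result A H S).2).mp ⟨inferInstance, inferInstance⟩

variable [IsDomain S]

theorem injective_strictHenselization : Function.Injective (algebraMap A S) := by
  haveI := Groth.Agent.Hensel.faithfullyFlat_of_isStrictHenselization A S
  exact FaithfulSMul.algebraMap_injective A S

end Groth.Agent.HensEt88
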