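import Groth.Agent.HensEt88.EssEtStrict
import Mathlib.RingTheory.Etale.Field
import Mathlib.RingTheory.Unramified.Finite

/-!
# The fraction field of a strict henselization is separable algebraic
-/

set_option autoImplicit false
set_option linter.style.haveILetI false

namespace Groth.Agent.HensEt88

universe u

open IsLocalRing TensorProduct

variable (A : Type u) [CommRing A] [IsLocalRing A] [IsDomain A]
  (S : Type u) [CommRing S] [IsLocalRing S] [Algebra A S] [IsLocalHom (algebraMap A S)]
  [Hensel.IsStrictHenselization A S] [IsDomain S]

set_option maxHeartbeats 1000000 in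
/-- The fraction field of a strict henselization is separable algebraic over the fraction field. -/
theorem isSeparable_strictHenselization (K L : Type u) [Field K] [Algebra A K] [IsFractionRing A K]
    [Field L] [Algebra S L] [IsFractionRing S L] [Algebra K L] [Algebra A L] [IsScalarTower A K L]
    [IsScalarTower A S L] : Algebra.IsSeparable K L := by
  classical
  have key : ∀ s : S, IsSeparable K (algebraMap S L s) := by
    intro s
    obtain ⟨E, hsE, hloc, hlh, C, _, _, q, _, hC, -, ⟨e⟩⟩ := exists_essEtale_of_finset A S {s}
    obtain ⟨⟨c, t⟩, hct⟩ := IsLocalization.surj q.primeCompl (e ⟨s, hsE (Finset.mem_singleton_self s)⟩)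
    let χ : C →ₐ[A] L := (IsScalarTower.toAlgHom A S L).comp
      ((E.val.comp e.symm.toAlgHom).comp (IsScalarTower.toAlgHom A C (Localization.AtPrime q)))
    have hmul : algebraMap S L s * χ t = χ c := by
      show algebraMap S L s * algebraMap S L (e.symm (algebraMap C _ t) : E) = algebraMap S L (e.symm (algebraMap C _ c) : E)
      rw [← map_mul]
      refine congrArg _ ?_
      have h1 := congrArg e.symm hct
      rw [map_mul, AlgEquiv.symm_apply_apply] at h1
      exact congrArg Subtype.val h1
    have ht : χ t ≠ 0 := by
      have hu : IsUnit (e.symm (algebraMap C (Localization.AtPrime q) t)) :=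
        (IsLocalization.map_units (Localization.AtPrime q) t).map e.symm
      exact ((hu.map E.val).map (algebraMap S L)).ne_zero
    let φ : K ⊗[A] C →ₐ[K] L := Algebra.TensorProduct.lift (Algebra.ofId K L) χ fun _ _ => Commute.all _ _
    haveI : Module.Finite K (K ⊗[A] C) := Algebra.FormallyUnramified.finite_of_free K (K ⊗[A] C)
    haveI : Module.Finite K φ.range := Module.Finite.of_surjective φ.rangeRestrict.toLinearMap φ.rangeRestrict_surjective
    have hF : IsField φ.range := isField_of_isIntegral_of_isField' (R := K) (Field.toIsField K)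
    obtain ⟨F, hFeq⟩ : ∃ F : IntermediateField K L, F.toSubalgebra = φ.range :=
      ⟨φ.range.toIntermediateField' hF, rfl⟩
    let ψ : K ⊗[A] C →ₐ[K] F := φ.codRestrict F.toSubalgebra fun x => by rw [hFeq]; exact φ.mem_range_self x
    have hψ : Function.Surjective ψ := fun y => by
      obtain ⟨x, hx⟩ : (y : L) ∈ φ.range := hFeq ▸ y.2
      exact ⟨x, Subtype.ext hx⟩
    haveI : Algebra.FormallyUnramified K F := Algebra.FormallyUnramified.of_surjective ψ hψ
    haveI : Module.Finite K F := Module.Finite.of_surjective ψ.toLinearMap hψ
    haveI : Algebra.IsSeparable K F := Algebra.FormallyUnramified.isSeparable K F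
    have hmem : ∀ x : C, χ x ∈ F := fun x => by
      rw [← IntermediateField.mem_toSubalgebra, hFeq]
      exact ⟨(1 : K) ⊗ₜ x, by simp [φ]⟩
    have hs : algebraMap S L s ∈ F := by
      rw [eq_div_iff ht |>.mpr hmul]
      exact F.div_mem (hmem c) (hmem t)
    have h := Algebra.IsSeparable.isSeparable K (⟨_, hs⟩ : F)
    have h1 := minpoly.algHom_eq F.val F.val.injective (⟨_, hs⟩ : F)
    unfold IsSeparable at h ⊢
    rw [← h1] at h
    exact h
  refine ⟨fun x => ?_⟩
  obtain ⟨a, b, -, rfl⟩ := IsFractionRing.div_surjective (A := S) x
  exact mem_separableClosure_iff.mp ((separableClosure K L).div_mem (mem_separableClosure_iff.mpr (key a))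
    (mem_separableClosure_iff.mpr (key b)))

end Groth.Agent.HensEt88
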