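import Groth.Agent.HensEt88.DvrModel

/-!
# Unramified extensions stay unramified after a change of the base discrete valuation ring
-/

set_option autoImplicit false
set_option linter.style.haveILetI false

namespace Groth.Agent.HensEt88

universe u

open IsLocalRing TensorProduct

/-- A local model transports ramification data. -/
theorem unramified_of_model {B : Type u} [CommRing B] [IsLocalRing B] {S : Type u} [CommRing S] [IsLocalRing S]
    [Algebra B S] [IsLocalHom (algebraMap B S)] {W : Type u} [CommRing W] [IsLocalRing W] [Algebra B W]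
    [IsLocalHom (algebraMap B W)] (e : S ≃ₐ[B] W) (hmap : (maximalIdeal B).map (algebraMap B S) = maximalIdeal S)
    [Algebra.IsSeparable (ResidueField B) (ResidueField S)] :
    EtRam.IsWeaklyUnramified B W ∧ Algebra.IsSeparable (ResidueField B) (ResidueField W) := by
  refine ⟨?_, ?_⟩
  · show (maximalIdeal B).map (algebraMap B W) = maximalIdeal W
    rw [show algebraMap B W = e.toRingEquiv.toRingHom.comp (algebraMap B S) from (e.toAlgHom.comp_algebraMap).symm,
      ← Ideal.map_map, hmap]
    exact IsLocalRing.map_maximalIdeal_of_surjective _ e.surjective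
  · haveI : IsLocalHom (e : S →+* W) := ⟨fun x hx => (isUnit_map_iff e x).mp hx⟩
    let f : ResidueField S →ₐ[ResidueField B] ResidueField W :=
      AlgHom.mk (ResidueField.map (e : S →+* W)) fun x => by
        obtain ⟨b, rfl⟩ := residue_surjective x
        exact congrArg (residue W) (e.commutes b)
    exact AlgEquiv.Algebra.isSeparable (AlgEquiv.ofBijective f ⟨f.toRingHom.injective, fun y => by
      obtain ⟨w, rfl⟩ := residue_surjective y
      obtain ⟨s, rfl⟩ := e.surjective w
      exact ⟨residue S s, rfl⟩⟩)

variable {A K K' B L F : Type u} [CommRing A] [IsDomain A] [IsDiscreteValuationRing A] [Field K] [Algebra A K]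
  [IsFractionRing A K] [Field K'] [Algebra K K'] [FiniteDimensional K K'] [Algebra.IsSeparable K K']
  [Algebra A K'] [IsScalarTower A K K']
  [CommRing B] [IsDomain B] [IsDiscreteValuationRing B] [Algebra A B] [IsLocalHom (algebraMap A B)]
  [Field L] [Algebra B L] [IsFractionRing B L]
  [Field F] [Algebra L F] [Algebra K' F] [Algebra B F] [IsScalarTower B L F] [Algebra A F]
  [IsScalarTower A B F] [IsScalarTower A K' F]

include K in
/-- An unramified extension gives an unramified extension over a larger discrete valuation ring. -/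
theorem isUnramifiedExt_compositum (h : EtRam.IsUnramifiedExt A (algebraMap A K'))
    (hgen : Algebra.adjoin L (Set.range (algebraMap K' F)) = ⊤) :
    EtRam.IsUnramifiedExt B (algebraMap B F) := by
  intro W hW
  letI : Algebra B W := ((algebraMap B F).codRestrict W hW.1).toAlgebra
  intro _
  let V : ValuationSubring K' := W.comap (algebraMap K' F)
  have hAW : EtRam.Dominates A (algebraMap A F) W :=
    ⟨fun a => by rw [IsScalarTower.algebraMap_apply A B F]; exact hW.1 _,
     fun a ha => by rw [IsScalarTower.algebraMap_apply A B F]; exact hW.2 _ (map_nonunit (algebraMap A B) a ha)⟩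
  have hV : EtRam.Dominates A (algebraMap A K') V :=
    dominates_comap (algebraMap K' F) (IsScalarTower.algebraMap_eq A K' F) hAW
  letI : Algebra A V := ((algebraMap A K').codRestrict V hV.1).toAlgebra
  haveI : IsLocalHom (algebraMap A V) := Dominates.isLocalHom hV
  obtain ⟨hVm, hVs⟩ := h V hV
  let B' := integralClosure A K'
  let P := centre hV
  obtain ⟨e, he⟩ := exists_centre_equiv (K := K) hV
  haveI hPl : P.LiesOver (maximalIdeal A) := ⟨(centre_comap hV).symm⟩
  haveI : IsDiscreteValuationRing V :=
    isDiscreteValuationRing_of_dominates (K := K) (IsScalarTower.algebraMap_eq A K K' ▸ hV)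
  haveI : IsLocalHom (algebraMap A (Localization.AtPrime P)) := ⟨fun a ha => by
    rw [IsScalarTower.algebraMap_apply A B' (Localization.AtPrime P), IsLocalization.AtPrime.isUnit_to_map_iff _ P] at ha
    exact not_not.mp fun hu => ha ((SetLike.ext_iff.mp (centre_comap hV) a).mpr hu)⟩
  let eA : Localization.AtPrime P ≃ₐ[A] V := AlgEquiv.ofRingEquiv (f := e) fun a => Subtype.ext (by
    rw [IsScalarTower.algebraMap_apply A B' (Localization.AtPrime P), he]; rfl)
  haveI : Module.Finite A B' := IsIntegralClosure.finite A K K' B'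
  haveI : Algebra.EssFiniteType B' (Localization.AtPrime P) := .of_isLocalization _ P.primeCompl
  haveI : Algebra.EssFiniteType A (Localization.AtPrime P) := Algebra.EssFiniteType.comp A B' _
  have hmapP : (maximalIdeal A).map (algebraMap A (Localization.AtPrime P)) = maximalIdeal _ := by
    rw [show algebraMap A (Localization.AtPrime P) = eA.symm.toRingEquiv.toRingHom.comp (algebraMap A V) from
      eA.symm.toAlgHom.comp_algebraMap.symm, ← Ideal.map_map, hVm]
    exact IsLocalRing.map_maximalIdeal_of_surjective _ eA.symm.surjective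
  haveI : Algebra.IsSeparable (ResidueField A) (ResidueField (Localization.AtPrime P)) :=
    (unramified_of_model (W := Localization.AtPrime P) eA.symm hVm).2
  haveI : Algebra.FormallyUnramified A (Localization.AtPrime P) := Algebra.FormallyUnramified.of_map_maximalIdeal hmapP
  -- the tensor model
  let T := B ⊗[A] Localization.AtPrime P
  haveI : IsNoetherianRing T := Algebra.EssFiniteType.isNoetherianRing B T
  let φ : Localization.AtPrime P →ₐ[A] F :=
    (IsScalarTower.toAlgHom A K' F).comp ((AlgHom.mk V.subtype fun _ => rfl : V →ₐ[A] K').comp eA.toAlgHom)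
  let ψ₀ : T →ₐ[A] F := Algebra.TensorProduct.lift (IsScalarTower.toAlgHom A B F) φ fun _ _ => Commute.all _ _
  have hψW : ∀ t, ψ₀ t ∈ W := fun t => by
    induction t using TensorProduct.induction_on with
    | zero => rw [map_zero]; exact zero_mem _
    | add a b ha hb => rw [map_add]; exact add_mem ha hb
    | tmul b x => rw [Algebra.TensorProduct.lift_tmul]; exact mul_mem (hW.1 b) (eA x).2
  let ψW : T →+* W := ψ₀.toRingHom.codRestrict W hψW
  let q : Ideal T := (maximalIdeal W).comap ψW
  let S := Localization.AtPrime q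
  have hu : ∀ s : q.primeCompl, IsUnit (ψW s) := fun s => by_contra fun hn => s.2 hn
  let ψS : S →+* W := IsLocalization.lift hu
  have hψS : ∀ t, ψS (algebraMap T S t) = ψW t := IsLocalization.lift_eq hu
  haveI : IsLocalHom ψS := ⟨fun x hx => by
    obtain ⟨a, s, rfl⟩ := IsLocalization.exists_mk'_eq q.primeCompl x
    rw [IsLocalization.AtPrime.isUnit_mk'_iff]
    intro ha
    have h1 : ψW a = ψW s * ψS (IsLocalization.mk' S a s) := by
      rw [← hψS a, ← hψS (s : T), ← map_mul, IsLocalization.mk'_spec']
    exact (show ψW a ∈ maximalIdeal W from ha) (h1 ▸ (hu s).mul hx)⟩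
  have hψB : ∀ b : B, ψS (algebraMap B S b) = algebraMap B W b := fun b => by
    rw [IsScalarTower.algebraMap_apply B T S, hψS]
    refine Subtype.ext ?_
    show ψ₀ (b ⊗ₜ[A] 1) = _
    rw [Algebra.TensorProduct.lift_tmul, map_one, mul_one]
    rfl
  haveI : IsLocalHom (algebraMap B S) := ⟨fun b hb => by
    have h1 := hb.map ψS
    rw [hψB] at h1
    exact h1.of_map⟩
  haveI : IsNoetherianRing S := IsLocalization.isNoetherianRing q.primeCompl S inferInstance
  haveI : Algebra.FormallyUnramified B S := Algebra.FormallyUnramified.comp B T S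
  haveI : Algebra.EssFiniteType T S := .of_isLocalization S q.primeCompl
  haveI : Algebra.EssFiniteType B S := Algebra.EssFiniteType.comp B T S
  have hmapS : (maximalIdeal B).map (algebraMap B S) = maximalIdeal S :=
    Algebra.FormallyUnramified.map_maximalIdeal (R := B) (S := S)
  obtain ⟨ϖ, hϖ⟩ := IsDiscreteValuationRing.exists_irreducible B
  have ht : maximalIdeal S = Ideal.span {algebraMap B S ϖ} := by
    rw [← hmapS, hϖ.maximalIdeal_eq, Ideal.map_span, Set.image_singleton]
  have hϖF : algebraMap B F ϖ ≠ 0 := by
    rw [IsScalarTower.algebraMap_apply B L F]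
    exact (map_ne_zero _).mpr ((map_ne_zero_iff _ (IsFractionRing.injective B L)).mpr hϖ.ne_zero)
  let ψ : S →+* F := W.subtype.comp ψS
  have hψ0 : ψ (algebraMap B S ϖ) ≠ 0 := by
    show (ψS _ : F) ≠ 0
    rw [hψB]; exact hϖF
  have hrange : ∀ t, ψ₀ t ∈ ψ.range := fun t => ⟨algebraMap T S t, congrArg Subtype.val (hψS t)⟩
  have hfrac := exists_frac_of_adjoin (B := B) (L := L) ψ (fun b => ⟨algebraMap B S b, by
      show (ψS _ : F) = _
      rw [hψB]; exact IsScalarTower.algebraMap_apply B L F b⟩)
    (Set.range fun b : B' => algebraMap K' F (b : K')) (by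
      rintro _ ⟨b, rfl⟩
      obtain ⟨s, hs⟩ := hrange ((1 : B) ⊗ₜ[A] algebraMap B' (Localization.AtPrime P) b)
      refine ⟨s, hs.trans ?_⟩
      rw [Algebra.TensorProduct.lift_tmul, map_one, one_mul]
      show algebraMap K' F ((e (algebraMap _ _ b) : V) : K') = _
      rw [he]) (by
      refine top_le_iff.mp (hgen ▸ Algebra.adjoin_le ?_)
      rintro _ ⟨x, rfl⟩
      haveI := IsIntegralClosure.isLocalization A K K' B'
      obtain ⟨⟨b, ⟨_, a, ha, rfl⟩⟩, hx⟩ := IsLocalization.surj (Algebra.algebraMapSubmonoid B' (nonZeroDivisors A)) x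
      have ha0 : algebraMap A F a ≠ 0 := by
        rw [IsScalarTower.algebraMap_apply A K' F, IsScalarTower.algebraMap_apply A K K']
        exact (map_ne_zero _).mpr ((map_ne_zero _).mpr (IsFractionRing.to_map_ne_zero_of_mem_nonZeroDivisors ha))
      have h1 : algebraMap K' F x = algebraMap L F (algebraMap B L (algebraMap A B a))⁻¹ * algebraMap K' F (b : K') := by
        rw [map_inv₀, ← IsScalarTower.algebraMap_apply B L F, ← IsScalarTower.algebraMap_apply A B F,
          eq_inv_mul_iff_mul_eq₀ ha0, mul_comm, IsScalarTower.algebraMap_apply A K' F, ← map_mul]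
        exact congrArg (algebraMap K' F) hx
      show algebraMap K' F x ∈ (Algebra.adjoin L _ : Subalgebra L F)
      rw [h1]
      exact mul_mem (Subalgebra.algebraMap_mem _ _) (Algebra.subset_adjoin ⟨b, rfl⟩))
  have hloc : IsLocalHom (ψ.codRestrict W fun s => (ψS s).2) := (inferInstance : IsLocalHom ψS)
  have hbij := @bijective_codRestrict_of_model S _ _ _ F _ _ ht ψ hψ0 W (fun s => (ψS s).2) hloc hfrac
  let eS : S ≃ₐ[B] W := AlgEquiv.ofBijective (AlgHom.mk ψS hψB) hbij
  exact unramified_of_model (S := S) eS hmapS

end Groth.Agent.HensEt88
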