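import Groth.Agent.HensEt88.TameRoot
import Groth.Agent.HensEt88.UnramCompositum
import Groth.Agent.S1990

/-!
# Tame extensions stay tame after a change of the base discrete valuation ring
-/

set_option autoImplicit false
set_option linter.style.haveILetI false

namespace Groth.Agent.HensEt88

universe u

open IsLocalRing Polynomial TensorProduct

theorem finite_separable_of_gen (k E k' F : Type u) [Field k] [Field E] [Field k'] [Field F] [Algebra k E]
    [Algebra k F] [Algebra E F] [IsScalarTower k E F] [Algebra k k'] [Algebra k' F] [IsScalarTower k k' F]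
    [FiniteDimensional k k'] [Algebra.IsSeparable k k'] (h : Algebra.adjoin E (Set.range (algebraMap k' F)) = ⊤) :
    FiniteDimensional E F ∧ Algebra.IsSeparable E F := by
  let φ : E ⊗[k] k' →ₐ[E] F :=
    Algebra.TensorProduct.lift (Algebra.ofId E F) (IsScalarTower.toAlgHom k k' F) fun _ _ => Commute.all _ _
  have hφ : Function.Surjective φ := by
    rw [← AlgHom.range_eq_top, ← top_le_iff, ← h, Algebra.adjoin_le_iff]
    rintro _ ⟨x, rfl⟩
    exact ⟨1 ⊗ₜ x, by simp [φ]⟩
  refine ⟨Module.Finite.of_surjective φ.toLinearMap hφ, ?_⟩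
  haveI : Algebra.IsSeparable E (IntermediateField.adjoin E (Set.range (algebraMap k' F))) := by
    rw [IntermediateField.isSeparable_adjoin_iff_isSeparable]
    rintro _ ⟨x, rfl⟩
    exact IsSeparable.tower_top E (F := k) ((Algebra.IsSeparable.isSeparable k x).map (IsScalarTower.toAlgHom k k' F) (algebraMap k' F).injective)
  have htop : IntermediateField.adjoin E (Set.range (algebraMap k' F)) = ⊤ := by
    refine top_le_iff.mp fun y _ => IntermediateField.algebra_adjoin_le_adjoin E _ ?_
    rw [h]; trivial
  exact AlgEquiv.Algebra.isSeparable ((IntermediateField.equivOfEq htop).trans IntermediateField.topEquiv)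

theorem isTamelyRamified_of_isUnramifiedExt {A : Type u} [CommRing A] [IsDomain A] [IsDiscreteValuationRing A]
    {K L : Type u} [Field K] [Algebra A K] [IsFractionRing A K] [Field L] [Algebra K L] [FiniteDimensional K L]
    [Algebra.IsSeparable K L] (h : EtRam.IsUnramifiedExt A ((algebraMap K L).comp (algebraMap A K))) :
    EtRam.IsTamelyRamified A ((algebraMap K L).comp (algebraMap A K)) := by
  intro V hV
  letI : Algebra A V := (RingHom.codRestrict ((algebraMap K L).comp (algebraMap A K)) V hV.1).toAlgebra
  intro _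
  haveI := isDiscreteValuationRing_of_dominates hV
  obtain ⟨h1, h2⟩ := h V hV
  refine ⟨h2, fun p hp _ hd => ?_⟩
  rw [(isWeaklyUnramified_iff A V (map_maximalIdeal_ne_bot hV)).mp h1] at hd
  exact hp.not_dvd_one hd

/-- An extension by an `e`-th root, `e` prime to the residue characteristic, is tame. -/
theorem isTamelyRamified_root {B L : Type u} [CommRing B] [IsDomain B] [IsDiscreteValuationRing B] [Field L]
    [Algebra B L] [IsFractionRing B L] {M : Type u} [Field M] [Algebra L M] [FiniteDimensional L M]
    [Algebra.IsSeparable L M] {b : B} (hb : b ≠ 0) {e : ℕ} (he : 0 < e) (hek : (e : ResidueField B) ≠ 0) (ζ : M)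
    (hζ : ζ ^ e = algebraMap L M (algebraMap B L b)) (hgen : Algebra.adjoin L {ζ} = ⊤) :
    EtRam.IsTamelyRamified B ((algebraMap L M).comp (algebraMap B L)) := by
  intro W hW
  letI : Algebra B W := (RingHom.codRestrict ((algebraMap L M).comp (algebraMap B L)) W hW.1).toAlgebra
  intro _
  haveI := isDiscreteValuationRing_of_dominates hW
  letI : Algebra B M := ((algebraMap L M).comp (algebraMap B L)).toAlgebra
  haveI : IsScalarTower B L M := .of_algebraMap_eq' rfl
  obtain ⟨t, ht⟩ := IsDiscreteValuationRing.exists_irreducible B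
  obtain ⟨n, u, rfl⟩ := IsDiscreteValuationRing.eq_unit_mul_pow_irreducible hb ht
  obtain ⟨hsep, e', he', hmap⟩ := rootExt (L := L) ht u n e he hek ζ hζ hgen W hW
  refine ⟨hsep, fun p _ hc => ?_⟩
  rw [Ideal.ramificationIdx'_spec hmap.le (by
    rw [hmap]
    exact fun hle => (Ideal.pow_right_strictAnti _ (IsDiscreteValuationRing.not_a_field W)
      (maximalIdeal.isMaximal W).ne_top (Nat.lt_succ_self _)).not_ge hle)]
  exact fun hd => not_dvd_of_natCast_ne_zero hek p hc (he' ▸ hd.mul_right _)

variable {A K K' B L F : Type u} [CommRing A] [IsDomain A] [IsDiscreteValuationRing A] [Field K] [Algebra A K]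
  [IsFractionRing A K] [Field K'] [Algebra K K'] [FiniteDimensional K K'] [Algebra.IsSeparable K K']
  [Algebra A K'] [IsScalarTower A K K']
  [CommRing B] [IsDomain B] [IsDiscreteValuationRing B] [Algebra A B] [IsLocalHom (algebraMap A B)]
  [Field L] [Algebra B L] [IsFractionRing B L] [Algebra K L] [Algebra A L] [IsScalarTower A K L] [IsScalarTower A B L]
  [Field F] [Algebra L F] [Algebra K' F] [Algebra K F] [IsScalarTower K L F] [IsScalarTower K K' F]

/-- A tamely ramified extension gives a tamely ramified extension over a larger discrete valuation ring. -/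
theorem isTamelyRamified_compositum
    (h : EtRam.IsTamelyRamified A ((algebraMap K K').comp (algebraMap A K)))
    (hgen : Algebra.adjoin L (Set.range (algebraMap K' F)) = ⊤) :
    EtRam.IsTamelyRamified B ((algebraMap L F).comp (algebraMap B L)) := by
  classical
  obtain ⟨hfdF, hsepF⟩ := finite_separable_of_gen K L K' F hgen
  obtain ⟨π, hπi⟩ := IsDiscreteValuationRing.exists_irreducible A
  have hπ : maximalIdeal A = Ideal.span {π} := hπi.maximalIdeal_eq
  obtain ⟨e, he, hek, hdiv⟩ := exists_uniform_index A K h
  obtain ⟨L', fL', aKL', aA', ι, hfdL', hsepL', hcomp, hun⟩ := exists_unramified_over_root h hπ he hek hdiv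
  haveI := hfdL'
  haveI := hsepL'
  letI : Algebra K' L' := ι.toRingHom.toAlgebra
  haveI : IsScalarTower K K' L' := .of_algebraMap_eq fun x => (ι.commutes x).symm
  haveI : FiniteDimensional K' L' := FiniteDimensional.right K K' L'
  haveI : Algebra.IsSeparable K' L' := Algebra.isSeparable_tower_top_of_isSeparable K K' L'
  -- a compositum of `F` and `L'`
  obtain ⟨hnoe, hsplit, hlocA, hmax⟩ := adjoinRoot_local hπ he
  let T := F ⊗[K'] L'
  obtain ⟨mT, hmT⟩ := Ideal.exists_maximal T
  let F₂ := T ⧸ mT
  letI : Field F₂ := Ideal.Quotient.field mT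
  let jL : L' →+* F₂ := (Ideal.Quotient.mk mT).comp (Algebra.TensorProduct.includeRight : L' →ₐ[K'] T).toRingHom
  letI : Algebra L' F₂ := jL.toAlgebra
  haveI : IsScalarTower L F F₂ := .of_algebraMap_eq fun _ => rfl
  haveI : IsScalarTower K F F₂ := .of_algebraMap_eq fun _ => rfl
  haveI : IsScalarTower K L F₂ := .of_algebraMap_eq fun x => congrArg (algebraMap F F₂) (IsScalarTower.algebraMap_apply K L F x)
  have hK' : ∀ x : K', algebraMap F F₂ (algebraMap K' F x) = algebraMap L' F₂ (algebraMap K' L' x) := fun x => by
    show Ideal.Quotient.mk mT (algebraMap K' F x ⊗ₜ[K'] (1 : L')) = Ideal.Quotient.mk mT ((1 : F) ⊗ₜ[K'] algebraMap K' L' x)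
    congr 1
    rw [Algebra.algebraMap_eq_smul_one, Algebra.algebraMap_eq_smul_one, TensorProduct.smul_tmul]
  haveI : IsScalarTower K L' F₂ := .of_algebraMap_eq fun x => by
    rw [IsScalarTower.algebraMap_apply K K' L', ← hK', ← IsScalarTower.algebraMap_apply K K' F]
    rfl
  have hF₂ : Algebra.adjoin L (Set.range (algebraMap L' F₂)) = ⊤ := by
    refine top_le_iff.mp ?_
    rintro y -
    obtain ⟨t, rfl⟩ := Ideal.Quotient.mk_surjective y
    induction t using TensorProduct.induction_on with
    | zero => rw [map_zero]; exact zero_mem _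
    | add a b ha hb => rw [map_add]; exact add_mem ha hb
    | tmul f l =>
      rw [show f ⊗ₜ[K'] l = (f ⊗ₜ[K'] (1 : L')) * ((1 : F) ⊗ₜ[K'] l) by simp, map_mul]
      refine mul_mem ?_ (Algebra.subset_adjoin ⟨l, rfl⟩)
      show algebraMap F F₂ f ∈ (Algebra.adjoin L (Set.range (algebraMap L' F₂)) : Subalgebra L F₂)
      have hf : f ∈ Algebra.adjoin L (Set.range (algebraMap K' F)) := hgen ▸ Algebra.mem_top
      induction hf using Algebra.adjoin_induction with
      | mem x hx => obtain ⟨x, rfl⟩ := hx; rw [hK']; exact Algebra.subset_adjoin ⟨_, rfl⟩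
      | algebraMap r => exact Subalgebra.algebraMap_mem _ r
      | add x y _ _ hx hy => rw [map_add]; exact add_mem hx hy
      | mul x y _ _ hx hy => rw [map_mul]; exact mul_mem hx hy
  obtain ⟨hfd₂, hsep₂⟩ := finite_separable_of_gen K L L' F₂ hF₂
  let A' := AdjoinRoot (X ^ e - C π : A[X])
  let r : A' := AdjoinRoot.root _
  have hcomp' : ∀ a, algebraMap A' L' (AdjoinRoot.of _ a) = algebraMap K L' (algebraMap A K a) := RingHom.congr_fun hcomp
  let ζ : F₂ := algebraMap L' F₂ (algebraMap A' L' r)
  have hζ : ζ ^ e = algebraMap L F₂ (algebraMap B L (algebraMap A B π)) := by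
    rw [← map_pow, ← map_pow, root_pow_eq, hcomp', ← IsScalarTower.algebraMap_apply K L' F₂,
      IsScalarTower.algebraMap_apply K L F₂, ← IsScalarTower.algebraMap_apply A K L, IsScalarTower.algebraMap_apply A B L]
  let M := IntermediateField.adjoin L {ζ}
  let ζM : M := ⟨ζ, IntermediateField.mem_adjoin_simple_self L ζ⟩
  have hgenM : Algebra.adjoin L {ζM} = ⊤ := by
    have h1 := (IntermediateField.adjoin.powerBasis (IsIntegral.of_finite L ζ)).adjoin_gen_eq_top
    rw [IntermediateField.adjoin.powerBasis_gen] at h1
    exact h1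
  have hekB : (e : ResidueField B) ≠ 0 := by
    rw [← map_natCast (algebraMap (ResidueField A) (ResidueField B)), Ne, map_eq_zero]; exact hek
  have hπB : algebraMap A B π ≠ 0 := fun h0 => hπi.ne_zero (IsFractionRing.injective A K ((algebraMap K L).injective (by
    rw [← IsScalarTower.algebraMap_apply A K L, IsScalarTower.algebraMap_apply A B L, h0]; simp)))
  have htM : EtRam.IsTamelyRamified B ((algebraMap L M).comp (algebraMap B L)) :=
    isTamelyRamified_root hπB he hekB ζM (Subtype.ext hζ) hgenM
  -- the top layer is unramified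
  have hAinj : Function.Injective (algebraMap A' L') := by
    refine injective_of_map_ne_zero hmax (algebraMap A' L') fun h0 => hπi.ne_zero ?_
    have h1 := hcomp' π
    rw [← root_pow_eq, map_pow, h0, zero_pow he.ne'] at h1
    exact IsFractionRing.injective A K ((algebraMap K L').injective (by rw [← h1]; simp))
  obtain ⟨hdom, hdvr⟩ := isDiscreteValuationRing_of_map_ne_zero hmax (algebraMap A' L') ((map_ne_zero_iff _ hAinj).mpr
    fun h0 => hπi.ne_zero (IsFractionRing.injective A K ((algebraMap K L').injective (by
      rw [← hcomp', ← root_pow_eq, show AdjoinRoot.root (X ^ e - C π : A[X]) = 0 from h0, zero_pow he.ne']; simp))))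
  haveI := hdom
  haveI := hdvr
  have htop : ∀ (W : ValuationSubring M), EtRam.Dominates B ((algebraMap L M).comp (algebraMap B L)) W →
      EtRam.IsTamelyRamified W ((algebraMap M F₂).comp W.subtype) := by
    intro W hW
    haveI := isDiscreteValuationRing_of_dominates hW
    let gM : A' →+* M := AdjoinRoot.lift ((algebraMap L M).comp (algebraMap A L)) ζM (by
      refine (eval₂_sub _).trans ?_
      rw [eval₂_X_pow, eval₂_C, sub_eq_zero]
      refine Subtype.ext (hζ.trans ?_)
      rw [← IsScalarTower.algebraMap_apply A B L]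
      rfl)
    have hgM : ∀ a, algebraMap M F₂ (gM a) = algebraMap L' F₂ (algebraMap A' L' a) := by
      intro a
      refine RingHom.congr_fun (f := (algebraMap M F₂).comp gM) (g := (algebraMap L' F₂).comp (algebraMap A' L')) ?_ a
      refine AdjoinRoot.ringHom_ext (RingHom.ext fun c => ?_) ?_
      · show algebraMap M F₂ (gM (AdjoinRoot.of _ c)) = algebraMap L' F₂ (algebraMap A' L' (AdjoinRoot.of _ c))
        rw [show gM (AdjoinRoot.of _ c) = algebraMap L M (algebraMap A L c) from AdjoinRoot.lift_of _,
          hcomp', ← IsScalarTower.algebraMap_apply K L' F₂, IsScalarTower.algebraMap_apply K L F₂,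
          ← IsScalarTower.algebraMap_apply A K L]
        rfl
      · show algebraMap M F₂ (gM (AdjoinRoot.root _)) = _
        rw [show gM (AdjoinRoot.root _) = ζM from AdjoinRoot.lift_root _]
        rfl
    have hrW : W.valuation (gM r) < 1 := by
      have h1 := hW.2 (algebraMap A B π) (map_nonunit (algebraMap A B) π hπi.not_isUnit)
      have h2 : gM r ^ e = algebraMap L M (algebraMap B L (algebraMap A B π)) := by
        rw [← map_pow gM r e, root_pow_eq, ← IsScalarTower.algebraMap_apply A B L]
        exact AdjoinRoot.lift_of _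
      rw [RingHom.comp_apply, ← h2, map_pow] at h1
      exact lt_of_not_ge fun h2 => absurd h1 (not_lt.mpr (one_le_pow₀ h2))
    have hmemW : ∀ a, gM a ∈ W := fun a => by
      obtain ⟨P, rfl⟩ := AdjoinRoot.mk_surjective a
      induction P using Polynomial.induction_on' with
      | add p q hp hq => rw [map_add, map_add]; exact add_mem hp hq
      | monomial n c =>
        rw [← C_mul_X_pow_eq_monomial, map_mul, map_mul, map_pow, map_pow, AdjoinRoot.mk_C, AdjoinRoot.mk_X]
        refine mul_mem ?_ (pow_mem ((W.valuation_le_one_iff _).mp hrW.le) n)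
        rw [show gM (AdjoinRoot.of _ c) = algebraMap L M (algebraMap A L c) from AdjoinRoot.lift_of _,
          IsScalarTower.algebraMap_apply A B L]
        exact hW.1 _
    letI : Algebra A' W := (RingHom.codRestrict gM W hmemW).toAlgebra
    haveI : IsLocalHom (algebraMap A' W) := by
      refine Dominates.isLocalHom (g := gM) ⟨hmemW, fun a ha => ?_⟩
      rw [hmax, Ideal.mem_span_singleton'] at ha
      obtain ⟨c, rfl⟩ := ha
      rw [map_mul, map_mul, mul_comm]
      exact mul_lt_one_of_lt_of_le hrW ((W.valuation_le_one_iff _).mpr (hmemW c))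
    let K₂ := FractionRing A'
    letI : Algebra K₂ L' := (IsFractionRing.lift hAinj).toAlgebra
    haveI : IsScalarTower A' K₂ L' := .of_algebraMap_eq fun a => (IsFractionRing.lift_algebraMap hAinj a).symm
    have hAK₂ : Function.Injective ((algebraMap A' K₂).comp (AdjoinRoot.of (X ^ e - C π : A[X]))) := fun a b hab =>
      IsFractionRing.injective A K ((algebraMap K L').injective (by
        rw [← hcomp', ← hcomp', IsFractionRing.injective A' K₂ hab]; rfl))
    letI : Algebra K K₂ := (IsFractionRing.lift hAK₂).toAlgebra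
    haveI : IsScalarTower K K₂ L' := .of_algebraMap_eq' (IsFractionRing.ringHom_ext fun a => by
      show algebraMap K L' _ = algebraMap K₂ L' (IsFractionRing.lift hAK₂ (algebraMap A K a))
      rw [IsFractionRing.lift_algebraMap, RingHom.comp_apply, ← IsScalarTower.algebraMap_apply A' K₂ L', hcomp'])
    haveI : FiniteDimensional K₂ L' := FiniteDimensional.right K K₂ L'
    haveI : Algebra.IsSeparable K₂ L' := Algebra.isSeparable_tower_top_of_isSeparable K K₂ L'
    letI : Algebra W F₂ := ((algebraMap M F₂).comp W.subtype).toAlgebra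
    haveI : IsScalarTower W M F₂ := .of_algebraMap_eq' rfl
    letI : Algebra A' F₂ := ((algebraMap L' F₂).comp (algebraMap A' L')).toAlgebra
    haveI : IsScalarTower A' L' F₂ := .of_algebraMap_eq' rfl
    haveI : IsScalarTower A' W F₂ := .of_algebraMap_eq fun a => (hgM a).symm
    haveI : Algebra.IsSeparable M F₂ := Algebra.isSeparable_tower_top_of_isSeparable L M F₂
    haveI : FiniteDimensional M F₂ := FiniteDimensional.right L M F₂
    have hgen₂ : Algebra.adjoin M (Set.range (algebraMap L' F₂)) = ⊤ := by
      refine top_le_iff.mp ?_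
      rintro y -
      have hy : y ∈ Algebra.adjoin L (Set.range (algebraMap L' F₂)) := hF₂ ▸ Algebra.mem_top
      exact Algebra.adjoin_le (S := (Algebra.adjoin M (Set.range (algebraMap L' F₂))).restrictScalars L)
        Algebra.subset_adjoin hy
    exact isTamelyRamified_of_isUnramifiedExt (A := W) (K := M) (L := F₂)
      (isUnramifiedExt_compositum (K := K₂) (K' := L') (L := M) hun hgen₂)
  have hF₂t : EtRam.IsTamelyRamified B ((algebraMap L F₂).comp (algebraMap B L)) := (S1990.result B L M F₂).1 htM htop
  exact (S1989.result B L F F₂).1 hF₂t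

end Groth.Agent.HensEt88
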