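import Groth.Agent.HensEt88.EtaleModel
import Groth.Agent.DescLib.EtaleFibre
import Groth.Prelude.Def_FEt
import Groth.Prelude.Def_PiSp

/-!
# Tame ramification of finite étale covers at places of residue fields
-/

set_option autoImplicit false
set_option linter.style.haveILetI false
set_option backward.isDefEq.respectTransparency.types false

namespace Groth.Agent.HensEt88

universe u

open AlgebraicGeometry CategoryTheory CategoryTheory.Limits

/-- A finite étale morphism is unramified at every place with a centre on the base. -/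
theorem isTamelyRamified_of_centre {X Y : Scheme.{u}} (f : Y ⟶ X) [IsFinite f] [Etale f] (y : Y)
    (A : ValuationSubring (X.residueField (f.base y))) [IsDiscreteValuationRing A]
    (t : Spec (CommRingCat.of A) ⟶ X)
    (ht : Spec.map (CommRingCat.ofHom A.subtype) ≫ t = X.fromSpecResidueField (f.base y)) :
    EtRam.IsTamelyRamified A ((f.residueFieldMap y).hom.comp A.subtype) := by
  classical
  let K := X.residueField (f.base y)
  let L := Y.residueField y
  let g : A →+* L := (f.residueFieldMap y).hom.comp A.subtype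
  letI : Algebra K L := (f.residueFieldMap y).hom.toAlgebra
  letI : Algebra A L := g.toAlgebra
  haveI : IsScalarTower A K L := .of_algebraMap_eq' rfl
  let P := pullback f t
  haveI : IsAffine P := isAffine_of_isAffineHom (pullback.snd f t)
  let S := Γ(P, ⊤)
  let α : CommRingCat.of A ⟶ S := (Scheme.ΓSpecIso _).inv ≫ (pullback.snd f t).appTop
  let pt : Spec L ⟶ P := pullback.lift (Y.fromSpecResidueField y) (Spec.map (CommRingCat.ofHom g)) (by
    rw [← Scheme.Hom.SpecMap_residueFieldMap_fromSpecResidueField, ← ht, ← Category.assoc, ← Spec.map_comp]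
    rfl)
  let φ : S ⟶ L := Spec.preimage (pt ≫ P.isoSpec.hom)
  have hφ : Spec.map φ = pt ≫ P.isoSpec.hom := Spec.map_preimage _
  have hnat : P.isoSpec.hom ≫ Spec.map α = pullback.snd f t := by
    show P.toSpecΓ ≫ Spec.map ((Scheme.ΓSpecIso _).inv ≫ (pullback.snd f t).appTop) = _
    rw [Spec.map_comp, ← Scheme.toSpecΓ_naturality_assoc, toSpecΓ_SpecMap_ΓSpecIso_inv, Category.comp_id]
  have hαφ : α ≫ φ = CommRingCat.ofHom g := Spec.map_injective (by
    rw [Spec.map_comp, hφ, Category.assoc, hnat]
    exact pullback.lift_snd _ _ _)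
  letI : Algebra A S := α.hom.toAlgebra
  have hbij : Function.Bijective (Scheme.ΓSpecIso (CommRingCat.of A)).inv.hom :=
    (Scheme.ΓSpecIso (CommRingCat.of A)).symm.commRingCatIsoToRingEquiv.bijective
  haveI : Module.Finite A S := by
    rw [← RingHom.finite_algebraMap]
    have h := (HasAffineProperty.iff_of_isAffine (P := @IsFinite) (f := pullback.snd f t)).mp inferInstance
    exact h.2.comp (RingHom.Finite.of_surjective _ hbij.2)
  haveI : Algebra.Etale A S := by
    rw [← RingHom.etale_algebraMap]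
    exact RingHom.Etale.respectsIso.2 _ (Scheme.ΓSpecIso (CommRingCat.of A)).symm.commRingCatIsoToRingEquiv
      ((HasRingHomProperty.iff_of_isAffine (P := @Etale) (f := pullback.snd f t)).mp inferInstance)
  let φA : S →ₐ[A] L := { toRingHom := φ.hom, commutes' := fun a => ConcreteCategory.congr_hom hαφ a }
  refine isTamelyRamified_of_etale_model K S φA ?_
  have hint : ∀ x ∈ Set.range φA, IsAlgebraic K x := by
    rintro _ ⟨s, rfl⟩
    exact ((Algebra.IsIntegral.isIntegral (R := A) s).map φA).tower_top.isAlgebraic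
  let E := IntermediateField.adjoin K (Set.range φA)
  rw [← IntermediateField.adjoin_toSubalgebra_of_isAlgebraic hint]
  refine (congrArg IntermediateField.toSubalgebra (?_ : E = ⊤)).trans IntermediateField.top_toSubalgebra
  rw [eq_top_iff]
  intro c _
  let φE : S ⟶ CommRingCat.of E := CommRingCat.ofHom (φ.hom.codRestrict E fun s =>
    IntermediateField.subset_adjoin K _ ⟨s, rfl⟩)
  let incl : CommRingCat.of E ⟶ L := CommRingCat.ofHom E.val.toRingHom
  let j : Spec (CommRingCat.of E) ⟶ Y := Spec.map φE ≫ P.isoSpec.inv ≫ pullback.fst f t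
  have hj : Spec.map incl ≫ j = Y.fromSpecResidueField y := by
    show Spec.map incl ≫ Spec.map φE ≫ P.isoSpec.inv ≫ pullback.fst f t = _
    rw [← Category.assoc, ← Spec.map_comp, show φE ≫ incl = φ from rfl, hφ, Category.assoc, Iso.hom_inv_id_assoc,
      pullback.lift_fst]
  obtain ⟨⟨y', ψ⟩, hψ⟩ := (Scheme.SpecToEquivOfField E Y).symm.surjective j
  change Spec.map ψ ≫ Y.fromSpecResidueField y' = j at hψ
  have hy : y' = y := by
    have h1 : (Spec.map incl ≫ Spec.map ψ ≫ Y.fromSpecResidueField y') (IsLocalRing.closedPoint L) =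
        Y.fromSpecResidueField y (IsLocalRing.closedPoint L) := by rw [hψ, hj]
    rw [Scheme.Hom.comp_apply, Scheme.Hom.comp_apply, Scheme.fromSpecResidueField_apply] at h1
    exact h1.trans (Scheme.fromSpecResidueField_apply y _)
  subst hy
  rw [← hψ, ← Category.assoc, ← Spec.map_comp] at hj
  have hid : ψ ≫ incl = 𝟙 _ := Spec.map_injective (by
    rw [Spec.map_id, ← cancel_mono (Y.fromSpecResidueField _), Category.id_comp, hj])
  have h1 : ((ψ.hom c : E) : L) = c := ConcreteCategory.congr_hom hid c
  exact h1 ▸ (ψ.hom c).2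

/-- A connected Galois cover of degree invertible on the residue field of the place is tame. -/
theorem isTamelyRamified_of_galoisCover {X : Scheme.{u}} (Z : FEt.Cat X) (hZ : PiSp.IsGaloisCover Z) (z : Z.left)
    (A : ValuationSubring (X.residueField (Z.hom.base z))) [IsDiscreteValuationRing A]
    (hn : (Nat.card (Aut Z) : IsLocalRing.ResidueField A) ≠ 0) :
    EtRam.IsTamelyRamified A ((Z.hom.residueFieldMap z).hom.comp A.subtype) := by
  classical
  let f : Z.left ⟶ X := Z.hom
  haveI : IsFinite f := Z.prop.1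
  haveI : Etale f := Z.prop.2
  let K := X.residueField (f.base z)
  let L := Z.left.residueField z
  letI : Algebra K L := (f.residueFieldMap z).hom.toAlgebra
  letI : Algebra A L := ((f.residueFieldMap z).hom.comp A.subtype).toAlgebra
  haveI : IsScalarTower A K L := .of_algebraMap_eq' rfl
  haveI : Algebra.Etale K L := by
    rw [← RingHom.etale_algebraMap]
    exact (HasRingHomProperty.Spec_iff (P := @Etale)).mp (DescLib.etale_SpecMap_residueFieldMap f z)
  haveI : Module.Finite K L := Algebra.FormallyUnramified.finite_of_free _ _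
  haveI : Algebra.IsSeparable K L := Algebra.FormallyUnramified.isSeparable _ _
  haveI : Finite (Aut Z) := Nat.finite_of_card_ne_zero fun h => hn (by rw [h, Nat.cast_zero])
  let e := Z.left.fromSpecResidueField z
  -- the stabiliser and the induced automorphisms
  let H : Subgroup (Aut Z) :=
    { carrier := {g | g.hom.left.base z = z}
      one_mem' := rfl
      mul_mem' := fun {g h} hg hh => by
        show g.hom.left.base (h.hom.left.base z) = z
        rw [hh, hg]
      inv_mem' := fun {g} hg => by
        show g.inv.left.base z = z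
        have h1 : (g.hom ≫ g.inv).left.base z = z := by rw [Iso.hom_inv_id]; rfl
        have h2 : g.inv.left.base (g.hom.left.base z) = z := h1
        rwa [hg] at h2 }
  have hex : ∀ g : H, ∃ σ : L ⟶ L, Spec.map σ ≫ e = e ≫ g.1.hom.left := fun g => by
    obtain ⟨⟨y', ψ⟩, hψ⟩ := (Scheme.SpecToEquivOfField L Z.left).symm.surjective (e ≫ g.1.hom.left)
    change Spec.map ψ ≫ Z.left.fromSpecResidueField y' = e ≫ g.1.hom.left at hψ
    have hy : y' = z := by
      have h1 : (Spec.map ψ ≫ Z.left.fromSpecResidueField y') (IsLocalRing.closedPoint L) =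
          g.1.hom.left (e (IsLocalRing.closedPoint L)) := by rw [hψ]; rfl
      rw [Scheme.Hom.comp_apply, Scheme.fromSpecResidueField_apply] at h1
      refine h1.trans ((congrArg g.1.hom.left ?_).trans g.2)
      exact Scheme.fromSpecResidueField_apply z _
    subst hy
    exact ⟨ψ, hψ⟩
  choose σ hσ using hex
  have hσK : ∀ g, f.residueFieldMap z ≫ σ g = f.residueFieldMap z := fun g => Spec.map_injective (by
    rw [Spec.map_comp, ← cancel_mono (X.fromSpecResidueField _), Category.assoc,
      Scheme.Hom.SpecMap_residueFieldMap_fromSpecResidueField]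
    show Spec.map (σ g) ≫ e ≫ f = e ≫ f
    rw [reassoc_of% hσ g, Over.w g.1.hom.hom])
  have hσmul : ∀ g h : H, σ (g * h) = σ g ≫ σ h := fun g h => Spec.map_injective (by
    rw [← cancel_mono e, hσ, Spec.map_comp, Category.assoc, hσ, reassoc_of% hσ h]
    rfl)
  let τ : H → (L →ₐ[K] L) := fun g =>
    { toRingHom := (σ g).hom, commutes' := fun c => ConcreteCategory.congr_hom (hσK g) c }
  have hτb : ∀ g, Function.Bijective (τ g) := fun g =>
    ⟨(τ g).toRingHom.injective, LinearMap.surjective_of_injective (f := (τ g).toLinearMap) (τ g).toRingHom.injective⟩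
  let φ : H →* (L ≃ₐ[K] L) := MonoidHom.mk' (fun g => AlgEquiv.ofBijective (τ g⁻¹) (hτb _)) fun g h => by
    refine AlgEquiv.ext fun c => ?_
    show (σ (g * h)⁻¹).hom c = (σ g⁻¹).hom ((σ h⁻¹).hom c)
    rw [mul_inv_rev, hσmul]
    rfl
  -- the embeddings
  let Ω := AlgebraicClosure L
  let ι : L ⟶ CommRingCat.of Ω := CommRingCat.ofHom (algebraMap L Ω)
  have hsurj : ∀ ψ : L →ₐ[K] Ω, ∃ g : H, ∀ c, ψ c = algebraMap L Ω (τ g c) := by
    intro ψ
    let ψ' : L ⟶ CommRingCat.of Ω := CommRingCat.ofHom ψ.toRingHom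
    have hK : f.residueFieldMap z ≫ ψ' = f.residueFieldMap z ≫ ι := by
      refine CommRingCat.hom_ext (RingHom.ext fun c => ?_)
      show ψ (algebraMap K L c) = algebraMap L Ω (algebraMap K L c)
      rw [ψ.commutes, IsScalarTower.algebraMap_apply K L Ω]
    let ξ : Spec (CommRingCat.of Ω) ⟶ X := Spec.map ι ≫ e ≫ f
    let s₁ : FEt.fiberObj ξ Z := ⟨Spec.map ι ≫ e, by rw [Category.assoc]⟩
    let s₂ : FEt.fiberObj ξ Z := ⟨Spec.map ψ' ≫ e, by
      show (Spec.map ψ' ≫ e) ≫ f = Spec.map ι ≫ e ≫ f
      rw [Category.assoc, ← Scheme.Hom.SpecMap_residueFieldMap_fromSpecResidueField f z, ← Category.assoc,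
        ← Spec.map_comp, hK, Spec.map_comp, Category.assoc]⟩
    obtain ⟨g, hg⟩ := hZ.2 Ω ξ s₁ s₂
    have hg' : (Spec.map ι ≫ e) ≫ g.hom.left = Spec.map ψ' ≫ e := congrArg Subtype.val hg
    have hgH : g ∈ H := by
      have h1 : g.hom.left (e (Spec.map ι (IsLocalRing.closedPoint Ω))) = e (Spec.map ψ' (IsLocalRing.closedPoint Ω)) :=
        congrArg (fun m => m (IsLocalRing.closedPoint Ω)) hg'
      rw [show e (Spec.map ι (IsLocalRing.closedPoint Ω)) = z from Scheme.fromSpecResidueField_apply z _,
        show e (Spec.map ψ' (IsLocalRing.closedPoint Ω)) = z from Scheme.fromSpecResidueField_apply z _] at h1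
      exact h1
    refine ⟨⟨g, hgH⟩, fun c => ?_⟩
    have h2 : σ ⟨g, hgH⟩ ≫ ι = ψ' := Spec.map_injective (by
      rw [← cancel_mono e, Spec.map_comp, Category.assoc, hσ, ← Category.assoc]
      exact hg')
    exact (ConcreteCategory.congr_hom h2 c).symm
  have hφsurj : ∀ ψ : L →ₐ[K] Ω, ∃ g : H, ∀ c, ψ c = algebraMap L Ω (φ g c) := fun ψ => by
    obtain ⟨g, hg⟩ := hsurj ψ
    refine ⟨g⁻¹, fun c => ?_⟩
    show ψ c = algebraMap L Ω ((σ (g⁻¹)⁻¹).hom c)
    rw [inv_inv]
    exact hg c
  let Φ : (L ≃ₐ[K] L) → (L →ₐ[K] Ω) := fun s => (IsScalarTower.toAlgHom K L Ω).comp s.toAlgHom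
  have hΦ : Function.Bijective Φ := by
    refine ⟨fun s s' h => AlgEquiv.ext fun c => (algebraMap L Ω).injective (DFunLike.congr_fun h c), fun ψ => ?_⟩
    obtain ⟨g, hg⟩ := hφsurj ψ
    exact ⟨φ g, AlgHom.ext fun c => (hg c).symm⟩
  have hcard : Nat.card (L ≃ₐ[K] L) = Module.finrank K L := by
    rw [Nat.card_eq_of_bijective Φ hΦ, Nat.card_eq_fintype_card]
    exact AlgHom.card K L Ω
  haveI : IsGalois K L := IsGalois.of_card_aut_eq_finrank _ _ hcard
  show EtRam.IsTamelyRamified A (algebraMap A L)
  refine isTamelyRamified_of_galois_degree K fun h => hn ?_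
  have hφs : Function.Surjective φ := fun s => by
    obtain ⟨g, hg⟩ := hφsurj (Φ s)
    exact ⟨g, AlgEquiv.ext fun c => (algebraMap L Ω).injective (hg c).symm⟩
  obtain ⟨m, hm⟩ := (Subgroup.card_dvd_of_surjective φ hφs).trans H.card_subgroup_dvd_card
  rw [hm, hcard, Nat.cast_mul, h, zero_mul]

end Groth.Agent.HensEt88
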