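import Groth.Agent.HensEt88.RootExt
import Groth.Agent.S1989

/-!
# Tame ramification and roots of a uniformizer
-/

set_option autoImplicit false
set_option linter.style.haveILetI false

namespace Groth.Agent.HensEt88

universe u

open IsLocalRing Polynomial

variable {A K : Type u} [CommRing A] [IsDomain A] [IsDiscreteValuationRing A] [Field K] [Algebra A K]
  [IsFractionRing A K]

theorem natCast_residueField_ne_zero {n : ℕ} (h0 : n ≠ 0)
    (h : ∀ p : ℕ, p.Prime → CharP (ResidueField A) p → ¬ p ∣ n) : (n : ResidueField A) ≠ 0 := by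
  intro hn
  obtain ⟨p, hp⟩ := CharP.exists (ResidueField A)
  have hd : p ∣ n := (CharP.cast_eq_zero_iff (ResidueField A) p n).mp hn
  rcases CharP.char_is_prime_or_zero (ResidueField A) p with hpp | hpz
  · exact h p hpp hp hd
  · subst hpz; exact h0 (zero_dvd_iff.mp hd)

theorem not_dvd_of_natCast_ne_zero {n : ℕ} (h : (n : ResidueField A) ≠ 0) (p : ℕ) (hc : CharP (ResidueField A) p) :
    ¬ p ∣ n := fun hd => h ((CharP.cast_eq_zero_iff (ResidueField A) p n).mpr hd)

omit [IsFractionRing A K] in
theorem root_pow_eq {e : ℕ} (π : A) :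
    AdjoinRoot.root (X ^ e - C π : A[X]) ^ e = AdjoinRoot.of (X ^ e - C π : A[X]) π := by
  have := AdjoinRoot.eval₂_root (X ^ e - C π : A[X])
  simp only [eval₂_sub, eval₂_pow, eval₂_X, eval₂_C, sub_eq_zero] at this
  exact this

variable {L' : Type u} [Field L'] [Algebra K L']

/-- A field unramified over `A[π^(1/e)]` is tamely ramified over `A`. -/
theorem isTamelyRamified_of_unramified_root [FiniteDimensional K L'] [Algebra.IsSeparable K L']
    {π : A} (hπ : maximalIdeal A = Ideal.span {π}) {e : ℕ} (he : 0 < e) (hek : (e : ResidueField A) ≠ 0)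
    (g : AdjoinRoot (X ^ e - C π : A[X]) →+* L')
    (hg : g.comp (AdjoinRoot.of (X ^ e - C π)) = (algebraMap K L').comp (algebraMap A K))
    (h : ∀ [IsLocalRing (AdjoinRoot (X ^ e - C π : A[X]))], EtRam.IsUnramifiedExt (AdjoinRoot (X ^ e - C π : A[X])) g) :
    EtRam.IsTamelyRamified A ((algebraMap K L').comp (algebraMap A K)) := by
  obtain ⟨hnoe, hsplit, hloc, hmax⟩ := adjoinRoot_local hπ he
  intro W hW
  letI : Algebra A W := (RingHom.codRestrict ((algebraMap K L').comp (algebraMap A K)) W hW.1).toAlgebra
  intro _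
  let A' := AdjoinRoot (X ^ e - C π : A[X])
  let r : A' := AdjoinRoot.root _
  have hgr : g r ^ e = (algebraMap K L').comp (algebraMap A K) π := by
    rw [← map_pow, root_pow_eq, ← hg]; rfl
  have hrW : W.valuation (g r) < 1 := by
    have h1 := hW.2 π (hπ ▸ Ideal.mem_span_singleton_self π)
    rw [← hgr, map_pow] at h1
    exact lt_of_not_ge fun h2 => absurd h1 (not_lt.mpr (one_le_pow₀ h2))
  have hmem : ∀ a, g a ∈ W := fun a => by
    obtain ⟨P, rfl⟩ := AdjoinRoot.mk_surjective a
    induction P using Polynomial.induction_on' with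
    | add p q hp hq => rw [map_add, map_add]; exact add_mem hp hq
    | monomial n c =>
      rw [← C_mul_X_pow_eq_monomial, map_mul, map_mul, map_pow, map_pow, AdjoinRoot.mk_C, AdjoinRoot.mk_X]
      refine mul_mem ?_ (pow_mem ((W.valuation_le_one_iff _).mp hrW.le) n)
      rw [← RingHom.comp_apply, hg]; exact hW.1 c
  have hW' : EtRam.Dominates A' g W := by
    refine ⟨hmem, fun a ha => ?_⟩
    rw [hmax, Ideal.mem_span_singleton'] at ha
    obtain ⟨c, rfl⟩ := ha
    rw [map_mul, map_mul]
    rw [mul_comm]
    exact mul_lt_one_of_lt_of_le hrW ((W.valuation_le_one_iff _).mpr (hmem c))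
  letI : Algebra A' W := (RingHom.codRestrict g W hW'.1).toAlgebra
  haveI : IsLocalHom (algebraMap A' W) := Dominates.isLocalHom hW'
  obtain ⟨hwu, hsep⟩ := h W hW'
  haveI : IsScalarTower A A' W := .of_algebraMap_eq fun a => Subtype.ext (RingHom.congr_fun hg a).symm
  haveI : IsLocalHom (algebraMap A A') := ⟨fun a ha => by
    by_contra hu
    have h1 : IsUnit (algebraMap A W a) := by rw [IsScalarTower.algebraMap_apply A A' W]; exact ha.map _
    exact hu (IsUnit.of_map (algebraMap A W) a h1)⟩
  haveI : IsScalarTower (ResidueField A) (ResidueField A') (ResidueField W) := .of_algebraMap_eq fun x => by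
    obtain ⟨a, rfl⟩ := residue_surjective x
    exact congrArg (residue W) (IsScalarTower.algebraMap_apply A A' W a)
  haveI : Algebra.IsSeparable (ResidueField A) (ResidueField A') := ⟨fun y => by
    obtain ⟨s, rfl⟩ := residue_surjective y
    obtain ⟨a, b', rfl⟩ := hsplit s
    rw [show residue A' (AdjoinRoot.of _ a + r * b') = algebraMap (ResidueField A) (ResidueField A') (residue A a) by
      rw [map_add, map_mul, (residue_eq_zero_iff r).mpr (hmax ▸ Ideal.mem_span_singleton_self r), zero_mul, add_zero]
      rfl]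
    exact isSeparable_algebraMap _⟩
  haveI := hsep
  refine ⟨Algebra.IsSeparable.trans (ResidueField A) (ResidueField A') (ResidueField W), fun p hp hc => ?_⟩
  haveI := isDiscreteValuationRing_of_dominates hW
  have hmap : (maximalIdeal A).map (algebraMap A W) = maximalIdeal W ^ e := by
    conv_rhs => rw [← hwu, hmax, ← Ideal.map_pow, Ideal.span_singleton_pow, root_pow_eq, Ideal.map_span, Set.image_singleton]
    refine (congrArg (Ideal.map (algebraMap A W)) hπ).trans ?_
    rw [Ideal.map_span, Set.image_singleton, IsScalarTower.algebraMap_apply A A' W]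
    rfl
  rw [Ideal.ramificationIdx'_spec hmap.le (by
    rw [hmap]
    exact fun hle => (Ideal.pow_right_strictAnti _ (IsDiscreteValuationRing.not_a_field W)
      (maximalIdeal.isMaximal W).ne_top (Nat.lt_succ_self _)).not_ge hle)]
  exact not_dvd_of_natCast_ne_zero hek p hc

variable (A K) in
/-- A separable field extension generated by an `e`-th root. -/
theorem exists_root_extension (L : Type u) [Field L] {e : ℕ} (he : (e : L) ≠ 0) {c : L} (hc : c ≠ 0) :
    ∃ (F : Type u) (_ : Field F) (_ : Algebra L F) (ζ : F),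
      FiniteDimensional L F ∧ Algebra.IsSeparable L F ∧ ζ ^ e = algebraMap L F c ∧ Algebra.adjoin L {ζ} = ⊤ := by
  have he0 : e ≠ 0 := fun h => he (by rw [h, Nat.cast_zero])
  have hf : (X ^ e - C c : L[X]).natDegree ≠ 0 := by rw [natDegree_X_pow_sub_C]; exact he0
  obtain ⟨P, hPm, hPi, hPd⟩ := Polynomial.exists_monic_irreducible_factor (X ^ e - C c : L[X])
    (fun hu => hf (natDegree_eq_zero_of_isUnit hu))
  haveI := Fact.mk hPi
  have hroot : AdjoinRoot.root P ^ e = algebraMap L (AdjoinRoot P) c := by
    have h1 : aeval (AdjoinRoot.root P) (X ^ e - C c : L[X]) = 0 := by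
      obtain ⟨Q, hQ⟩ := hPd
      rw [hQ, map_mul, AdjoinRoot.aeval_eq, AdjoinRoot.mk_self, zero_mul]
    rw [map_sub, map_pow, aeval_X, aeval_C, sub_eq_zero] at h1
    exact h1
  haveI : FiniteDimensional L (AdjoinRoot P) := hPm.finite_adjoinRoot
  have hsep : IsSeparable L (AdjoinRoot.root P) := by
    show (minpoly L (AdjoinRoot.root P)).Separable
    rw [← minpoly.eq_of_irreducible_of_monic hPi (by rw [AdjoinRoot.aeval_eq, AdjoinRoot.mk_self]) hPm]
    exact (separable_X_pow_sub_C c he hc).of_dvd hPd
  haveI : Algebra.IsSeparable L (IntermediateField.adjoin L {AdjoinRoot.root P}) :=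
    (IntermediateField.isSeparable_adjoin_simple_iff_isSeparable L (AdjoinRoot P)).mpr hsep
  have htop : IntermediateField.adjoin L {AdjoinRoot.root P} = ⊤ := by
    refine top_le_iff.mp fun y _ => IntermediateField.algebra_adjoin_le_adjoin L _ ?_
    rw [AdjoinRoot.adjoinRoot_eq_top]; trivial
  exact ⟨AdjoinRoot P, inferInstance, inferInstance, AdjoinRoot.root P, inferInstance,
    AlgEquiv.Algebra.isSeparable ((IntermediateField.equivOfEq htop).trans IntermediateField.topEquiv), hroot,
    AdjoinRoot.adjoinRoot_eq_top⟩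

/-- Abhyankar: over a root of sufficiently divisible degree a tame extension becomes unramified. -/
theorem exists_unramified_over_root {L : Type u} [Field L] [Algebra K L] [FiniteDimensional K L]
    [Algebra.IsSeparable K L] (h : EtRam.IsTamelyRamified A ((algebraMap K L).comp (algebraMap A K)))
    {π : A} (hπ : maximalIdeal A = Ideal.span {π}) {e : ℕ} (he : 0 < e) (hek : (e : ResidueField A) ≠ 0)
    (hdiv : ∀ (V : ValuationSubring L) (hV : EtRam.Dominates A ((algebraMap K L).comp (algebraMap A K)) V),
      letI : Algebra A V := (RingHom.codRestrict ((algebraMap K L).comp (algebraMap A K)) V hV.1).toAlgebra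
      Ideal.ramificationIdx' (maximalIdeal A) (maximalIdeal V) ∣ e) :
    ∃ (L' : Type u) (_ : Field L') (_ : Algebra K L')
      (_ : Algebra (AdjoinRoot (X ^ e - C π : A[X])) L') (_ : L →ₐ[K] L'),
      FiniteDimensional K L' ∧ Algebra.IsSeparable K L' ∧
      (algebraMap (AdjoinRoot (X ^ e - C π : A[X])) L').comp (AdjoinRoot.of (X ^ e - C π)) =
        (algebraMap K L').comp (algebraMap A K) ∧
      ∀ [IsLocalRing (AdjoinRoot (X ^ e - C π : A[X]))],
        EtRam.IsUnramifiedExt (AdjoinRoot (X ^ e - C π : A[X]))
          (algebraMap (AdjoinRoot (X ^ e - C π : A[X])) L') := by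
  have hπ0 : π ≠ 0 := fun h0 => IsDiscreteValuationRing.not_a_field A (by rw [hπ, h0]; simp)
  have heA : (e : A) ≠ 0 := fun h0 => hek (by rw [← map_natCast (residue A), h0, map_zero])
  have heL : (e : L) ≠ 0 := by
    rw [← map_natCast ((algebraMap K L).comp (algebraMap A K)), Ne, RingHom.comp_apply, map_eq_zero,
      IsFractionRing.to_map_eq_zero_iff]
    exact heA
  have hc : algebraMap K L (algebraMap A K π) ≠ 0 := by
    rw [Ne, map_eq_zero, IsFractionRing.to_map_eq_zero_iff]; exact hπ0
  obtain ⟨L', fL', aL', ζ, hfd, hsepL', hζ, hgen⟩ := exists_root_extension L heL hc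
  letI : Algebra K L' := ((algebraMap L L').comp (algebraMap K L)).toAlgebra
  haveI : IsScalarTower K L L' := .of_algebraMap_eq' rfl
  haveI : FiniteDimensional K L' := FiniteDimensional.trans K L L'
  haveI : Algebra.IsSeparable K L' := Algebra.IsSeparable.trans K L L'
  obtain ⟨hnoe, hsplit, hlocA, hmax⟩ := adjoinRoot_local hπ he
  let A' := AdjoinRoot (X ^ e - C π : A[X])
  let g : A' →+* L' := AdjoinRoot.lift ((algebraMap K L').comp (algebraMap A K)) ζ (by
    simp [hζ, IsScalarTower.algebraMap_apply K L L'])
  letI : Algebra A' L' := g.toAlgebra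
  have hgA : ∀ a : A, g (AdjoinRoot.of _ a) = (algebraMap K L').comp (algebraMap A K) a :=
    fun a => AdjoinRoot.lift_of _
  refine ⟨L', fL', inferInstance, inferInstance, IsScalarTower.toAlgHom K L L', inferInstance, inferInstance,
    RingHom.ext fun a => ?_, ?_⟩
  · exact hgA a
  intro _ W hW
  letI : Algebra A' W := (RingHom.codRestrict (algebraMap A' L') W hW.1).toAlgebra
  intro _
  let r : A' := AdjoinRoot.root _
  have hrm : r ∈ maximalIdeal A' := hmax ▸ Ideal.mem_span_singleton_self r
  have hofm : ∀ a ∈ maximalIdeal A, AdjoinRoot.of (X ^ e - C π) a ∈ maximalIdeal A' := fun a ha => by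
    rw [hπ, Ideal.mem_span_singleton'] at ha
    obtain ⟨c, rfl⟩ := ha
    rw [map_mul, ← root_pow_eq]
    exact Ideal.mul_mem_left _ _ (Ideal.pow_mem_of_mem _ hrm e he)
  have hAW : EtRam.Dominates A ((algebraMap K L').comp (algebraMap A K)) W :=
    ⟨fun a => hgA a ▸ hW.1 _, fun a ha => hgA a ▸ hW.2 _ (hofm a ha)⟩
  letI : Algebra A W := (RingHom.codRestrict ((algebraMap K L').comp (algebraMap A K)) W hAW.1).toAlgebra
  haveI : IsLocalHom (algebraMap A W) := Dominates.isLocalHom hAW
  haveI : IsScalarTower A A' W := .of_algebraMap_eq fun a => Subtype.ext (hgA a).symm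
  -- below
  let V : ValuationSubring L := W.comap (algebraMap L L')
  have hV : EtRam.Dominates A ((algebraMap K L).comp (algebraMap A K)) V :=
    dominates_comap (algebraMap L L') (by rw [← RingHom.comp_assoc]; rfl) hAW
  have hVW : EtRam.Dominates V ((algebraMap L L').comp V.subtype) W := dominates_subtype_comap (algebraMap L L') W
  letI : Algebra A V := (RingHom.codRestrict ((algebraMap K L).comp (algebraMap A K)) V hV.1).toAlgebra
  letI : Algebra V W := (RingHom.codRestrict ((algebraMap L L').comp V.subtype) W hVW.1).toAlgebra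
  haveI : IsLocalHom (algebraMap A V) := Dominates.isLocalHom hV
  haveI : IsLocalHom (algebraMap V W) := Dominates.isLocalHom hVW
  haveI := isDiscreteValuationRing_of_dominates hV
  haveI := isDiscreteValuationRing_of_dominates hAW
  haveI : IsScalarTower A V W := .of_algebraMap_eq fun a => Subtype.ext rfl
  obtain ⟨hsepV, -⟩ := h V hV
  have hdiv' := hdiv V hV
  have hVm := map_maximalIdeal_eq_pow A V (map_maximalIdeal_ne_bot hV)
  generalize Ideal.ramificationIdx' (maximalIdeal A) (maximalIdeal V) = a at hdiv' hVm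
  obtain ⟨t, ht⟩ := IsDiscreteValuationRing.exists_irreducible V
  have hspan : Ideal.span {algebraMap A V π} = Ideal.span {t ^ a} := by
    rw [← Ideal.span_singleton_pow, ← ht.maximalIdeal_eq, ← hVm, ← Set.image_singleton, ← Ideal.map_span]
    exact congrArg (Ideal.map (algebraMap A V)) hπ.symm
  obtain ⟨u, hu⟩ := Ideal.span_singleton_eq_span_singleton.mp hspan
  letI : Algebra V L' := ((algebraMap L L').comp V.subtype).toAlgebra
  haveI : IsScalarTower V L L' := .of_algebraMap_eq' rfl
  have hekV : (e : ResidueField V) ≠ 0 := by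
    rw [← map_natCast (algebraMap (ResidueField A) (ResidueField V)), Ne, map_eq_zero]; exact hek
  have hζ' : ζ ^ e = algebraMap V L' (↑u⁻¹ * t ^ a) := by
    rw [← hu, mul_comm (algebraMap A V π), ← mul_assoc, Units.inv_mul, one_mul, hζ]
    rfl
  obtain ⟨hsepW, e', he', hVW'⟩ := rootExt (L := L) (F := L') ht u⁻¹ a e he hekV ζ hζ' hgen W hVW
  rw [Nat.gcd_eq_left hdiv'] at he'
  refine ⟨?_, ?_⟩
  · have hne : (maximalIdeal A').map (algebraMap A' W) ≠ ⊥ := by
      intro h0
      have h1 : algebraMap A' W r = 0 := by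
        have := Ideal.mem_map_of_mem (algebraMap A' W) hrm
        rwa [h0, Ideal.mem_bot] at this
      have h2 : algebraMap A W π = 0 := by
        rw [IsScalarTower.algebraMap_apply A A' W]
        show algebraMap A' W (AdjoinRoot.of _ π) = 0
        rw [← root_pow_eq, map_pow, h1, zero_pow he.ne']
      exact hπ0 (IsFractionRing.injective A K ((algebraMap K L').injective ((congrArg Subtype.val h2).trans
        (by rw [map_zero, map_zero]; rfl))))
    refine (isWeaklyUnramified_iff A' W hne).mpr ?_
    have h1 : (maximalIdeal A).map (algebraMap A W) = maximalIdeal W ^ e := by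
      rw [IsScalarTower.algebraMap_eq A V W, ← Ideal.map_map, hVm, Ideal.map_pow, hVW', ← pow_mul, he']
    have h2 : (maximalIdeal A).map (algebraMap A W) = ((maximalIdeal A').map (algebraMap A' W)) ^ e := by
      rw [hmax, ← Ideal.map_pow, Ideal.span_singleton_pow, root_pow_eq, Ideal.map_span, Set.image_singleton]
      refine (congrArg (Ideal.map (algebraMap A W)) hπ).trans ?_
      rw [Ideal.map_span, Set.image_singleton, IsScalarTower.algebraMap_apply A A' W]
      rfl
    rw [map_maximalIdeal_eq_pow A' W hne, h1, ← pow_mul] at h2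
    have h3 := (Ideal.pow_right_strictAnti _ (IsDiscreteValuationRing.not_a_field W)
      (maximalIdeal.isMaximal W).ne_top).injective h2
    exact (Nat.mul_eq_right he.ne').mp h3.symm
  · haveI : IsLocalHom (algebraMap A A') := ⟨fun a ha => by_contra fun hn => hofm a hn ha⟩
    haveI : IsScalarTower (ResidueField A) (ResidueField A') (ResidueField W) := .of_algebraMap_eq fun x => by
      obtain ⟨a, rfl⟩ := residue_surjective x
      exact congrArg (residue W) (IsScalarTower.algebraMap_apply A A' W a)
    haveI : IsScalarTower (ResidueField A) (ResidueField V) (ResidueField W) := .of_algebraMap_eq fun x => by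
      obtain ⟨a, rfl⟩ := residue_surjective x
      exact congrArg (residue W) (IsScalarTower.algebraMap_apply A V W a)
    haveI := hsepV
    haveI := hsepW
    haveI : Algebra.IsSeparable (ResidueField A) (ResidueField W) :=
      Algebra.IsSeparable.trans (ResidueField A) (ResidueField V) (ResidueField W)
    exact Algebra.isSeparable_tower_top_of_isSeparable (ResidueField A) (ResidueField A') (ResidueField W)

variable (A K) in
/-- A uniform degree for Abhyankar's lemma. -/
theorem exists_uniform_index {L : Type u} [Field L] [Algebra K L] [FiniteDimensional K L]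
    [Algebra.IsSeparable K L] (h : EtRam.IsTamelyRamified A ((algebraMap K L).comp (algebraMap A K))) :
    ∃ e₀ : ℕ, 0 < e₀ ∧ (e₀ : ResidueField A) ≠ 0 ∧
      ∀ (V : ValuationSubring L) (hV : EtRam.Dominates A ((algebraMap K L).comp (algebraMap A K)) V),
      letI : Algebra A V := (RingHom.codRestrict ((algebraMap K L).comp (algebraMap A K)) V hV.1).toAlgebra
      Ideal.ramificationIdx' (maximalIdeal A) (maximalIdeal V) ∣ e₀ := by
  classical
  letI : Algebra A L := ((algebraMap K L).comp (algebraMap A K)).toAlgebra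
  haveI : IsScalarTower A K L := .of_algebraMap_eq' rfl
  have hfin : {V : ValuationSubring L | EtRam.Dominates A (algebraMap A L) V}.Finite := finite_dominates A K L
  haveI := hfin.fintype
  let ind : {V : ValuationSubring L | EtRam.Dominates A (algebraMap A L) V} → ℕ := fun V =>
    letI : Algebra A V.1 := (RingHom.codRestrict (algebraMap A L) V.1 V.2.1).toAlgebra
    Ideal.ramificationIdx' (maximalIdeal A) (maximalIdeal V.1)
  have hind : ∀ V, ind V ≠ 0 ∧ (ind V : ResidueField A) ≠ 0 := fun ⟨V, hV⟩ => by
    letI : Algebra A V := (RingHom.codRestrict (algebraMap A L) V hV.1).toAlgebra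
    haveI : IsLocalHom (algebraMap A V) := Dominates.isLocalHom hV
    haveI : IsDiscreteValuationRing V := isDiscreteValuationRing_of_dominates (K := K) hV
    have h0 : ind ⟨V, hV⟩ ≠ 0 := fun h0 => by
      have h1 := map_maximalIdeal_eq_pow A V (map_maximalIdeal_ne_bot (K := K) hV)
      rw [show Ideal.ramificationIdx' (maximalIdeal A) (maximalIdeal V) = 0 from h0, pow_zero, Ideal.one_eq_top] at h1
      exact (maximalIdeal.isMaximal V).ne_top (top_le_iff.mp (h1.ge.trans
        (((local_hom_TFAE (algebraMap A V)).out 0 2).mp ‹IsLocalHom (algebraMap A V)›)))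
    exact ⟨h0, natCast_residueField_ne_zero h0 fun p hp hc => (h V hV).2 p hp hc⟩
  refine ⟨∏ V, ind V, Finset.prod_pos fun V _ => Nat.pos_of_ne_zero (hind V).1, ?_, fun V hV => ?_⟩
  · rw [Nat.cast_prod, Finset.prod_ne_zero_iff]; exact fun V _ => (hind V).2
  · exact Finset.dvd_prod_of_mem ind (Finset.mem_univ (⟨V, hV⟩ : {V : ValuationSubring L | EtRam.Dominates A (algebraMap A L) V}))

end Groth.Agent.HensEt88
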