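import Groth.Agent.HensEt88.DvrModel

/-!
# Totally ramified extensions
-/

set_option autoImplicit false
set_option linter.style.haveILetI false

namespace Groth.Agent.HensEt88

universe u

open IsLocalRing TensorProduct

variable {A K K₁ : Type u} [CommRing A] [IsDomain A] [IsDiscreteValuationRing A] [Field K] [Algebra A K]
  [IsFractionRing A K] [Field K₁] [Algebra K K₁] [FiniteDimensional K K₁] [Algebra.IsSeparable K K₁]
  [Algebra A K₁] [IsScalarTower A K K₁]

include K in
/-- The integral closure in a totally ramified extension. -/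
theorem integralClosure_of_totallyRamified (ht : EtRam.IsTotallyRamified A (algebraMap A K₁)) :
    ∃ ϖ : integralClosure A K₁, ϖ ≠ 0 ∧ (∀ x, ∃ (a : A) (y : integralClosure A K₁), x = algebraMap A _ a + ϖ * y) ∧
      (∀ a ∈ maximalIdeal A, ϖ ∣ algebraMap A (integralClosure A K₁) a) ∧
      ∀ a ≠ (0 : A), ∃ n : ℕ, algebraMap A (integralClosure A K₁) a ∣ ϖ ^ n := by
  classical
  let A' := integralClosure A K₁
  obtain ⟨⟨V, hV⟩, huniq, hsurj⟩ := ht
  haveI : IsDedekindDomain A' := integralClosure.isDedekindDomain A K K₁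
  have hinjA : Function.Injective (algebraMap A K₁) := by
    rw [IsScalarTower.algebraMap_eq A K K₁]
    exact (algebraMap K K₁).injective.comp (IsFractionRing.injective A K)
  -- the maximal ideal is unique
  have hmax : ∀ P : Ideal A', P.IsMaximal → P = centre hV := by
    intro P hP
    have hP' : P.comap (algebraMap A A') = maximalIdeal A :=
      IsLocalRing.eq_maximalIdeal (Ideal.isMaximal_comap_of_isIntegral_of_isMaximal (R := A) P)
    haveI := hP.isPrime
    have hu : ∀ s : P.primeCompl, IsUnit ((algebraMap A' K₁) s) := fun s => isUnit_iff_ne_zero.mpr fun h =>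
      s.2 (by rw [show (s : A') = 0 from Subtype.ext h]; exact P.zero_mem)
    obtain ⟨W, hW, hl⟩ := IsLocalRing.exists_factor_valuationRing (R := Localization.AtPrime P) (K := K₁) (IsLocalization.lift hu)
    have hWd : EtRam.Dominates (Localization.AtPrime P) (IsLocalization.lift hu) W :=
      @dominates_of_isLocalHom (Localization.AtPrime P) _ _ K₁ _ (IsLocalization.lift hu) W hW hl
    have hAW : EtRam.Dominates A (algebraMap A K₁) W := by
      refine ⟨fun a => ?_, fun a ha => ?_⟩
      · have := hWd.1 (algebraMap A' _ (algebraMap A A' a))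
        rwa [IsLocalization.lift_eq] at this
      · have := hWd.2 (algebraMap A' _ (algebraMap A A' a)) ((IsLocalization.AtPrime.to_map_mem_maximal_iff _ P _).mpr
          (Ideal.mem_comap.mp (hP'.ge ha)))
        rwa [IsLocalization.lift_eq] at this
    obtain rfl := huniq V W hV hAW
    refine hP.eq_of_le (Ideal.IsPrime.ne_top inferInstance) fun x hx => (mem_centre hV x).mpr ?_
    have := hWd.2 (algebraMap A' _ x) ((IsLocalization.AtPrime.to_map_mem_maximal_iff _ P _).mpr hx)
    rwa [IsLocalization.lift_eq] at this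
  haveI : IsLocalRing A' := IsLocalRing.of_unique_max_ideal ⟨centre hV, centre_isMaximal (K := K) hV, hmax⟩
  have hm : maximalIdeal A' = centre hV := hmax _ (maximalIdeal.isMaximal _)
  haveI : IsPrincipalIdealRing A' := IsPrincipalIdealRing.of_finite_primes (by
    refine Set.Finite.subset (Set.toFinite {⊥, maximalIdeal A'}) fun P hP => ?_
    rcases eq_or_ne P ⊥ with h | h
    · exact Or.inl h
    · exact Or.inr (IsLocalRing.eq_maximalIdeal (hP.isMaximal h)))
  obtain ⟨ϖ, hϖ⟩ := (IsPrincipalIdealRing.principal (maximalIdeal A')).principal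
  have hϖ0 : ϖ ≠ 0 := by
    intro h
    apply centre_ne_bot (K := K) hV
    rw [← hm, hϖ, h]
    simp
  refine ⟨ϖ, hϖ0, fun x => ?_, fun a ha => ?_, fun a ha => ?_⟩
  · letI : Algebra A V := ((algebraMap A K₁).codRestrict V hV.1).toAlgebra
    obtain ⟨a, ha⟩ := hsurj V hV (residue V ⟨(x : K₁), integralClosure_le_of_dominates hV x⟩)
    have h1 : x - algebraMap A A' a ∈ maximalIdeal A' := by
      rw [hm]
      refine (mem_centre hV _).mpr ?_
      have h2 : (⟨(x : K₁), integralClosure_le_of_dominates hV x⟩ : V) - RingHom.codRestrict (algebraMap A K₁) V hV.1 a ∈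
          maximalIdeal V := by
        rw [← residue_eq_zero_iff, map_sub, sub_eq_zero]; exact ha.symm
      exact (V.valuation_lt_one_iff _).mp h2
    rw [hϖ, Submodule.mem_span_singleton] at h1
    obtain ⟨y, hy⟩ := h1
    exact ⟨a, y, by rw [mul_comm, ← smul_eq_mul, hy, add_sub_cancel]⟩
  · have h1 : algebraMap A A' a ∈ maximalIdeal A' := hm ▸ (mem_centre hV _).mpr (hV.2 a ha)
    rw [hϖ, Submodule.mem_span_singleton] at h1
    obtain ⟨y, hy⟩ := h1
    exact ⟨y, by rw [mul_comm]; exact hy.symm⟩
  · suffices h : ϖ ∈ (Ideal.span {algebraMap A A' a}).radical by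
      obtain ⟨n, hn⟩ := h
      exact ⟨n, Ideal.mem_span_singleton.mp hn⟩
    rw [Ideal.radical_eq_sInf, Ideal.mem_sInf]
    rintro P ⟨hP, hPp⟩
    have hP0 : P ≠ ⊥ := fun h => ha (hinjA (by
      have h1 := hP (Ideal.mem_span_singleton_self _)
      rw [h, Ideal.mem_bot] at h1
      rw [map_zero]; exact congrArg Subtype.val h1))
    rw [IsLocalRing.eq_maximalIdeal (hPp.isMaximal hP0), hϖ]
    exact Submodule.mem_span_singleton_self ϖ

end Groth.Agent.HensEt88
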